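/-
P21: finite simple groups whose 2-elements are irrational.  Interface (see plans/P21.md).
-/
import Cfsg.Agent.P18.Defs
import Cfsg.Agent.P7.RT
import Cfsg.Agent.P14.C
import Cfsg.Agent.P29.Ly

set_option autoImplicit false
set_option linter.unusedSectionVars false

namespace Cfsg.Agent.P21

open Subgroup Cfsg Cfsg.Agent Cfsg.Agent.FT
open Cfsg.Agent.P14 (SC SzT)
open Cfsg.Agent.P18 (CHyp sqs)
open Cfsg.Agent.H2 (CompIn)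
open Cfsg.Agent.P6 (Inv Od Qt pr)
open Cfsg.Agent.P7 (br Zc Oc Zb)
open scoped commutatorElement

universe u

/-- `x` is a 2-element. -/
def Two {G : Type u} [Group G] (x : G) : Prop := ∃ k : ℕ, x ^ 2 ^ k = 1

/-- `N(⟨x⟩) = C(x)` for all 2-elements `x`. -/
def I2 (G : Type u) [Group G] : Prop :=
  ∀ x g : G, Two x → g * x * g⁻¹ ∈ zpowers x → g * x = x * g

/-- `G` is the quotient of an `I2`-group by a central 2-subgroup and `𝒜` is the set of the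
nontrivial images of involutions. -/
def CI (G : Type u) [Group G] (𝒜 : Set G) : Prop :=
  ∃ (H : Type u) (_ : Group H) (_ : Finite H) (f : H →* G), Function.Surjective f ∧
    f.ker ≤ center H ∧ IsPGroup 2 f.ker ∧ I2 H ∧ ∀ a, a ∈ 𝒜 ↔ a ≠ 1 ∧ ∃ b, b * b = 1 ∧ f b = a

/-- The conclusion of the theorem. -/
def Kn (L : Type u) [Group L] : Prop :=
  (∀ P : Subgroup L, IsPGroup 2 P → IsMulCommutative P) ∨ ¬ 3 ∣ Nat.card L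

/-- The theorem holds below order `n`. -/
def KI (n : ℕ) : Prop := ∀ (L : Type u) [Group L] [Finite L] (𝒜 : Set L), Nat.card L < n →
  CI L 𝒜 → IsSimpleGroup L → ¬ IsMulCommutative L → Kn L

theorem KI.mono {m n : ℕ} (h : KI.{u} n) (hm : m ≤ n) : KI.{u} m :=
  fun L _ _ 𝒜 a => h L 𝒜 (a.trans_le hm)

variable {G : Type u} [Group G] [Finite G]

/-- The properties (a), (b) of the class `𝒜`. -/
structure GA (𝒜 : Set G) : Prop where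
  inv : ∀ a ∈ 𝒜, Inv a
  conj : ∀ a ∈ 𝒜, ∀ g : G, g * a * g⁻¹ ∈ 𝒜
  mul : ∀ a ∈ 𝒜, ∀ b ∈ 𝒜, a ≠ b → a * b = b * a → a * b ∈ 𝒜
  two : ∀ P : Subgroup G, IsPGroup 2 P → ∀ a ∈ 𝒜, ∀ b ∈ 𝒜, a ∈ P → b ∈ P → a * b = b * a
  odd : ∀ P : Subgroup G, IsPGroup 2 P → ∀ σ ∈ 𝐍(P), Odd (orderOf σ) →
    (∀ a ∈ 𝒜, a ∈ P → σ ∈ 𝐂[a]) → σ ∈ 𝐂(P)

/-- The image of `𝒜 ∩ X` in `X / O(X)`. -/
def ab (𝒜 : Set G) (X : Subgroup G) : Set (Qt X) := pr X '' {x : X | (x : G) ∈ 𝒜}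

/-- A simple component with elementary abelian Sylow 2-subgroup `T`. -/
structure AbT (K T : Subgroup G) : Prop where
  simple : IsSimpleGroup K
  cen : K ⊓ 𝐂(K) = ⊥
  gd : P7.Gd K
  syl : IsSyl 2 T K
  el : IsElementaryAbelian 2 T

/-- The types of the components. -/
def Ty (H : Type u) [Group H] [Finite H] : Prop := ∀ K T : Subgroup H, CompIn ⊤ K → IsSyl 2 T K →
  (∃ Zh n r, SzT K T Zh n r) ∨ AbT K T

/-- A minimal counterexample. -/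
structure Amb (𝒜 : Set G) : Prop where
  sim : IsSimpleGroup G
  nc : ¬ IsMulCommutative G
  ga : GA 𝒜
  gq : ∀ X : Subgroup G, GA (ab 𝒜 X)
  ty : ∀ X : Subgroup G, X ≠ ⊤ → Ty (Qt X)

/-- A minimal strongly closed subgroup of the class. -/
structure Gl (𝒜 : Set G) (A S : Subgroup G) : Prop extends Amb 𝒜 where
  el : IsElementaryAbelian 2 A
  ne : A ≠ ⊥
  sc : SC ⊤ A
  irr : ∀ U ≤ A, 𝐍(A) ≤ 𝐍(U) → U = ⊥ ∨ U = A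
  mem : ∀ a ∈ A, a ≠ 1 → a ∈ 𝒜
  syl : IsSyl 2 S ⊤
  le : A ≤ S

/-- `K` is the preimage of a component of `X / O(X)`. -/
structure Cq (X K : Subgroup G) : Prop where
  od : Od X ≤ K
  le : K ≤ X
  comp : CompIn ⊤ (br X K)

/-- A component of `X / O(X)` that is not centralized by `A`. -/
structure Act (A X K : Subgroup G) : Prop extends Cq X K where
  act : ¬ A ≤ Zc X K

/-- The subgroup generated by the conjugates of elements of `A` in `K`. -/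
def IA (A K : Subgroup G) : Subgroup G := closure {x | x ∈ K ∧ ∃ g : G, g * x * g⁻¹ ∈ A}

/-- `A = V × B` and `R ≤ K` has odd order, centralizes `B` and is transitive on `V^#`. -/
structure Dc (A K B V R : Subgroup G) : Prop where
  vle : V ≤ A ⊓ K
  ble : B ≤ A
  dec : ∀ a ∈ A, ∃ v ∈ V, ∃ b ∈ B, v * b = a
  disj : ∀ v ∈ V, v ∈ B → v = 1
  four : 4 ≤ 𝐨(V)
  odd : Odd 𝐨(R)
  rle : R ≤ K ⊓ 𝐂(B) ⊓ 𝐍(V)
  tr : ∀ v ∈ V, v ≠ 1 → ∀ w ∈ V, w ≠ 1 → ∃ σ ∈ R, σ * v * σ⁻¹ = w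

/-- The first half of the local analysis. -/
structure LocA (A X : Subgroup G) : Prop where
  el : IsElementaryAbelian 2 A
  sc : SC ⊤ A
  le : A ≤ X
  nrm : ∀ K, Cq X K → IA A X ≤ 𝐍(K)
  dc : ∀ K, Act A X K → ∃ V R, Dc A K (A ⊓ Zc X K) V R
  o2 : ∀ b ∈ A, (∀ K, Act A X K → b ∈ Zc X K) → ∀ x ∈ IA A X, ⁅x, b⁆ ∈ Od X
  gen : ∀ M, Od X ≤ M → (∀ K, Act A X K → K ≤ M) → X ⊓ 𝐍(A) ≤ M → X ≤ M
  oddN : ∀ K, Act A X K → ∀ D ≤ X, Odd 𝐨(D) → A ≤ 𝐍(D) → D ≤ 𝐍(K)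
  memOd : ∀ a ∈ A, ∀ D ≤ X ⊓ 𝐂[a], Odd 𝐨(D) → X ⊓ 𝐂[a] ≤ 𝐍(D) → ∀ x ∈ D,
    (∀ K, Act A X K → x ∈ Zc X K) → x ∈ Od X

/-- Balance. -/
def Bal (A X K : Subgroup G) : Prop := ∀ D ≤ X, Odd 𝐨(D) → A ≤ 𝐍(D) → ∀ a ∈ A,
  X ⊓ 𝐂[a] ≤ 𝐍(D) → D ≤ Zc X K

/-- A block of Suzuki type. -/
structure SzB (A X K : Subgroup G) : Prop where
  eight : 8 * 𝐨((A ⊓ Zc X K : Subgroup G)) ≤ 𝐨(A)
  comm : ∀ u ∈ X ⊓ 𝐍(K) ⊓ 𝐍(A), Two u → ∀ a ∈ A, ⁅a, u⁆ ∈ Zc X K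

/-- A block of abelian type. -/
structure AbB (A X K : Subgroup G) : Prop where
  syl : IsSyl 2 (A ⊓ K) K
  disj : K ⊓ Zc X K ≤ Od X
  inner : ∀ s ∈ X ⊓ 𝐍(K) ⊓ 𝐂(A), Two s → ∃ v ∈ A ⊓ K, v * s ∈ Zc X K

/-- The second half of the local analysis. -/
structure LocB (A X : Subgroup G) : Prop where
  d2 : ∀ K, Act A X K → Bal A X K ∨ 𝐨(A) = 4 * 𝐨((A ⊓ Zc X K : Subgroup G))
  ty : ∀ K, Act A X K → SzB A X K ∨ AbB A X K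
  fix : ∀ K, Act A X K → ∀ τ ∈ K ⊓ 𝐍(A), Two τ → ∃ v ∈ A, v ∉ Zc X K ∧ τ ∈ 𝐂[v]
  zz : ∀ K, Act A X K → (∀ τ ∈ K ⊓ 𝐍(A), Two τ → τ ∈ 𝐂(A)) → A ⊓ K ⊓ Zc X K = ⊥

/-- Pumping an active component up to another overgroup of `A`. -/
def Pump (A X X' : Subgroup G) : Prop := ∀ K, Act A X K → K ≤ K ⊓ X' ⊔ Od X →
  ∃ K', Act A X' K' ∧ IA A (K ⊓ X') ≤ K' ∧ ∀ u ∈ 𝐍(K), u ∈ Zc X' K' → u ∈ Zc X K

/-- `Gl` with the local analysis. -/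
structure Gx (𝒜 : Set G) (A S : Subgroup G) : Prop extends Gl 𝒜 A S where
  la : ∀ X : Subgroup G, X ≠ ⊤ → A ≤ X → LocA A X
  lb : ∀ X : Subgroup G, X ≠ ⊤ → A ≤ X → LocB A X
  pump : ∀ X X' : Subgroup G, X ≠ ⊤ → A ≤ X → X' ≠ ⊤ → A ≤ X' → Pump A X X'

/-- A block: an active component in the centralizer of an involution of `A`. -/
structure Bk (A : Subgroup G) (a : G) (K : Subgroup G) : Prop where
  mem : a ∈ A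
  inv : Inv a
  act : Act A 𝐂[a] K

/-- A block with `B = A ⊓ Zb a K` of the least order. -/
structure Mb (A : Subgroup G) (a : G) (K : Subgroup G) : Prop extends Bk A a K where
  min : ∀ c K', Bk A c K' → 𝐨((A ⊓ Zb a K : Subgroup G)) ≤ 𝐨((A ⊓ Zb c K' : Subgroup G))

/-- The good case. -/
def Good (A S : Subgroup G) : Prop := S ≤ 𝐂(A) ∧ A ⊓ sqs S = ⊥

/-- All 2-subgroups are abelian. -/
def Ab2 (G : Type u) [Group G] : Prop := ∀ P : Subgroup G, IsPGroup 2 P → IsMulCommutative P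

/-- Chapter Z. -/
def ZStmt : Prop := ∀ (G : Type u) [Group G] [Finite G] (𝒜 : Set G) (K T : Subgroup G), GA 𝒜 →
  IsQuasisimple K → IsPGroup 2 (K ⊓ 𝐂(K) : Subgroup G) → Kn (K ⧸ center K) → IsSyl 2 T K →
  (∃ Zh n r, SzT K T Zh n r) ∨ AbT K T

/-- Chapter CI. -/
def AmbStmt : Prop := ∀ (G : Type u) [Group G] [Finite G] (𝒜 : Set G), IsSimpleGroup G →
  ¬ IsMulCommutative G → CI G 𝒜 → KI.{u} (Nat.card G) → Amb 𝒜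

/-- Chapter LA. -/
def LAStmt : Prop := ∀ (G : Type u) [Group G] [Finite G] (𝒜 : Set G) (A S : Subgroup G),
  Gl 𝒜 A S → ∀ X : Subgroup G, X ≠ ⊤ → A ≤ X → LocA A X

/-- Chapter LB. -/
def LBStmt : Prop := ∀ (G : Type u) [Group G] [Finite G] (𝒜 : Set G) (A S : Subgroup G),
  Gl 𝒜 A S → ∀ X : Subgroup G, X ≠ ⊤ → A ≤ X → LocA A X → LocB A X

/-- Chapter Pump. -/
def PumpStmt : Prop := ∀ (G : Type u) [Group G] [Finite G] (A X X' : Subgroup G),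
  LocA A X → LocA A X' → Pump A X X'

/-- Case I. -/
def IStmt : Prop := ∀ (G : Type u) [Group G] [Finite G] (𝒜 : Set G) (A S : Subgroup G),
  Gx 𝒜 A S → ∀ a K, Mb A a K →
  (∀ g ∈ 𝐍(A), (A ⊓ Zb a K) ⊓ (A ⊓ Zb a K) ^ᵍ g ≠ ⊥) → False

/-- Case II. -/
def IIStmt : Prop := ∀ (G : Type u) [Group G] [Finite G] (𝒜 : Set G) (A S : Subgroup G),
  Gx 𝒜 A S → ∀ a K, Mb A a K →
  ∀ g ∈ 𝐍(A), (A ⊓ Zb a K) ⊓ (A ⊓ Zb a K) ^ᵍ g = ⊥ → Good A S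

/-- No blocks, `|A| ≥ 8`. -/
def B1Stmt : Prop := ∀ (G : Type u) [Group G] [Finite G] (𝒜 : Set G) (A S : Subgroup G),
  Gx 𝒜 A S → (∀ a K, ¬ Bk A a K) → 8 ≤ 𝐨(A) → ∃ W, CHyp A W

/-- `Z = A × W` is the Sylow subgroup of the centralizer of an active involution, `Q = N_S(Z)`
(`P18.B4.Ac` without `key`). -/
structure Ac (𝒜 : Set G) (A S Z W Q : Subgroup G) (d : G) : Prop where
  gl : Gl 𝒜 A S
  card : 𝐨(A) = 4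
  cen : S ≤ 𝐂(A)
  sup : A ⊔ W = Z
  disj : A ⊓ W = ⊥
  ne : W ≠ ⊥
  w4 : 𝐨(W) ≤ 4
  el : IsElementaryAbelian 2 Z
  ZQ : Z ≤ Q
  QS : Q ≤ S
  sylQ : IsSyl 2 Q 𝐍(Z)
  sylZ : ∀ f ∈ Z, f ∉ A → IsSyl 2 Z 𝐂[f]
  idx : Z.relIndex Q = 4
  sq : ∀ x ∈ Q, x * x ∈ A
  com : ∀ x ∈ Q, ∀ y ∈ Q, ⁅x, y⁆ ∈ A
  full : ∀ f ∈ Z, f ∉ A → ∀ a ∈ A, ∃ x ∈ Q, ⁅x, f⁆ = a
  dQ : d ∈ 𝐍(Q)
  dW : d ∈ 𝐂(W)
  dA : d ∈ 𝐍(A)
  dn : d ∉ 𝐂(A)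
  odd : Odd (orderOf d)

/-- Four-groups, the reduction. -/
def B4Stmt : Prop := ∀ (G : Type u) [Group G] [Finite G] (𝒜 : Set G) (A S : Subgroup G),
  Gx 𝒜 A S → (∀ a K, ¬ Bk A a K) → 𝐨(A) = 4 → S ≤ 𝐂(A) → A ≤ sqs S →
  (∃ W, CHyp A W) ∨ Ab2 G ∨ ∃ (S' Z W Q : Subgroup G) (d : G), Ac 𝒜 A S' Z W Q d

/-- Four-groups, the active case. -/
def AcStmt : Prop := ∀ (G : Type u) [Group G] [Finite G] (𝒜 : Set G) (A S Z W Q : Subgroup G)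
  (d : G), ¬ Ac 𝒜 A S Z W Q d

/-- Chapter B. -/
def BStmt : Prop := ∀ (G : Type u) [Group G] [Finite G] (𝒜 : Set G), Amb 𝒜 →
  (∃ A S W : Subgroup G, Gl 𝒜 A S ∧ CHyp A W) ∨ Ab2 G

/-- Chapter C. -/
def CStmt : Prop := ∀ (G : Type u) [Group G] [Finite G] (𝒜 : Set G), CI G 𝒜 →
  KI.{u} (Nat.card G) → ∀ A S W : Subgroup G, Gl 𝒜 A S → CHyp A W → Kn G

theorem ki_all (hA : AmbStmt.{u}) (hB : BStmt.{u}) (hC : CStmt.{u}) (n : ℕ) : KI.{u} n := by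
  induction n with
  | zero => exact fun _ _ _ _ h => absurd h (Nat.not_lt_zero _)
  | succ n ih =>
    intro L _ _ 𝒜 hn ci hs na
    have kh := ih.mono (Nat.le_of_lt_succ hn)
    exact (hB L 𝒜 (hA L 𝒜 hs na ci kh)).elim
      (fun ⟨A, S, W, g, h⟩ => hC L 𝒜 ci kh A S W g h) Or.inl

theorem Gl.gx (hA : LAStmt.{u}) (hB : LBStmt.{u}) (hP : PumpStmt.{u}) {𝒜 : Set G}
    {A S : Subgroup G} (h : Gl 𝒜 A S) : Gx 𝒜 A S :=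
  ⟨h, hA G 𝒜 A S h, fun X h1 h2 => hB G 𝒜 A S h X h1 h2 (hA G 𝒜 A S h X h1 h2),
    fun X X' h1 h2 h3 h4 => hP G A X X' (hA G 𝒜 A S h X h1 h2) (hA G 𝒜 A S h X' h3 h4)⟩

end Cfsg.Agent.P21
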