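/-
P21: components modulo the odd core.
-/
import Cfsg.Agent.P21.Defs

set_option autoImplicit false
set_option linter.unusedSectionVars false
set_option linter.style.haveILetI false

namespace Cfsg.Agent.P21

open Subgroup Cfsg Cfsg.Agent Cfsg.Agent.FT
open Cfsg.Agent.P14 (SC)
open Cfsg.Agent.H2 (CompIn)
open Cfsg.Agent.P6 (Inv Od Qt pr)
open Cfsg.Agent.P7 (br Zc Oc Zb Od_le le_norm_Od solv_Od br_cent br_norm Zc_conj cjm)
open scoped commutatorElement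

universe u

variable {G : Type u} [Group G] [Finite G]

theorem Two.of_mem {P : Subgroup G} (hP : IsPGroup 2 P) {x : G} (hx : x ∈ P) : Two x :=
  P14.pow_two_pow hP hx

theorem Two.zp {x : G} (h : Two x) : IsPGroup 2 (zpowers x) := h.elim fun _ k => P14.two_zp k

theorem Two.conj {x : G} (h : Two x) (g : G) : Two (g * x * g⁻¹) :=
  h.imp fun k e => by rw [conj_pow, e, mul_one, mul_inv_cancel]

theorem Two.map {H : Type u} [Group H] (f : G →* H) {x : G} (h : Two x) : Two (f x) :=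
  h.imp fun k e => by rw [← map_pow, e, map_one]

theorem Two.of_sq {x : G} (h : x * x = 1) : Two x := ⟨1, by rw [pow_one, pow_two, h]⟩

theorem IA_le_iff {A K H : Subgroup G} :
    IA A K ≤ H ↔ ∀ x ∈ K, ∀ g : G, g * x * g⁻¹ ∈ A → x ∈ H :=
  (closure_le H).trans ⟨fun h _ hx g e => h ⟨hx, g, e⟩, fun h _ ⟨hx, g, e⟩ => h _ hx g e⟩

theorem mem_IA {A K : Subgroup G} {x g : G} (hx : x ∈ K) (h : g * x * g⁻¹ ∈ A) : x ∈ IA A K :=
  subset_closure ⟨hx, g, h⟩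

theorem mem_IA' {A K : Subgroup G} {x : G} (hx : x ∈ K) (h : x ∈ A) : x ∈ IA A K :=
  mem_IA (g := 1) hx (by simpa using h)

theorem inf_le_IA (A K : Subgroup G) : A ⊓ K ≤ IA A K := fun _ h => mem_IA' h.2 h.1

theorem IA_le (A K : Subgroup G) : IA A K ≤ K := IA_le_iff.2 fun _ h _ _ => h

theorem IA_mono {A K L : Subgroup G} (h : K ≤ L) : IA A K ≤ IA A L :=
  IA_le_iff.2 fun _ hx _ e => mem_IA (h hx) e

theorem IA_conj_le (A K : Subgroup G) (g : G) : IA A (K ^ᵍ g) ≤ IA A K ^ᵍ g :=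
  IA_le_iff.2 (by
    rintro _ ⟨x, hx, rfl⟩ k e
    refine conj_mem_conj (mem_IA (g := k * g) hx ?_) g
    simpa [mul_assoc] using e)

theorem IA_conj (A K : Subgroup G) (g : G) : IA A (K ^ᵍ g) = IA A K ^ᵍ g := by
  refine le_antisymm (IA_conj_le A K g) (conj_le_iff.2 ?_)
  have := IA_conj_le A (K ^ᵍ g) g⁻¹
  rwa [conj_conj, inv_mul_cancel, conj_one] at this

theorem norm_le_norm_IA (A K : Subgroup G) : 𝐍(K) ≤ 𝐍(IA A K) := fun g hg =>
  conj_eq_self_iff.1 (by rw [← IA_conj, conj_eq_of_mem_norm hg])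

theorem sq_of_cj {A : Subgroup G} (el : IsElementaryAbelian 2 A) {x g : G}
    (h : g * x * g⁻¹ ∈ A) : x * x = 1 := by
  have := el.2 _ h
  rwa [pow_two, conj_mul, conj_eq_one_iff] at this

/-- A conjugate of an element of `A` in `K` is conjugate into `A ⊓ K` by an element of `K`. -/
theorem exists_cj_IA {A K : Subgroup G} (el : IsElementaryAbelian 2 A) (sc : SC ⊤ A)
    (hn : A ≤ 𝐍(K)) {x g : G} (hx : x ∈ K) (h : g * x * g⁻¹ ∈ A) :
    ∃ k ∈ K, k * x * k⁻¹ ∈ A := by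
  obtain ⟨P, hP, hA⟩ := exists_isSyl_ge Nat.prime_two (elemAb_isPGroup el)
    (le_sup_right : A ≤ K ⊔ A)
  have hK : K ⊲ K ⊔ A := ⟨le_sup_left, sup_le le_normalizer hn⟩
  obtain ⟨k, hk, e⟩ := (hP.inf_normal Nat.prime_two hK).exists_conj_le Nat.prime_two
    (P7.two_zpowers (sq_of_cj el h)) (zpowers_le.2 hx)
  refine ⟨k, hk, ?_⟩
  have := sc P le_top hP.pgrp hA _ h (k * g⁻¹) (mem_top _) (by
    simpa [mul_assoc] using (e (conj_mem_conj (mem_zpowers x) k)).1)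
  simpa [mul_assoc] using this

theorem IA_le_of_normal {A K N : Subgroup G} (el : IsElementaryAbelian 2 A) (sc : SC ⊤ A)
    (hn : A ≤ 𝐍(K)) (hN : K ≤ 𝐍(N)) (hV : A ⊓ K ≤ N) : IA A K ≤ N :=
  IA_le_iff.2 fun x hx g e => by
    obtain ⟨k, hk, e⟩ := exists_cj_IA el sc hn hx e
    exact (mem_normalizer_iff.1 (hN hk) x).2 (hV ⟨e, cjm (le_normalizer hk) hx⟩)

theorem IA_le_of_odd {A Y N : Subgroup G} (el : IsElementaryAbelian 2 A) (h1 : IA A Y ≤ 𝐍(N))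
    (h2 : Odd (N.relIndex (IA A Y))) : IA A Y ≤ N :=
  IA_le_iff.2 fun _ hx _ e => P7.mem_of_odd_relIndex h1 h2 (mem_IA hx e) (sq_of_cj el e)

theorem cq_unbar {X : Subgroup G} {K : Subgroup (Qt X)} (hK : CompIn ⊤ K) :
    Cq X (H1.unbar X (Od X) K) :=
  ⟨H1.le_unbar (Od_le X) K, H1.unbar_le K, by rwa [br, H1.bar_unbar]⟩

theorem br_unbar {X : Subgroup G} (K : Subgroup (Qt X)) : br X (H1.unbar X (Od X) K) = K :=
  H1.bar_unbar K

namespace Cq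

variable {X K : Subgroup G} (c : Cq X K)
include c

theorem le_norm_Od : K ≤ 𝐍(Od X) := c.le.trans (P7.le_norm_Od X)

theorem ns : ¬ Group.IsSolvable K := fun k => H2.QS.not_isSolvable c.comp.2 (H1.isSolvable_bar k)

theorem sn : H2.SnIn X K := by
  have := (c.comp.1.comap (H1.qmk X (Od X))).map X.subtype
  rw [comap_top, P7.top_map] at this
  exact H1.unbar_bar_of_le (Y := X) c.od c.le ▸ this

theorem not_le {N : Subgroup G} (h : Group.IsSolvable N) : ¬ K ≤ N := fun k =>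
  c.ns (H1.isSolvable_of_le k h)

theorem solv_sup {N : Subgroup G} (h1 : N ≤ K) (h : Group.IsSolvable N) : ¬ K ≤ N ⊔ Od X :=
  c.not_le (H2.isSolvable_sup_of_le_normalizer (h1.trans c.le_norm_Od) h (solv_Od X))

theorem le_Z_iff {U : Subgroup G} (hU : U ≤ X) : U ≤ Zc X K ↔ br X U ≤ 𝐂(br X K) := by
  rw [H1.bar_le_centralizer_iff hU c.le, le_centMod_iff, commutator_comm]
  exact and_iff_right (hU.trans (P7.le_norm_Od X))

theorem mem_Z_iff {x : G} (hx : x ∈ X) : x ∈ Zc X K ↔ pr X ⟨x, hx⟩ ∈ 𝐂(br X K) := by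
  rw [← zpowers_le, c.le_Z_iff (zpowers_le.2 hx), ← zpowers_le, ← H1.bar_zpowers]

theorem mem_iff {x : G} (hx : x ∈ X) : pr X ⟨x, hx⟩ ∈ br X K ↔ x ∈ K := by
  rw [H1.qmk_mem_bar_iff (Od_le X) c.le, sup_eq_left.2 c.od]

theorem Od_le_Z : Od X ≤ Zc X K :=
  le_centMod_iff.2 ⟨le_normalizer, comm_le_right_iff.2 c.le_norm_Od⟩

theorem Z_le_norm : Zc X K ≤ 𝐍(K) :=
  comm_le_left_iff.1 ((le_centMod_iff.1 le_rfl).2.trans c.od)

theorem not_le_Z : ¬ K ≤ Zc X K := fun k =>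
  H2.QS.not_le_centralizer c.comp.2 ((c.le_Z_iff c.le).1 k)

theorem le_sup {N : Subgroup G} (h1 : N ≤ K) (h2 : K ≤ 𝐍((N ⊔ Od X : Subgroup G)))
    (h3 : ¬ N ≤ Zc X K) : K ≤ N ⊔ Od X := by
  have hX : N ⊔ Od X ≤ X := sup_le (h1.trans c.le) (Od_le X)
  rcases (H2.isQuasisimple_subgroup_iff.1 c.comp.2).2.2 (br X (N ⊔ Od X))
    (H1.bar_mono (sup_le h1 c.od)) (H1.bar_le_normalizer h2) with e | e
  · exact ((H1.bar_inj c.od c.le le_sup_right hX).1 e.symm).le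
  · exact (h3 (le_sup_left.trans ((c.le_Z_iff hX).2 e))).elim

theorem solv_le_Z {N : Subgroup G} (h1 : N ≤ K) (h2 : K ≤ 𝐍((N ⊔ Od X : Subgroup G)))
    (h : Group.IsSolvable N) : N ≤ Zc X K := by
  by_contra k
  exact c.solv_sup h1 h (c.le_sup h1 h2 k)

/-- The centre of a component of `X / O(X)` is a 2-group. -/
theorem two_cen : IsPGroup 2 (br X K ⊓ 𝐂(br X K) : Subgroup _) :=
  (H2.isPGroup_pCoreOf 2 ⊤).to_le (c.comp.inf_centralizer_le_fittingOf.trans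
    (fittingOf_eq_pCoreOf Nat.prime_two (P7.KO.Od_bar X)).le)

theorem perf : K ≤ ⁅K, K⁆ ⊔ Od X := by
  rw [← H1.bar_le_bar_iff (Od_le X) c.le ((der_le K).trans c.le), H1.bar_commutator c.le c.le]
  exact (H2.isQuasisimple_subgroup_iff.1 c.comp.2).1.ge

omit c in
theorem of (od : Od X ≤ K) (sn : H2.SnIn X K) (perf : K ≤ ⁅K, K⁆ ⊔ Od X) (ne : ¬ K ≤ Od X)
    (simp : ∀ N, Od X ≤ N → N ⊲ K → K ≤ N ∨ N ≤ Zc X K) : Cq X K := by
  have le := sn.le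
  refine ⟨od, le, ?_, H2.isQuasisimple_subgroup_iff.2 ⟨?_, fun e => ?_, fun N h1 h2 => ?_⟩⟩
  · have := (sn.comap X.subtype).map (H1.qmk X (Od X))
    rwa [comap_subtype, subgroupOf_self, map_top_of_surjective _ H1.qmk_surjective] at this
  · rw [← H1.bar_commutator le le]
    exact le_antisymm (H1.bar_mono (der_le K)) ((H1.bar_le_bar_iff (Od_le X) le
      ((der_le K).trans le)).2 perf)
  · exact ne ((H1.bar_eq_bot_iff le).1 e)
  · rcases simp _ (H1.le_unbar (Od_le X) N) (unbar_normal od le ⟨h1, h2⟩) with e | e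
    · exact Or.inl (le_antisymm h1 (H1.bar_unbar (Y := X) (N := Od X) N ▸ H1.bar_mono e))
    · rw [← H1.bar_unbar (Y := X) (N := Od X) N]
      refine Or.inr ((H1.bar_le_centralizer_iff (H1.unbar_le N) le).2 ?_)
      rw [commutator_comm]
      exact (le_centMod_iff.1 e).2

theorem cj (g : G) : Cq (X ^ᵍ g) (K ^ᵍ g) := by
  refine of (by rw [P6.Od_conj]; exact conj_mono c.od g) (c.sn.map _) ?_ ?_ fun N h1 h2 => ?_
  · rw [P6.Od_conj, ← conj_comm, ← conj_sup]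
    exact conj_mono c.perf g
  · rw [P6.Od_conj, conj_le_conj_iff]
    exact c.not_le (solv_Od X)
  · rw [Zc_conj]
    rw [P6.Od_conj] at h1
    rw [← conj_inv_conj N g] at h1 h2 ⊢
    rw [conj_le_conj_iff, conj_le_conj_iff]
    have h3 := conj_le_conj_iff.1 h1
    refine or_iff_not_imp_right.2 fun k => (c.le_sup (conj_le_conj_iff.1 h2.1) ?_ k).trans
      (sup_le le_rfl h3)
    rw [sup_eq_left.2 h3]
    exact conj_le_norm_iff.1 h2.2

theorem cj' {g : G} (hg : g ∈ 𝐍(X)) : Cq X (K ^ᵍ g) := by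
  have := c.cj g
  rwa [conj_eq_of_mem_norm hg] at this

theorem odd_le {D Y : Subgroup G} (hD : D ≤ K) (ho : Odd 𝐨(D)) (hY : Y ≤ K) (hn : Y ≤ 𝐍(D))
    (h : K ≤ Y ⊔ Od X) : D ≤ Od X := by
  have h1 := (c.le_Z_iff (hD.trans c.le)).1 (c.solv_le_Z hD (h.trans (sup_le
    (H1.le_normalizer_sup hn (hY.trans c.le_norm_Od)) (le_sup_right.trans le_normalizer)))
    (P5.Mx.isSolvable_of_odd ho))
  exact (H1.bar_eq_bot_iff (hD.trans c.le)).1 (eq_bot_iff.2 fun x hx =>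
    P7.eq_one_of_two_odd c.two_cen (odd_card_bar ho) ⟨H1.bar_mono hD hx, h1 hx⟩ hx)

theorem Od_eq : Od K = Od X :=
  le_antisymm (c.odd_le (Od_le K) (P6.odd_Od K) le_rfl (P7.le_norm_Od K) le_sup_left)
    (P6.le_Od ⟨c.od, c.le_norm_Od⟩ (P6.odd_Od X))

theorem norm_le : 𝐍(K) ≤ 𝐍(Od X) := c.Od_eq ▸ P6.norm_le_norm_Od K

theorem norm_Z : 𝐍(K) ≤ 𝐍(Zc X K) := norm_le_norm_centMod le_rfl c.norm_le

theorem le_Z_of {D Y : Subgroup G} (hD : D ≤ 𝐍(K)) (hY : Y ≤ K) (h1 : ⁅D, Y⁆ ≤ Od X)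
    (h : K ≤ Y ⊔ Od X) : D ≤ Zc X K := by
  have h2 : K ≤ centMod D (Od X) := h.trans (sup_le (le_centMod_iff.2 ⟨hY.trans c.le_norm_Od, h1⟩)
    (le_centMod_iff.2 ⟨le_normalizer, comm_le_right_iff.2 (hD.trans c.norm_le)⟩))
  exact le_centMod_iff.2 ⟨hD.trans c.norm_le, commutator_comm D K ▸ (le_centMod_iff.1 h2).2⟩

theorem le_Z_of_norm {D Y : Subgroup G} (hD : D ≤ 𝐍(K)) (ho : Odd 𝐨(D)) (hY : Y ≤ K)
    (hn : Y ≤ 𝐍(D)) (h : K ≤ Y ⊔ Od X) : D ≤ Zc X K :=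
  c.le_Z_of hD hY ((le_inf (comm_le_left_iff.2 hn) ((commutator_mono le_rfl hY).trans
    (comm_le_right_iff.2 hD))).trans (c.odd_le inf_le_right (P6.odd_of_le inf_le_left ho) hY
      (H1.le_normalizer_inf hn (hY.trans le_normalizer)) h)) h

theorem cover {E : Subgroup G} (hE : E ≤ X) (h2 : IsPGroup 2 E) (hZ : E ≤ Zc X K) :
    K ≤ K ⊓ 𝐂(E) ⊔ Od X := by
  have := cent_comm.1 ((c.le_Z_iff hE).1 hZ)
  rw [br_cent hE h2, H1.bar_le_bar_iff (Od_le X) c.le inf_le_left] at this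
  intro k hk
  obtain ⟨a, ha, o, ho, rfl⟩ := (H1.mem_sup_iff_of_le_normalizer
    (inf_le_left.trans (P7.le_norm_Od X))).1 (this hk)
  exact mul_mem_sup ⟨by simpa using mul_mem hk (inv_mem (c.od ho)), ha.2⟩ ho

theorem cover1 {e : G} (he : e ∈ X) (ee : e * e = 1) (hZ : e ∈ Zc X K) :
    K ≤ K ⊓ 𝐂[e] ⊔ Od X :=
  cent_zpowers e ▸ c.cover (zpowers_le.2 he) (P7.two_zpowers ee) (zpowers_le.2 hZ)

theorem le_Z_of_ne {K' : Subgroup G} (c' : Cq X K') (h : K ≠ K') : K ≤ Zc X K' :=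
  (c'.le_Z_iff c.le).2 (c.comp.le_centralizer_of_ne c'.comp fun e =>
    h ((H1.bar_inj c.od c.le c'.od c'.le).1 e))

theorem le_norm {K' : Subgroup G} (c' : Cq X K') : K ≤ 𝐍(K') := by
  rcases eq_or_ne K K' with rfl | h
  · exact le_normalizer
  · exact (c.le_Z_of_ne c' h).trans c'.Z_le_norm

theorem eq_of_mem {K' : Subgroup G} (c' : Cq X K') {v : G} (h : v ∈ K) (h' : v ∉ Zc X K') :
    K = K' := by
  by_contra k
  exact h' (c.le_Z_of_ne c' k h)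

/-- An element of `X` that fixes a noncentral element of `K` normalizes `K`. -/
theorem mem_norm {g v : G} (hg : g ∈ 𝐍(X)) (hv : g * v * g⁻¹ ∉ Zc X K) (h : v ∈ K) : g ∈ 𝐍(K) :=
  conj_eq_self_iff.1 ((c.cj' hg).eq_of_mem c (conj_mem_conj h g) hv)

theorem norm_of_br {U : Subgroup G} (hU : U ≤ X) (h : br X U ≤ 𝐍(br X K)) : U ≤ 𝐍(K) :=
  H1.unbar_bar_of_le (Y := X) c.od c.le ▸ H1.le_normalizer_unbar hU h

theorem br_inf {U : Subgroup G} : br X (U ⊓ K) = br X U ⊓ br X K := by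
  refine le_antisymm (le_inf (H1.bar_mono inf_le_left) (H1.bar_mono inf_le_right)) fun z hz => ?_
  obtain ⟨⟨v, _⟩, h1, rfl⟩ := H1.mem_bar.1 hz.1
  exact H1.qmk_mem_bar ⟨h1, (c.mem_iff _).1 hz.2⟩

theorem cent_br {v : G} (hv : v ∈ X) (vv : v * v = 1) :
    br X K ⊓ 𝐂[pr X ⟨v, hv⟩] ≤ br X (K ⊓ 𝐂[v]) := fun z hz => by
  obtain ⟨⟨y, _⟩, hy, rfl⟩ := H1.mem_bar.1 (P7.KO.bar_cent hv vv ▸ hz.2)
  exact H1.qmk_mem_bar ⟨(c.mem_iff _).1 hz.1, hy.2⟩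

/-- An element of `K` that normalizes the 2-group `A` centralizes `A ⊓ Zc X K`. -/
theorem sig_cent {A : Subgroup G} (hA : IsPGroup 2 A) : K ⊓ 𝐍(A) ≤ 𝐂((A ⊓ Zc X K : Subgroup G)) :=
  fun σ hσ _ hb => (commutatorElement_eq_one_iff_mul_comm.1 (P7.eq_one_of_two_odd hA (P6.odd_Od X)
    (P7.comm_mem_right hσ.2 hb.1) ((mem_centMod.1 hb.2).2 σ hσ.1))).symm

theorem le_IA {A Y : Subgroup G} (h0 : ¬ A ⊓ K ≤ Zc X K) (h1 : A ⊓ K ≤ Y) (h2 : Y ≤ K)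
    (h3 : K ≤ Y ⊔ Od X) : K ≤ IA A Y ⊔ Od X :=
  c.le_sup ((IA_le A Y).trans h2) (h3.trans (sup_le (H1.le_normalizer_sup
    (le_normalizer.trans (norm_le_norm_IA A Y)) (h2.trans c.le_norm_Od))
    (le_sup_right.trans le_normalizer))) fun k => h0 fun _ hv => k (mem_IA' (h1 hv) hv.1)

end Cq

theorem Act.cj {A X K : Subgroup G} (c : Act A X K) {g : G} (hg : g ∈ 𝐍(A)) :
    Act A (X ^ᵍ g) (K ^ᵍ g) := ⟨c.toCq.cj g, by
  rw [Zc_conj, ← conj_eq_of_mem_norm hg, conj_le_conj_iff]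
  exact c.act⟩

theorem Zb_conj (a g : G) (K : Subgroup G) : Zb (g * a * g⁻¹) (K ^ᵍ g) = Zb a K ^ᵍ g := by
  rw [Zb, cent1_conj, Zc_conj]

theorem Bk.memZ {A K : Subgroup G} {a : G} (b : Bk A a K) : a ∈ A ⊓ Zb a K :=
  ⟨b.mem, mem_centMod.2 ⟨P7.norm_Oc a (mem_cent1.2 rfl), fun k hk => by
    rw [commutatorElement_eq_one_iff_mul_comm.2 (mem_cent1.1 (b.act.le hk)).symm]
    exact one_mem _⟩⟩

theorem Bk.cj {A K : Subgroup G} {a g : G} (b : Bk A a K) (hg : g ∈ 𝐍(A)) :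
    Bk A (g * a * g⁻¹) (K ^ᵍ g) := ⟨cjm hg b.mem, b.inv.conj g, cent1_conj a g ▸ b.act.cj hg⟩

theorem B_conj {A : Subgroup G} (K : Subgroup G) (a : G) {g : G} (hg : g ∈ 𝐍(A)) :
    A ⊓ Zb (g * a * g⁻¹) (K ^ᵍ g) = (A ⊓ Zb a K) ^ᵍ g := by
  rw [Zb_conj, conj_inf, conj_eq_of_mem_norm hg]

theorem Mb.cj {A K : Subgroup G} {a g : G} (b : Mb A a K) (hg : g ∈ 𝐍(A)) :
    Mb A (g * a * g⁻¹) (K ^ᵍ g) :=
  ⟨b.toBk.cj hg, fun c K' h => by rw [B_conj K a hg, card_conj]; exact b.min c K' h⟩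

namespace Dc

variable {A K B V R : Subgroup G} (d : Dc A K B V R)
include d

theorem vA : V ≤ A := d.vle.trans inf_le_left

theorem vK : V ≤ K := d.vle.trans inf_le_right

theorem inf_eq : V ⊓ B = ⊥ := eq_bot_iff.2 fun v hv => d.disj v hv.1 hv.2

theorem sup_eq : V ⊔ B = A := le_antisymm (sup_le d.vA d.ble) fun a ha => by
  obtain ⟨v, hv, b, hb, rfl⟩ := d.dec a ha
  exact mul_mem_sup hv hb

theorem not_le : ¬ V ≤ B := fun k => by
  obtain ⟨v, hv, v1, -⟩ := P7.exists_ne3 d.four 1 1 1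
  exact v1 (d.disj v hv (k hv))

theorem rN : R ≤ 𝐍(A) := d.sup_eq ▸ H1.le_normalizer_sup (d.rle.trans inf_le_right)
  ((d.rle.trans (inf_le_left.trans inf_le_right)).trans (cent_le_norm B))

theorem card (el : IsElementaryAbelian 2 A) : 𝐨(A) = 𝐨(V) * 𝐨(B) := by
  rw [← H1.card_sup_of_inf_eq_bot (d.vA.trans ((isMulComm_iff_le_cent.1 el.1).trans
    ((cent_anti d.ble).trans (cent_le_norm B)))) d.inf_eq, d.sup_eq]

end Dc

theorem LocA.nA {A X K : Subgroup G} (l : LocA A X) (c : Cq X K) : A ≤ 𝐍(K) :=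
  fun _ ha => l.nrm K c (mem_IA' (l.le ha) ha)

theorem LocA.not_le {A X K : Subgroup G} (l : LocA A X) (c : Act A X K) : ¬ A ⊓ K ≤ Zc X K := by
  obtain ⟨V, R, d⟩ := l.dc K c
  exact fun k => d.not_le (le_inf d.vA (d.vle.trans k))

end Cfsg.Agent.P21
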