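/-
P21: global lemmas on a strongly closed elementary abelian subgroup of a simple group.
-/
import Cfsg.Agent.P21.Q
import Cfsg.Agent.P18.BS
import Cfsg.Agent.P18.U0
import Cfsg.Agent.H8.Frobenius

set_option autoImplicit false
set_option linter.unusedSectionVars false
set_option linter.style.haveILetI false

namespace Cfsg.Agent.P21

open Subgroup Cfsg Cfsg.Agent Cfsg.Agent.FT
open Cfsg.Agent.P14 (SC SCl Ctrl two_zp dih norm_cent cjm cmr cml)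
open Cfsg.Agent.P18 (CHyp sqs)
open Cfsg.Agent.P6 (Inv Od Qt pr)
open Cfsg.Agent.P7 (br Zc Oc Zb)
open scoped commutatorElement

universe u

variable {G : Type u} [Group G] [Finite G]

/-- Frobenius' theorem. -/
theorem npc_of_odd {H : Subgroup G} (h : ∀ P ≤ H, IsPGroup 2 P → ∀ σ ∈ H ⊓ 𝐍(P),
    Odd (orderOf σ) → σ ∈ 𝐂(P)) : HasNPC 2 H := by
  haveI := Fact.mk Nat.prime_two
  refine (hasNPC_iff Nat.prime_two).2 (H8.hasNPC_of_coprime_centralizes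
    (Classical.arbitrary (Sylow 2 H)) fun X hX _ g hg ho => ?_)
  have := h (X.map H.subtype) (map_subtype_le X) (((Sylow.isPGroup' _).to_le hX).map _) g
    ⟨g.2, le_normalizer_map H.subtype (mem_map_of_mem _ hg)⟩
    (by rw [orderOf_coe]; exact Nat.coprime_two_right.1 ho)
  exact fun x hx => Subtype.ext (this x (mem_map_of_mem H.subtype hx))

/-- A strongly closed elementary abelian subgroup of a simple group. -/
structure Sg (A S : Subgroup G) : Prop where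
  sim : IsSimpleGroup G
  nc : ¬ IsMulCommutative G
  el : IsElementaryAbelian 2 A
  ne : A ≠ ⊥
  sc : SC ⊤ A
  syl : IsSyl 2 S ⊤
  le : A ≤ S

theorem Gl.sg {𝒜 : Set G} {A S : Subgroup G} (h : Gl 𝒜 A S) : Sg A S :=
  ⟨h.sim, h.nc, h.el, h.ne, h.sc, h.syl, h.le⟩

namespace Sg

variable {A S : Subgroup G} (h : Sg A S)
include h

theorem pg : IsPGroup 2 A := elemAb_isPGroup h.el

theorem sq {a : G} (ha : a ∈ A) : a * a = 1 := by rw [← pow_two]; exact h.el.2 a ha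

theorem cc : A ≤ 𝐂(A) := isMulComm_iff_le_cent.1 h.el.1

theorem nrm : S ≤ 𝐍(A) := h.sc.le_norm le_top h.syl.pgrp h.le

theorem scl : SCl ⊤ S A := h.sc.scl le_top h.syl.pgrp h.le

theorem elt {t g : G} (ht : t ∈ S) (e : g * t * g⁻¹ ∈ S) :
    ∃ m ∈ 𝐍(A), g * t * g⁻¹ = m * t * m⁻¹ :=
  ((h.scl.ctrl h.syl h.le h.cc).elt ht (mem_top g) e).imp fun _ a => ⟨a.1.2, a.2⟩

theorem norm_ne {U : Subgroup G} (h1 : U ≠ ⊥) (h2 : U ≠ ⊤) : 𝐍(U) ≠ ⊤ := fun e =>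
  (h.sim.eq_bot_or_eq_top_of_normal U (normal_iff_top_le.2 e.ge)).elim h1 h2

theorem cent_ne {a : G} (h1 : a ≠ 1) : 𝐂[a] ≠ ⊤ := fun e =>
  h.norm_ne (zpowers_ne_bot.2 h1) (fun e' => h.nc ⟨⟨fun x y => by
    obtain ⟨m, rfl⟩ := e'.ge (mem_top x)
    exact Commute.zpow_left (mem_cent1.1 (e.ge (mem_top y))) m⟩⟩)
    (top_le_iff.1 (e.ge.trans ((cent_zpowers a).ge.trans (cent_le_norm _))))

theorem sylR : IsSyl 2 (S ⊓ 𝐂(A)) 𝐂(A) :=
  (h.syl.of_le h.nrm le_top).inf_normal Nat.prime_two ⟨cent_le_norm A, norm_cent⟩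

theorem leR : A ≤ S ⊓ 𝐂(A) := le_inf h.le h.cc

theorem le_cent {a : G} (ha : a ∈ A) : A ≤ 𝐂[a] := h.cc.trans (cent_le_cent1 ha)

theorem ne_top : A ≠ ⊤ := fun e => h.nc ⟨⟨fun x y => h.cc (e.ge (mem_top y)) x (e.ge trivial)⟩⟩

theorem mem_of_conj {M : Subgroup G} (h1 : 𝐍(A) ≤ M) (h2 : ∀ a ∈ A, a ≠ 1 → 𝐂[a] ≤ M) {a g : G}
    (ha : a ∈ A) (a1 : a ≠ 1) (hg : g * a * g⁻¹ ∈ M) : g ∈ M := by
  obtain ⟨m, hm, e⟩ := (h.syl.of_le (h.nrm.trans h1) le_top).exists_conj_le Nat.prime_two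
    (two_zp (k := 1) (x := g * a * g⁻¹) (by rw [conj_pow, pow_one, h.el.2 a ha]; group))
    (zpowers_le.2 hg)
  obtain ⟨n, hn, e'⟩ := h.elt (g := m * g) (h.le ha) (by
    have := e (conj_mem_conj (mem_zpowers _) m)
    convert this using 1; group)
  have : n⁻¹ * (m * g) ∈ M := h2 a ha a1 (mem_cent1_iff_conj.2 (by
    calc _ = n⁻¹ * (m * g * a * (m * g)⁻¹) * n := by group
      _ = _ := by rw [e']; group))
  exact (mul_mem_cancel_left hm).1 ((mul_mem_cancel_left (inv_mem (h1 hn))).1 this)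

theorem one_class {M : Subgroup G} (h0 : M ≠ ⊤) (h1 : 𝐍(A) ≤ M) (h2 : ∀ a ∈ A, a ≠ 1 → 𝐂[a] ≤ M) :
    ∀ x ∈ A, x ≠ 1 → ∀ y ∈ A, y ≠ 1 → ∃ g ∈ 𝐍(A), g * x * g⁻¹ = y := by
  intro a ha a1 y hy y1
  obtain ⟨g, -, hg⟩ := SetLike.not_le_iff_exists.1 (mt top_le_iff.1 h0)
  have u1 : g * y * g⁻¹ * (g * y * g⁻¹) = 1 := by rw [conj_mul, h.sq hy]; group
  have u2 : g * y * g⁻¹ ∉ M := fun e => hg (h.mem_of_conj h1 h2 hy y1 e)
  rcases Nat.even_or_odd (orderOf (a * (g * y * g⁻¹))) with e | e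
  · obtain ⟨k, k1, k2, k3, k4⟩ := L.exists_invol_commute_of_even (h.sq ha) u1 e
    have k5 : ∃ x : G, ∃ z ∈ A, a * (a * (g * y * g⁻¹)) ^ k = x * z * x⁻¹ := by
      obtain ⟨x, e | e⟩ := dih (h.sq ha) u1 k
      · exact ⟨x, a, ha, e⟩
      · exact ⟨x * g, y, hy, by rw [e]; group⟩
    generalize (a * (g * y * g⁻¹)) ^ k = c at *
    obtain ⟨x, z, hz, k5⟩ := k5
    obtain ⟨w, -, hw⟩ := h.syl.exists_conj_le Nat.prime_two (Q := zpowers a ⊔ zpowers c)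
      (elemAb_isPGroup (elemAb_sup (elemAb_zpowers (h.el.2 a ha)) (elemAb_zpowers (by rwa [pow_two]))
        (zpowers_le.2 (by rw [cent_zpowers]; exact mem_cent1.2 k3.symm)))) le_top
    have w1 := h.scl a ha w trivial (hw (conj_mem_conj (mem_sup_left (mem_zpowers a)) w))
    have w2 := h.scl z hz (w * x) trivial (by
      have := hw (conj_mem_conj (mul_mem (mem_sup_left (mem_zpowers a))
        (mem_sup_right (mem_zpowers c))) w)
      rw [k5] at this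
      convert this using 1; group)
    have w3 : w * c * w⁻¹ ∈ A := by
      have := mul_mem (inv_mem w1) w2
      rwa [show w * x * z * (w * x)⁻¹ = w * (x * z * x⁻¹) * w⁻¹ by group, ← k5, ← conj_mul,
        inv_mul_cancel_left] at this
    have w4 := h2 _ w3 (by simpa using k1)
    rw [cent1_conj, conj_le_iff, conj_eq_of_mem
      (inv_mem (h.mem_of_conj h1 h2 ha a1 (h1 (le_normalizer w1))))] at w4
    exact absurd (w4 (mem_cent1.2 k4)) u2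
  · obtain ⟨k, k1, k2⟩ := L.exists_invol_conj_of_odd (h.sq ha) u1 e
    generalize a * (a * (g * y * g⁻¹)) ^ k = c at *
    have : g⁻¹ * c * a * (g⁻¹ * c)⁻¹ = y := by
      rw [mul_inv_rev, inv_eq_of_mul_eq_one_right k1]
      calc _ = g⁻¹ * (c * a * c) * g := by group
        _ = _ := by rw [k2]; group
    obtain ⟨m, hm, e⟩ := h.elt (g := g⁻¹ * c) (h.le ha) (this ▸ h.le hy)
    exact ⟨m, hm, e ▸ this⟩

theorem ctrl : Ctrl ⊤ S (⊤ ⊓ 𝐍(A)) := h.scl.ctrl h.syl h.le h.cc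

theorem sylN : IsSyl 2 S 𝐍(A) := h.syl.of_le h.nrm le_top

theorem inv {a : G} (ha : a ∈ A) (a1 : a ≠ 1) : Inv a := ⟨a1, h.sq ha⟩

theorem norm_ne_top : 𝐍(A) ≠ ⊤ := h.norm_ne h.ne h.ne_top

theorem odd_ne_top {W : Subgroup G} (ho : Odd 𝐨(W)) : W ≠ ⊤ := fun e =>
  P7.ns_top h.sim h.nc (e ▸ P5.Mx.isSolvable_of_odd ho)

theorem Od_top : Od (⊤ : Subgroup G) = ⊥ := by
  by_contra e
  exact h.norm_ne e (h.odd_ne_top (P6.odd_Od _)) (top_le_iff.1 (P7.le_norm_Od _))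

theorem der_top : ⁅(⊤ : Subgroup G), (⊤ : Subgroup G)⁆ = ⊤ := by
  refine (h.sim.eq_bot_or_eq_top_of_normal _ inferInstance).resolve_left fun e => h.nc ?_
  exact ⟨⟨fun x y => commutatorElement_eq_one_iff_mul_comm.1
    (mem_bot.1 (e ▸ commutator_mem_commutator (mem_top x) (mem_top y)))⟩⟩

/-- The focal subgroup theorem. -/
theorem le_der : S ≤ ⁅𝐍(A), 𝐍(A)⁆ := by
  refine le_trans (le_inf le_rfl (le_top.trans h.der_top.ge))
    (focal_le Nat.prime_two h.syl fun x hx g _ e => ?_)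
  obtain ⟨m, hm, e⟩ := h.elt hx e
  have := commutator_mem_commutator (inv_mem (h.nrm hx)) hm
  rw [e]
  simpa [commutatorElement_def, mul_assoc] using this

/-- `N(A)` has no normal subgroup with a nontrivial 2-group as quotient. -/
theorem no2' {U : Subgroup G} (hU : U ⊲ 𝐍(A)) {k : ℕ} (hk : U.relIndex 𝐍(A) = 2 ^ k) :
    𝐍(A) ≤ U := by
  haveI := H1.normal_subgroupOf_of_le hU.2
  have hp : IsPGroup 2 (⊤ : Subgroup (𝐍(A) ⧸ U.subgroupOf 𝐍(A))) :=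
    IsPGroup.of_card (card_top.trans hk)
  have h1 : 𝐍(A) ≤ S ⊔ U := by
    rw [← H1.bar_le_bar_iff hU.1 le_rfl h.nrm, H1.bar_top]
    exact ((h.sylN.bar Nat.prime_two le_rfl).eq_of_le Nat.prime_two le_top
      (H1.bar_top (Y := 𝐍(A)) (N := U)).ge hp).le
  have h2 := (H1.bar_le_bar_iff hU.1 le_rfl (der_le _)).2
    (h1.trans (sup_le_sup_right h.le_der U))
  rw [H1.bar_commutator le_rfl le_rfl, H1.bar_top] at h2
  haveI := isNilpotent_of_isPGroup Nat.prime_two hp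
  rw [← H1.bar_eq_bot_iff (N := U) le_rfl, H1.bar_top]
  exact H8.eq_bot_of_le_commutator le_rfl h2

/-- `N(A)` has no subgroup of index two. -/
theorem no2 {U : Subgroup G} (hU : U.relIndex 𝐍(A) = 2) : False := by
  have hn := normal_of_index_eq_two (H := U.subgroupOf 𝐍(A)) hU
  have := h.no2' (U := U ⊓ 𝐍(A)) ⟨inf_le_right, fun g hg => mem_norm_of_conj_le (by
    rintro _ ⟨x, hx, rfl⟩
    exact ⟨hn.conj_mem ⟨x, hx.2⟩ hx.1 ⟨g, hg⟩, cjm (le_normalizer hg) hx.2⟩)⟩ (k := 1)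
    (by rw [inf_relIndex_right, hU, pow_one])
  rw [relIndex_eq_one.2 (this.trans inf_le_left)] at hU
  omega

/-- The `Z*`-theorem. -/
theorem zstar {z : G} (hz : z ∈ S) (iz : Inv z)
    (k : ∀ m ∈ 𝐍(A), m * z * m⁻¹ ∈ S → m * z * m⁻¹ = z) : False := by
  obtain ⟨P, hP⟩ := h.syl.exists_sylow_top Nat.prime_two
  have h2 := P1.zstar_sylow P (orderOf_eq_prime ((pow_two z).trans iz.sq) iz.ne) (hP.ge hz)
    fun g hg => by
      obtain ⟨m, hm, e⟩ := h.elt hz (hP.le hg)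
      rw [e]
      exact k m hm (e ▸ hP.le hg)
  rcases h.sim.eq_bot_or_eq_top_of_normal (pPrimeCore 2 G) inferInstance with h3 | h3
  · refine h.cent_ne iz.ne (top_le_iff.1 fun g _ => ?_)
    have := h2 g
    rw [h3, mem_bot, commutatorElement_eq_one_iff_mul_comm] at this
    exact mem_cent1.2 this
  · have := H1.inf_eq_bot_of_coprime' (H1.coprime_card_of_isPGroup h.pg
      (L.coprime_card_pPrimeCore (G := G) 2))
    rw [h3, top_inf_eq] at this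
    exact absurd this h.ne

theorem not_le_cent {z : G} (hz : z ∈ A) (z1 : z ≠ 1) : ¬ 𝐍(A) ≤ 𝐂[z] := fun k =>
  h.zstar (h.le hz) (h.inv hz z1) fun _ hm _ => mem_cent1_iff_conj.1 (k hm)

theorem four : 4 ≤ 𝐨(A) := by
  obtain ⟨z, hz, z1⟩ := (bot_or_exists_ne_one A).resolve_left h.ne
  obtain ⟨g, hg, k⟩ := SetLike.not_le_iff_exists.1 (h.not_le_cent hz z1)
  have v : P5.V4 z (g * z * g⁻¹) := ⟨z1, by simpa using z1,
    fun e => k (mem_cent1_iff_conj.2 e.symm), h.sq hz, h.sq (cjm hg hz), h.cc (cjm hg hz) z hz⟩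
  exact v.card ▸ card_le_of_le (P5.V4.le_iff.2 ⟨hz, cjm hg hz⟩)

/-- A four-group is central in `S`. -/
theorem cen4 (h4 : 𝐨(A) = 4) : S ≤ 𝐂(A) := by
  classical
  haveI := Fintype.ofFinite A
  intro s hs
  by_contra k
  obtain ⟨z, hz, z1⟩ := (bot_or_exists_ne_one _).resolve_left (inf_center_ne_bot
    (isNilpotent_of_isPGroup Nat.prime_two h.syl.pgrp) ⟨h.le, h.nrm⟩ h.ne)
  obtain ⟨x, hx, xs⟩ := SetLike.not_le_iff_exists.1 (mt mem_cent_iff_cent1.2 k)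
  have zs : s * z * s⁻¹ = z := by rw [hz.2 s hs, mul_inv_cancel_right]
  have xs' : s * x * s⁻¹ ≠ x := fun e => xs (mem_cent1_comm.1 (mem_cent1_iff_conj.2 e))
  have v : P5.V4 z x := ⟨z1, fun e => xs' (by simp [e]), fun e => xs' (e ▸ zs), h.sq hz.1, h.sq hx,
    h.cc hx z hz.1⟩
  have eA := eq_of_le_of_card_ge (P5.V4.le_iff.2 ⟨hz.1, hx⟩) (h4.trans v.card.symm).le
  have hN := h.nrm hs
  have e1 : s * x * s⁻¹ = z * x := by
    rcases v.mem_iff.1 (eA.ge (cjm hN hx)) with e | e | e | e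
    · exact (v.s1 (by simpa using e)).elim
    · exact (v.ts (by simpa using zs.trans e.symm)).elim
    · exact (xs' e).elim
    · exact e
  let φ : 𝐍(A) →* ℤˣ := Equiv.Perm.sign.comp ((MulAut.toPerm A).comp (H1.conjAut le_rfl))
  have h1 : φ ⟨s, hN⟩ = 1 := by
    have := h.le_der hs
    rw [← map_subtype_der] at this
    obtain ⟨y, hy, e⟩ := this
    obtain rfl : y = ⟨s, hN⟩ := Subtype.ext e
    exact Abelianization.commutator_subset_ker φ hy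
  have h2 : (MulAut.toPerm A).comp (H1.conjAut le_rfl) ⟨s, hN⟩ =
      Equiv.swap ⟨x, hx⟩ ⟨z * x, mul_mem hz.1 hx⟩ := Equiv.ext fun ⟨y, hy⟩ => Subtype.ext (by
    show s * y * s⁻¹ = _
    rcases v.mem_iff.1 (eA.ge hy) with rfl | rfl | rfl | rfl
    · rw [Equiv.swap_apply_of_ne_of_ne (fun e => v.s1 (congrArg Subtype.val e).symm)
        fun e => v.ts1 (congrArg Subtype.val e).symm]
      simp
    · rw [Equiv.swap_apply_of_ne_of_ne (fun e => v.ts (congrArg Subtype.val e))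
        fun e => v.s1 (by simpa using congrArg Subtype.val e), zs]
    · rw [Equiv.swap_apply_left, e1]
    · rw [Equiv.swap_apply_right, ← conj_mul, zs, e1, ← mul_assoc, v.tt, one_mul])
  rw [MonoidHom.comp_apply, h2, Equiv.Perm.sign_swap fun e => z1 (by
    simpa using congrArg Subtype.val e)] at h1
  exact absurd h1 (by decide)

theorem f4 (h4 : 𝐨(A) = 4) : P18.U.F4 A := ⟨h4, fun _ => h.sq, fun e => h.sylN.ndvd
  (e.trans (relIndex_dvd_of_le_left _ (h.cen4 h4)))⟩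

theorem of_syl {T : Subgroup G} (hT : IsSyl 2 T ⊤) (hA : A ≤ T) : Sg A T :=
  ⟨h.sim, h.nc, h.el, h.ne, h.sc, hT, hA⟩

end Sg

namespace Gl

variable {𝒜 : Set G} {A S : Subgroup G} (h : Gl 𝒜 A S)
include h

theorem of_syl {T : Subgroup G} (hT : IsSyl 2 T ⊤) (hA : A ≤ T) : Gl 𝒜 A T :=
  ⟨h.toAmb, h.el, h.ne, h.sc, h.irr, h.mem, hT, hA⟩

theorem le_sqs (hc : S ≤ 𝐂(A)) (h0 : A ⊓ sqs S ≠ ⊥) : A ≤ sqs S := by
  refine inf_eq_left.1 ((h.irr _ inf_le_left ?_).resolve_left h0)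
  have hC : 𝐂(A) ⊲ 𝐍(A) := ⟨cent_le_norm A, norm_cent⟩
  rw [← (h.syl.of_le hc le_top).frattini Nat.prime_two hC]
  exact sup_le ((cent_anti inf_le_left).trans (cent_le_norm _))
    (H1.le_normalizer_inf inf_le_left (inf_le_right.trans (P18.BS.norm_sqs S)))

theorem good_of (hc : S ≤ 𝐂(A)) {Z : Subgroup G} (h1 : ∀ s ∈ S, s * s ∈ Z) (h2 : ¬ A ≤ Z) :
    Good A S := ⟨hc, by_contra fun k => h2 ((h.le_sqs hc k).trans ((closure_le Z).2 (by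
  rintro _ ⟨x, hx, rfl⟩
  exact h1 x hx)))⟩

end Gl

namespace Gx

variable {𝒜 : Set G} {A S : Subgroup G} (h : Gx 𝒜 A S)
include h

theorem sg : Sg A S := h.toGl.sg

theorem laC {a : G} (ha : a ∈ A) (a1 : a ≠ 1) : LocA A 𝐂[a] :=
  h.la _ (h.sg.cent_ne a1) (h.sg.le_cent ha)

theorem lbC {a : G} (ha : a ∈ A) (a1 : a ≠ 1) : LocB A 𝐂[a] :=
  h.lb _ (h.sg.cent_ne a1) (h.sg.le_cent ha)

theorem of_syl {T : Subgroup G} (hT : IsSyl 2 T ⊤) (hA : A ≤ T) : Gx 𝒜 A T :=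
  ⟨h.toGl.of_syl hT hA, h.la, h.lb, h.pump⟩

theorem dc {a : G} {K : Subgroup G} (b : Bk A a K) : ∃ V R, Dc A K (A ⊓ Zb a K) V R :=
  (h.laC b.mem b.inv.ne).dc K b.act

theorem nK {a : G} {K : Subgroup G} (b : Bk A a K) : A ≤ 𝐍(K) :=
  (h.laC b.mem b.inv.ne).nA b.act.toCq

theorem not_le {a : G} {K : Subgroup G} (b : Bk A a K) : ¬ A ⊓ K ≤ Zb a K :=
  (h.laC b.mem b.inv.ne).not_le b.act

/-- Pumping a block. -/
theorem pumpB {a e : G} {K : Subgroup G} (b : Bk A a K) (he : e ∈ A ⊓ Zb a K) (e1 : e ≠ 1) :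
    ∃ K', Bk A e K' ∧ A ⊓ K ≤ K' ∧ IA A (K ⊓ 𝐂[e]) ≤ K' ∧
      (∀ u ∈ 𝐍(K), u ∈ Zb e K' → u ∈ Zb a K) ∧ A ⊓ Zb e K' ≤ A ⊓ Zb a K := by
  obtain ⟨K', c, h1, h2⟩ := h.pump _ _ (h.sg.cent_ne b.inv.ne) (h.sg.le_cent b.mem)
    (h.sg.cent_ne e1) (h.sg.le_cent he.1) K b.act
    (b.act.cover1 (h.sg.le_cent b.mem he.1) (h.sg.sq he.1) he.2)
  exact ⟨K', ⟨he.1, h.sg.inv he.1 e1, c⟩,
    fun v hv => h1 (mem_IA' ⟨hv.2, h.sg.le_cent he.1 hv.1⟩ hv.1), h1, h2,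
    fun u hu => ⟨hu.1, h2 u (h.nK b hu.1) hu.2⟩⟩

/-- Pumping a minimal block. -/
theorem pumpM {a e : G} {K : Subgroup G} (b : Mb A a K) (he : e ∈ A ⊓ Zb a K) (e1 : e ≠ 1) :
    ∃ K', Mb A e K' ∧ A ⊓ K ≤ K' ∧ IA A (K ⊓ 𝐂[e]) ≤ K' ∧
      (∀ u ∈ 𝐍(K), u ∈ Zb e K' → u ∈ Zb a K) ∧ A ⊓ Zb e K' = A ⊓ Zb a K := by
  obtain ⟨K', b', h1, h2, h3, h4⟩ := h.pumpB b.toBk he e1
  have e := eq_of_le_of_card_ge h4 (b.min e K' b')
  exact ⟨K', ⟨b', fun c L k => e ▸ b.min c L k⟩, h1, h2, h3, e⟩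

theorem g1 {a c : G} {K K' : Subgroup G} (p : Mb A a K) (q : Bk A c K')
    (k : (A ⊓ Zb a K) ⊓ (A ⊓ Zb c K') ≠ ⊥) :
    A ⊓ Zb a K ≤ A ⊓ Zb c K' ∨ A ⊓ K ≤ A ⊓ Zb c K' := by
  obtain ⟨d, hd, d1⟩ := (bot_or_exists_ne_one _).resolve_left k
  obtain ⟨K₁, p₁, h1, -, -, h2⟩ := h.pumpM p hd.1 d1
  obtain ⟨K₂, q₁, -, -, -, h3⟩ := h.pumpB q hd.2 d1
  rcases eq_or_ne K₁ K₂ with rfl | e
  · exact Or.inl (h2 ▸ h3)
  · exact Or.inr ((le_inf inf_le_left (h1.trans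
      (p₁.act.le_Z_of_ne q₁.act.toCq e))).trans h3)

/-- A proper subgroup containing `N(A)`, the cores and the blocks makes `A^#` one class. -/
theorem se {M : Subgroup G} (h0 : M ≠ ⊤) (h1 : 𝐍(A) ≤ M) (h2 : ∀ a ∈ A, a ≠ 1 → Oc a ≤ M)
    (h3 : ∀ a K, Bk A a K → K ≤ M) :
    ∀ x ∈ A, x ≠ 1 → ∀ y ∈ A, y ≠ 1 → ∃ g ∈ 𝐍(A), g * x * g⁻¹ = y :=
  h.sg.one_class h0 h1 fun a ha a1 => (h.laC ha a1).gen M (h2 a ha a1)
    (fun K c => h3 a K ⟨ha, h.sg.inv ha a1, c⟩) (inf_le_right.trans h1)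

end Gx

theorem exists_mb {A : Subgroup G} {a : G} {K : Subgroup G} (b : Bk A a K) : ∃ a K, Mb A a K := by
  obtain ⟨⟨c, L⟩, h1, h2⟩ := Set.exists_min_image {p : G × Subgroup G | Bk A p.1 p.2}
    (fun p => 𝐨((A ⊓ Zb p.1 p.2 : Subgroup G))) (Set.toFinite _) ⟨(a, K), b⟩
  exact ⟨c, L, h1, fun c' L' k => h2 (c', L') k⟩

end Cfsg.Agent.P21
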