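/-
P21: the subgroup generated by the class in a Sylow 2-subgroup.
-/
import Cfsg.Agent.P21.G0

set_option autoImplicit false
set_option linter.unusedSectionVars false
set_option linter.style.haveILetI false

namespace Cfsg.Agent.P21

open Subgroup Cfsg Cfsg.Agent Cfsg.Agent.FT
open Cfsg.Agent.P14 (SC SCl Ctrl norm_cent cjm cmr cml)
open Cfsg.Agent.P6 (Inv Od)
open scoped commutatorElement

universe u

variable {G : Type u} [Group G] [Finite G]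

/-- The subgroup generated by the members of the class in `S`. -/
def Az (𝒜 : Set G) (S : Subgroup G) : Subgroup G := closure {a | a ∈ 𝒜 ∧ a ∈ S}

theorem Az_le (𝒜 : Set G) (S : Subgroup G) : Az 𝒜 S ≤ S := (closure_le S).2 fun _ h => h.2

theorem mem_Az {𝒜 : Set G} {S : Subgroup G} {a : G} (h : a ∈ 𝒜) (h' : a ∈ S) : a ∈ Az 𝒜 S :=
  subset_closure ⟨h, h'⟩

namespace GA

variable {𝒜 : Set G} (h : GA 𝒜) {S : Subgroup G} (hS : IsPGroup 2 S)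
include h hS

theorem mem_Az_iff {a : G} : a ∈ Az 𝒜 S ↔ a = 1 ∨ a ∈ 𝒜 ∧ a ∈ S := by
  refine ⟨fun k => ?_, fun k => k.elim (fun e => e ▸ one_mem _) fun e => mem_Az e.1 e.2⟩
  induction k using closure_induction with
  | mem x hx => exact Or.inr hx
  | one => exact Or.inl rfl
  | mul x y _ _ hx hy =>
    rcases hx with rfl | hx
    · rwa [one_mul]
    rcases hy with rfl | hy
    · rw [mul_one]; exact Or.inr hx
    rcases eq_or_ne x y with rfl | e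
    · exact Or.inl (h.inv x hx.1).sq
    · exact Or.inr ⟨h.mul x hx.1 y hy.1 e (h.two S hS x hx.1 y hy.1 hx.2 hy.2), mul_mem hx.2 hy.2⟩
  | inv x _ hx =>
    rcases hx with rfl | hx
    · exact Or.inl inv_one
    · rw [(h.inv x hx.1).inv_eq]; exact Or.inr hx

theorem of_Az {a : G} (ha : a ∈ Az 𝒜 S) (a1 : a ≠ 1) : a ∈ 𝒜 :=
  (((h.mem_Az_iff hS).1 ha).resolve_left a1).1

theorem el_Az : IsElementaryAbelian 2 (Az 𝒜 S) := by
  refine ⟨isMulComm_iff_le_cent.2 fun a ha b hb => ?_, fun a ha => ?_⟩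
  · rcases (h.mem_Az_iff hS).1 ha with rfl | ha
    · simp
    rcases (h.mem_Az_iff hS).1 hb with rfl | hb
    · simp
    exact h.two S hS b hb.1 a ha.1 hb.2 ha.2
  · rcases (h.mem_Az_iff hS).1 ha with rfl | ha
    · simp
    · rw [pow_two, (h.inv a ha.1).sq]

theorem scl_Az : SCl ⊤ S (Az 𝒜 S) := fun a ha g _ k => by
  rcases (h.mem_Az_iff hS).1 ha with rfl | ha
  · simp
  · exact mem_Az (h.conj a ha.1 g) k

theorem norm_Az : 𝐍(S) ≤ 𝐍(Az 𝒜 S) := fun g hg => mem_norm_of_conj_le (by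
  rintro _ ⟨a, ha, rfl⟩
  exact h.scl_Az hS a ha g (mem_top g) (cjm hg (Az_le 𝒜 S ha)))

/-- Property (b). -/
theorem cent_Az {σ : G} (h1 : σ ∈ 𝐍(S)) (ho : Odd (orderOf σ)) (h2 : σ ∈ 𝐂(Az 𝒜 S)) : σ ∈ 𝐂(S) :=
  h.odd S hS σ h1 ho fun _ ha k => cent_le_cent1 (mem_Az ha k) h2

/-- Property (b) for a subgroup that misses the class. -/
theorem cent_of_disj {P : Subgroup G} (hP : P ≤ S) (k : P ⊓ Az 𝒜 S = ⊥) {σ : G} (h1 : σ ∈ 𝐍(P))
    (ho : Odd (orderOf σ)) : σ ∈ 𝐂(P) :=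
  h.odd P (hS.to_le hP) σ h1 ho fun a ha e =>
    ((h.inv a ha).ne (mem_bot.1 (k ▸ mem_inf.2 ⟨e, mem_Az ha (hP e)⟩))).elim

end GA

namespace Amb

variable {𝒜 : Set G} (h : Amb 𝒜) {S : Subgroup G} (hS : IsSyl 2 S ⊤)
include h hS

theorem Az_ne : Az 𝒜 S ≠ ⊥ := fun e => by
  have h1 : HasNPC 2 (⊤ : Subgroup G) := npc_of_odd fun P _ hP σ hσ ho => by
    obtain ⟨g, -, k⟩ := hS.exists_conj_le Nat.prime_two hP le_top
    refine h.ga.odd P hP σ hσ.2 ho fun a ha aP => ?_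
    have := mem_Az (h.ga.conj a ha g) (k (conj_mem_conj aP g))
    rw [e, mem_bot, conj_eq_one_iff] at this
    exact ((h.ga.inv a ha).ne this).elim
  have ns := P7.ns_top h.sim h.nc
  have h2 : Od (⊤ : Subgroup G) = ⊥ := by
    by_contra k
    exact P7.norm_ne_top h.sim k (fun e => ns (e ▸ P7.solv_Od _)) (top_le_iff.1 (P7.le_norm_Od _))
  have h3 := (h1.sdProd Nat.prime_two hS).sup
  rw [show H2.pPrimeCoreOf 2 (⊤ : Subgroup G) = ⊥ from h2, bot_sup_eq] at h3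
  exact ns (h3 ▸ H1.isSolvable_of_isPGroup hS.pgrp)

theorem sg_Az : Sg (Az 𝒜 S) S :=
  ⟨h.sim, h.nc, h.ga.el_Az hS.pgrp, h.Az_ne hS, (h.ga.scl_Az hS.pgrp).sc hS (Az_le 𝒜 S), hS,
    Az_le 𝒜 S⟩

/-- `C(A₀)` has a normal 2-complement. -/
theorem npc_Az : HasNPC 2 𝐂(Az 𝒜 S) := npc_of_odd fun P hC hP σ hσ ho => by
  obtain ⟨g, hg, k⟩ := (h.sg_Az hS).sylR.exists_conj_le Nat.prime_two hP hC
  refine h.ga.odd P hP σ hσ.2 ho fun a ha aP => cent_le_cent1 ?_ hσ.1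
  have := mem_Az (h.ga.conj a ha g) (k (conj_mem_conj aP g)).1
  exact (mem_normalizer_iff.1 (cent_le_norm _ hg) a).2 this

theorem Od_Az : Od 𝐍(Az 𝒜 S) = Od 𝐂(Az 𝒜 S) := by
  have s := h.sg_Az hS
  have h1 : Od 𝐍(Az 𝒜 S) ≤ 𝐂(Az 𝒜 S) := by
    rw [← commutator_eq_bot_iff_le_centralizer]
    exact eq_bot_iff.2 fun x hx => P7.eq_one_of_two_odd s.pg (P6.odd_Od _)
      (comm_le_right_iff.2 (P7.Od_le _) hx)
      (comm_le_left_iff.2 (le_normalizer.trans (P7.le_norm_Od _)) hx)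
  exact le_antisymm (P6.le_Od ⟨h1, (cent_le_norm _).trans (P7.le_norm_Od _)⟩ (P6.odd_Od _))
    (P6.le_Od ⟨(P7.Od_le _).trans (cent_le_norm _), norm_cent.trans (P6.norm_le_norm_Od _)⟩
      (P6.odd_Od _))

theorem cent_Az_eq : Od 𝐍(Az 𝒜 S) ⊔ S ⊓ 𝐂(Az 𝒜 S) = 𝐂(Az 𝒜 S) :=
  h.Od_Az hS ▸ ((h.npc_Az hS).sdProd Nat.prime_two (h.sg_Az hS).sylR).sup

/-- If `S O(X)` is normal in `X = N(A₀)` then `N(S)` controls fusion in `S`. -/
theorem elt_norm (k : 𝐍(Az 𝒜 S) ≤ Od 𝐍(Az 𝒜 S) ⊔ 𝐍(S)) {t m : G} (ht : t ∈ S)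
    (hm : m ∈ 𝐍(Az 𝒜 S)) (e : m * t * m⁻¹ ∈ S) : ∃ n ∈ 𝐍(S), m * t * m⁻¹ = n * t * n⁻¹ := by
  have s := h.sg_Az hS
  have hn := (h.ga.norm_Az hS.pgrp).trans (P7.le_norm_Od _)
  obtain ⟨o, ho, n, hn', rfl⟩ := (mem_sup_of_norm hn).1 (k hm)
  refine ⟨n, hn', ?_⟩
  have h1 := cjm hn' ht
  have h2 : ⁅o, n * t * n⁻¹⁆ = 1 := P7.eq_one_of_two_odd hS.pgrp (P6.odd_Od _) (by
    have := mul_mem e (inv_mem h1)
    convert this using 1
    rw [commutatorElement_def]; group) (cml (hn (le_normalizer h1)) ho)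
  rw [commutatorElement_eq_one_iff_mul_comm] at h2
  calc _ = o * (n * t * n⁻¹) * o⁻¹ := by group
    _ = _ := by rw [h2, mul_inv_cancel_right]

/-- A nontrivial subgroup of `S` that is normal in `N(S)` meets `A₀`. -/
theorem meet (k : 𝐍(Az 𝒜 S) ≤ Od 𝐍(Az 𝒜 S) ⊔ 𝐍(S)) {U : Subgroup G} (hU : U ≤ S)
    (hn : 𝐍(S) ≤ 𝐍(U)) (h0 : U ⊓ Az 𝒜 S = ⊥) : U = ⊥ := by
  by_contra e
  obtain ⟨z, hz, iz⟩ := P7.exists_inv_of_two (hS.pgrp.to_le (inf_le_left.trans hU))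
    (inf_center_ne_bot (isNilpotent_of_isPGroup Nat.prime_two hS.pgrp)
      ⟨hU, le_normalizer.trans hn⟩ e)
  refine (h.sg_Az hS).zstar (hU hz.1) iz fun m hm e => ?_
  obtain ⟨n, hn', e'⟩ := h.elt_norm hS k (hU hz.1) hm e
  have : 𝐍(S) ≤ 𝐂[z] := (H7.SC.le_sup_syl (hn.trans norm_cent) (hS.of_le le_normalizer le_top)
    fun x hx => (P14.exists_odd_pow x).imp fun j ho =>
      h.ga.cent_of_disj hS.pgrp hU h0 (hn (pow_mem hx _)) ho).trans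
    (sup_le (mem_cent_iff_cent1.1 hz.2) (cent_le_cent1 hz.1))
  rw [e', mem_cent1_iff_conj.1 (this hn')]

end Amb

theorem Gl.le_Az {𝒜 : Set G} {A S : Subgroup G} (h : Gl 𝒜 A S) : A ≤ Az 𝒜 S := fun a ha =>
  (eq_or_ne a 1).elim (fun e => e ▸ one_mem _) fun e => mem_Az (h.mem a ha e) (h.le ha)

theorem Gl.norm_Az_le {𝒜 : Set G} {A S : Subgroup G} (h : Gl 𝒜 A S) : 𝐍(Az 𝒜 S) ≤ 𝐍(A) :=
  (le_inf le_top le_rfl).trans (h.sc.norm_le le_top (h.toAmb.sg_Az h.syl).pg h.le_Az)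

end Cfsg.Agent.P21
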