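/-
P21: pumping an active component up.
-/
import Cfsg.Agent.P21.Q

set_option autoImplicit false
set_option linter.unusedSectionVars false
set_option linter.style.haveILetI false

namespace Cfsg.Agent.P21

open Subgroup Cfsg Cfsg.Agent Cfsg.Agent.FT
open Cfsg.Agent.P14 (cjm cmr cml)
open Cfsg.Agent.P6 (Inv Od)
open Cfsg.Agent.P7 (br Zc Od_le le_norm_Od)
open scoped commutatorElement

universe u

variable {G : Type u} [Group G] [Finite G]

theorem LocA.parts {A X H : Subgroup G} (l : LocA A X) (h1 : ∀ K, Act A X K → A ⊓ K ≤ H)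
    (h2 : ∀ b ∈ A, (∀ K, Act A X K → b ∈ Zc X K) → b ∈ H) : A ≤ H := by
  suffices k : ∀ n, ∀ a ∈ A, {K | Act A X K ∧ a ∉ Zc X K}.ncard = n → a ∈ H from
    fun a ha => k _ a ha rfl
  intro n
  induction n using Nat.strong_induction_on with
  | _ n ih =>
  intro a ha hn
  by_cases k : ∀ K, Act A X K → a ∈ Zc X K
  · exact h2 a ha k
  push Not at k
  obtain ⟨K, c, hK⟩ := k
  obtain ⟨V, R, d⟩ := l.dc K c
  obtain ⟨v, hv, b, hb, rfl⟩ := d.dec a ha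
  refine mul_mem (h1 K c (d.vle hv)) (ih _ (hn ▸ Set.ncard_lt_ncard ⟨fun L hL => ⟨hL.1, fun e =>
    hL.2 ((mul_mem_cancel_left (c.le_Z_of_ne hL.1.toCq (fun k => hL.2 (k ▸ hb.2))
      (d.vK hv))).1 e)⟩, fun k => (k ⟨c, hK⟩).2 hb.2⟩) b hb.1 rfl)

theorem pumpStmt : PumpStmt.{u} := by
  intro G _ _ A X X' h h' K c hc
  have pg := elemAb_isPGroup h.el
  have one : ∀ {Y : Subgroup G} {a : G}, a ∈ A → a ∈ Od Y → a = 1 := fun ha ho =>
    P7.eq_one_of_two_odd pg (P6.odd_Od _) ha ho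
  have hV : A ⊓ K ≤ K ⊓ X' := le_inf inf_le_right (inf_le_left.trans h'.le)
  have h1 := c.le_IA (h.not_le c) hV inf_le_left hc
  have hS : A ≤ 𝐍(IA A (K ⊓ X')) := (H1.le_normalizer_inf (h.nA c.toCq)
    (h'.le.trans le_normalizer)).trans (norm_le_norm_IA _ _)
  have hX' : IA A (K ⊓ X') ≤ IA A X' := IA_mono inf_le_right
  have hK : IA A (K ⊓ X') ≤ K := (IA_le _ _).trans inf_le_left
  have gen : ∀ N : Subgroup G, IA A (K ⊓ X') ≤ 𝐍(N) → Odd (N.relIndex (IA A (K ⊓ X'))) →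
      IA A (K ⊓ X') ≤ N := fun N => IA_le_of_odd h.el
  have hAL : A ⊓ K ≤ IA A (K ⊓ X') := fun v hv => mem_IA' (hV hv) hv.1
  generalize IA A (K ⊓ X') = L at *
  obtain ⟨σ, hσ, hn, hz⟩ : ∃ σ ∈ L ⊓ 𝐍(A), ¬ A ≤ 𝐂[σ] ∧
      ∀ a ∈ A, ⁅σ, a⁆ ∈ Zc X K → ⁅σ, a⁆ = 1 := by
    obtain ⟨V, R, d⟩ := h.dc K c
    obtain ⟨v, hv, v1, -⟩ := P7.exists_ne3 d.four 1 1 1
    obtain ⟨w, hw, w1, wv, -⟩ := P7.exists_ne3 d.four 1 v 1
    obtain ⟨ρ, hρ, rfl⟩ := d.tr v hv v1 w hw w1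
    have hLO : L ≤ 𝐍(Od X) := hK.trans c.le_norm_Od
    have ρK := (d.rle hρ).1.1
    obtain ⟨l, hl, o, ho, e0⟩ := (H1.mem_sup_iff_of_le_normalizer hLO).1 (h1 ρK)
    have nA := d.rN hρ
    have hD : A ≤ 𝐍((L ⊓ Od X : Subgroup G)) :=
      H1.le_normalizer_inf hS (h.le.trans (le_norm_Od X))
    have s1 : IsSyl 2 A (L ⊓ Od X ⊔ A) := by
      rw [isSyl_iff_hall Nat.prime_two]
      exact (hall_of_sup hD ((isPi_singleton_iff Nat.prime_two).2 pg)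
        ((isPi_compl_singleton_iff Nat.prime_two).2
          (P6.odd_of_le inf_le_right (P6.odd_Od X)).coprime_two_right)).1
    obtain ⟨y, hy, e⟩ := s1.exists_conj_le Nat.prime_two (Q := A ^ᵍ l⁻¹) (pg.map _) (by
      rintro _ ⟨a, ha, rfl⟩
      show l⁻¹ * a * l⁻¹⁻¹ ∈ _
      have a1 := cjm (inv_mem nA) ha
      rw [show l⁻¹ * a * l⁻¹⁻¹ = ⁅o, ρ⁻¹ * a * ρ⁻¹⁻¹⁆ * (ρ⁻¹ * a * ρ⁻¹⁻¹) by
        rw [← e0, commutatorElement_def]; group]
      refine mul_mem_sup ⟨?_, cml (le_norm_Od X (h.le a1)) ho⟩ a1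
      rw [show ⁅o, ρ⁻¹ * a * ρ⁻¹⁻¹⁆ = ⁅l⁻¹, a⁆ * ⁅a, ρ⁻¹⁆ by
        rw [← e0]; simp only [commutatorElement_def]; group]
      exact mul_mem (cml (hS ha) (inv_mem hl))
        (hAL ⟨cml (inv_mem nA) ha, cmr (h.nA c.toCq ha) (inv_mem ρK)⟩))
    rw [sup_comm] at hy
    obtain ⟨a, ha, x, hx, rfl⟩ := (H1.mem_sup_iff_of_le_normalizer hD).1 hy
    rw [conj_conj] at e
    have n1 : l * x⁻¹ ∈ 𝐍(A) := by
      simpa [mul_assoc] using (𝐍(A)).mul_mem (inv_mem (mem_norm_of_conj_le e)) (le_normalizer ha)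
    have n2 : ∀ b ∈ A, ⁅l * x⁻¹, b⁆ = ⁅ρ, b⁆ := fun b hb => by
      have := one (cmr (mul_mem (inv_mem n1) nA) hb) (cml (le_norm_Od X (h.le hb)) (by
        simpa [← e0, mul_assoc] using mul_mem hx.2 ho))
      rw [commutatorElement_eq_one_iff_mul_comm] at this
      calc _ = l * x⁻¹ * (b * ((l * x⁻¹)⁻¹ * ρ)) * ρ⁻¹ * b⁻¹ := by
            rw [commutatorElement_def]; group
        _ = _ := by rw [← this, commutatorElement_def]; group
    refine ⟨_, ⟨L.mul_mem hl (L.inv_mem hx.1), n1⟩, fun k => wv ?_, fun b hb k => ?_⟩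
    · have := n2 v (d.vA hv)
      rw [commutatorElement_eq_one_iff_mul_comm.2 (mem_cent1.1 (k (d.vA hv))), eq_comm,
        commutatorElement_eq_one_iff_mul_comm] at this
      rw [this, mul_inv_cancel_right]
    · rw [n2 b hb] at k ⊢
      refine d.disj _ ?_ ⟨cmr nA hb, k⟩
      obtain ⟨u, hu, z, hz, rfl⟩ := d.dec b hb
      rw [show ⁅ρ, u * z⁆ = ρ * u * (z * ρ⁻¹) * z⁻¹ * u⁻¹ by rw [commutatorElement_def]; group,
        (𝐂((A ⊓ Zc X K : Subgroup G))).inv_mem (d.rle hρ).1.2 z hz]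
      simpa [commutatorElement_def, mul_assoc] using cmr (d.rle hρ).2 hu
  obtain ⟨K', c', hn'⟩ : ∃ K', Act A X' K' ∧ ¬ A ⊓ K' ≤ 𝐂[σ] := by
    by_contra k
    push Not at k
    exact hn (h'.parts k fun b hb e => mem_cent1.2 (commutatorElement_eq_one_iff_mul_comm.1
      (one (cmr hσ.2 hb) (h'.o2 b hb e σ (hX' hσ.1)))))
  obtain ⟨v, hv, hv'⟩ := SetLike.not_le_iff_exists.1 hn'
  have hN := hX'.trans (h'.nrm K' c'.toCq)
  have h2 : K ≤ L ⊓ K' ⊔ Od X := c.le_sup (inf_le_left.trans hK) (h1.trans (sup_le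
    (H1.le_normalizer_sup (H1.le_normalizer_inf le_normalizer hN) (hK.trans c.le_norm_Od))
    (le_sup_right.trans le_normalizer))) fun k => hv' (mem_cent1.2
      (commutatorElement_eq_one_iff_mul_comm.1 (hz v hv.1
        (k ⟨cml (hS hv.1) hσ.1, cmr (hN hσ.1) hv.2⟩))))
  have h3 : L ≤ K' := by
    refine (gen (L ⊓ K') (H1.le_normalizer_inf le_normalizer hN) (P7.odd_relIndex_of_le_sup
      (O := L ⊓ Od X) (inf_le_left.trans (H1.le_normalizer_inf le_normalizer hN))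
      (P6.odd_of_le inf_le_right (P6.odd_Od X)) fun l hl => ?_)).trans inf_le_right
    obtain ⟨a, ha, o, ho, rfl⟩ := (H1.mem_sup_iff_of_le_normalizer
      ((inf_le_left.trans hK).trans c.le_norm_Od)).1 (h2 (hK hl))
    exact mul_mem_sup ha ⟨by simpa using L.mul_mem (L.inv_mem ha.1) hl, ho⟩
  refine ⟨K', c', h3, fun u hu hy => zpowers_le.1 (c.le_Z_of (zpowers_le.2 hu) hK ?_ h1)⟩
  refine (le_inf ?_ ((commutator_mono le_rfl hK).trans (comm_le_right_iff.2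
    (zpowers_le.2 hu)))).trans (c.odd_le (D := Od X' ⊓ K) inf_le_right
      (P6.odd_of_le inf_le_left (P6.odd_Od X')) inf_le_left (H1.le_normalizer_inf
        (inf_le_right.trans (le_norm_Od X')) (inf_le_left.trans le_normalizer)) hc)
  rw [commutator_comm]
  exact (commutator_mono h3 (zpowers_le.2 hy)).trans (le_centMod_iff.1 le_rfl).2

end Cfsg.Agent.P21
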