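/-
P21: assembly of chapter B.
-/
import Cfsg.Agent.P21.A0
import Cfsg.Agent.P21.Pump

set_option autoImplicit false
set_option linter.unusedSectionVars false
set_option linter.style.haveILetI false

namespace Cfsg.Agent.P21

open Subgroup Cfsg Cfsg.Agent Cfsg.Agent.FT
open Cfsg.Agent.P14 (SC SCl Ctrl norm_cent cjm cmr cml)
open Cfsg.Agent.P18 (CHyp sqs)
open Cfsg.Agent.P18.BS (sq_mem sqs_le norm_sqs)
open Cfsg.Agent.P6 (Inv Od)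
open scoped commutatorElement

universe u

variable {G : Type u} [Group G] [Finite G]

namespace BS

theorem gl {𝒜 : Set G} (h : Amb 𝒜) {S A : Subgroup G} (hS : IsSyl 2 S ⊤)
    (hm : Minimal (fun U => U ≤ Az 𝒜 S ∧ U ≠ ⊥ ∧ 𝐍(Az 𝒜 S) ≤ 𝐍(U)) A) : Gl 𝒜 A S := by
  obtain ⟨⟨le, ne, nA⟩, hm⟩ := hm
  have s := h.sg_Az hS
  exact ⟨h, elemAb_of_le le s.el, ne, (s.ctrl.scl (le.trans s.le) fun b hb g hg _ =>
    cjm (nA hg.2) hb).sc hS (le.trans s.le), fun U hU hn => or_iff_not_imp_left.2 fun e =>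
      le_antisymm hU (hm ⟨hU.trans le, e, nA.trans hn⟩ hU),
    fun a ha a1 => h.ga.of_Az hS.pgrp (le ha) a1, hS, le.trans s.le⟩

theorem der_le_sqs (S : Subgroup G) : ⁅S, S⁆ ≤ sqs S := commutator_le.2 fun x hx y hy => by
  rw [show ⁅x, y⁆ = x * x * (x⁻¹ * y * (x⁻¹ * y)) * (y⁻¹ * y⁻¹) by
    rw [commutatorElement_def]; group]
  exact mul_mem (mul_mem (sq_mem hx) (sq_mem (mul_mem (inv_mem hx) hy))) (sq_mem (inv_mem hy))

theorem ab2_of {S : Subgroup G} (hS : IsSyl 2 S ⊤) (h : IsMulCommutative S) : Ab2 G :=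
  fun P hP => by
    obtain ⟨g, -, k⟩ := hS.exists_le_conj Nat.prime_two hP le_top
    exact isMulComm_of_le k (isMulComm_iff_le_cent.2
      (conj_le_cent_iff.2 (isMulComm_iff_le_cent.1 h)))

theorem ab2 {𝒜 : Set G} (h : Amb 𝒜) {S : Subgroup G} (hS : IsSyl 2 S ⊤)
    (hall : ∀ A, Gl 𝒜 A S → Good A S) : Ab2 G := by
  have s := h.sg_Az hS
  have mem : ∀ U ≤ Az 𝒜 S, 𝐍(Az 𝒜 S) ≤ 𝐍(U) → U ≠ ⊥ →
      ∃ A ≤ U, A ≠ ⊥ ∧ 𝐍(Az 𝒜 S) ≤ 𝐍(A) ∧ Good A S := fun U a b c => by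
    obtain ⟨A, l, m⟩ := exists_minimal_le_of_wellFoundedLT
      (fun U => U ≤ Az 𝒜 S ∧ U ≠ ⊥ ∧ 𝐍(Az 𝒜 S) ≤ 𝐍(U)) U ⟨a, c, b⟩
    exact ⟨A, l, m.1.2.1, m.1.2.2, hall A (gl h hS m)⟩
  obtain ⟨P, -, ⟨p1, p2, p3⟩, pm⟩ := exists_maximal_ge_of_wellFoundedGT
    (fun P => P ≤ Az 𝒜 S ∧ 𝐍(Az 𝒜 S) ≤ 𝐍(P) ∧ S ≤ 𝐂(P)) ⊥
    ⟨bot_le, le_top.trans (normalizer_eq_top ⊥).ge, le_top.trans cent_bot.ge⟩
  have pm' : ∀ A ≤ Az 𝒜 S, 𝐍(Az 𝒜 S) ≤ 𝐍(A) → S ≤ 𝐂(A) → A ≤ P := fun A a b c =>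
    le_sup_right.trans (pm ⟨sup_le p1 a, H1.le_normalizer_sup p2 b,
      (le_inf p3 c).trans (cent_sup _ _).ge⟩ le_sup_left)
  have hN : 𝐍(Az 𝒜 S) ⊓ 𝐂(P) ⊲ 𝐍(Az 𝒜 S) :=
    ⟨inf_le_left, H1.le_normalizer_inf le_normalizer (p2.trans norm_cent)⟩
  have s1 : IsSyl 2 S (𝐍(Az 𝒜 S) ⊓ 𝐂(P)) := hS.of_le (le_inf s.nrm p3) le_top
  have q1 : P ⊓ sqs S = ⊥ := by
    by_contra e
    obtain ⟨A, a1, a2, -, a4⟩ := mem _ (inf_le_left.trans p1) (by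
      rw [← s1.frattini Nat.prime_two hN]
      exact sup_le (inf_le_right.trans ((cent_anti inf_le_left).trans (cent_le_norm _)))
        (H1.le_normalizer_inf (inf_le_left.trans p2) (inf_le_right.trans (norm_sqs S)))) e
    exact a2 (by rw [← a4.2, inf_eq_left.2 (a1.trans inf_le_right)])
  have q2 : S ≤ 𝐂(Az 𝒜 S) := by
    refine s1.le.trans (cent_comm.1 (commutator_eq_bot_iff_le_centralizer.1 (by_contra fun e => ?_)))
    have l1 := comm_le_left_iff.2 (inf_le_left : 𝐍(Az 𝒜 S) ⊓ 𝐂(P) ≤ _)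
    obtain ⟨A, a1, a2, a3, a4⟩ := mem _ l1 (H1.le_normalizer_commutator le_rfl hN.2) e
    obtain ⟨z, hz, z1⟩ := (bot_or_exists_ne_one A).resolve_left a2
    have zP := pm' A (a1.trans l1) a3 a4.1 hz
    have := der_le_sqs S (P7.pow_mem_der s1.le (commutator_mono (s.le.trans s1.le) le_rfl (a1 hz))
      (cent_anti inf_le_right (cent_comm.1 le_rfl zP)))
    obtain ⟨m, hm⟩ := P4.odd_iff_not_dvd.2 s1.ndvd
    rw [hm, pow_succ, pow_mul, pow_two, s.sq (p1 zP), one_pow, one_mul] at this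
    exact z1 (q1.le ⟨zP, this⟩)
  have q3 := h.meet hS (by
    nth_rewrite 1 [← (hS.of_le q2 le_top).frattini Nat.prime_two ⟨cent_le_norm _, norm_cent⟩]
    nth_rewrite 1 [← h.cent_Az_eq hS]
    exact sup_le (sup_le_sup_left (inf_le_left.trans le_normalizer) _)
      (inf_le_right.trans le_sup_right)) (sqs_le S) (norm_sqs S)
    (eq_bot_iff.2 (le_trans (le_inf (inf_le_right.trans (pm' _ le_rfl le_rfl q2)) inf_le_left) q1.le))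
  exact ab2_of hS (isMulComm_iff_le_cent.2 (commutator_eq_bot_iff_le_centralizer.1
    (eq_bot_iff.2 (q3 ▸ der_le_sqs S))))

end BS

theorem bStmt (hA : LAStmt.{u}) (hB : LBStmt.{u}) (h1 : IStmt.{u}) (h2 : IIStmt.{u})
    (h3 : B1Stmt.{u}) (h4 : B4Stmt.{u}) (h5 : AcStmt.{u}) : BStmt.{u} := by
  intro G _ _ 𝒜 h
  obtain ⟨S, hS, -⟩ := exists_isSyl_ge Nat.prime_two (IsPGroup.of_bot (p := 2) (G := G)) le_top
  by_cases hall : ∀ A, Gl 𝒜 A S → Good A S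
  · exact Or.inr (BS.ab2 h hS hall)
  push Not at hall
  obtain ⟨A, g, hn⟩ := hall
  have x := g.gx hA hB pumpStmt
  have nb : ∀ a K, ¬ Bk A a K := fun a K b => by
    obtain ⟨a, K, b⟩ := exists_mb b
    refine h1 G 𝒜 A S x a K b fun y hy e => hn (h2 G 𝒜 A S x a K b y hy e)
  by_cases h8 : 8 ≤ 𝐨(A)
  · exact Or.inl ((h3 G 𝒜 A S x nb h8).elim fun W k => ⟨A, S, W, g, k⟩)
  have c4 : 𝐨(A) = 4 := by
    have := g.sg.four
    obtain ⟨k, hk⟩ := exists_card_eq_pow Nat.prime_two g.sg.pg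
    rw [hk] at h8 this ⊢
    have h6 : k < 3 := (Nat.pow_lt_pow_iff_right one_lt_two).1 (show 2 ^ k < 2 ^ 3 by omega)
    interval_cases k <;> simp_all
  have cen := g.sg.cen4 c4
  rcases h4 G 𝒜 A S x nb c4 cen (g.le_sqs cen fun e => hn ⟨cen, e⟩) with
    ⟨W, k⟩ | k | ⟨S', Z, W, Q, d, k⟩
  exacts [Or.inl ⟨A, S, W, g, k⟩, Or.inr k, (h5 G 𝒜 A S' Z W Q d k).elim]

end Cfsg.Agent.P21
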