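/-
P21: four-groups, the active case.
-/
import Cfsg.Agent.P21.BS

set_option autoImplicit false
set_option linter.unusedSectionVars false
set_option linter.style.haveILetI false

namespace Cfsg.Agent.P21

open Subgroup Cfsg Cfsg.Agent Cfsg.Agent.FT
open Cfsg.Agent.P14 (SC SCl Ctrl norm_cent cjm cmr cml)
open Cfsg.Agent.P18 (CHyp sqs)
open Cfsg.Agent.P18.U (F4)
open Cfsg.Agent.P18.BS (sq_mem sqs_le norm_sqs)
open Cfsg.Agent.P6 (Inv Od)
open scoped commutatorElement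

universe u

variable {G : Type u} [Group G] [Finite G]

namespace AcX

/-- A 2-element of the derived group centralizes a normal subgroup of order at most four. -/
theorem cent_of_der {A H : Subgroup G} (el : IsElementaryAbelian 2 A) (h4 : 𝐨(A) ≤ 4)
    (hH : H ≤ 𝐍(A)) {s : G} (hs : s ∈ ⁅H, H⁆) (two : Two s) : s ∈ 𝐂(A) := by
  classical
  haveI := Fintype.ofFinite A
  by_contra k
  have hN := hH (der_le H hs)
  have cc := isMulComm_iff_le_cent.1 el.1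
  have sq : ∀ a ∈ A, a * a = 1 := fun a ha => (pow_two a).symm.trans (el.2 a ha)
  obtain ⟨z, hz, z1⟩ := (bot_or_exists_ne_one _).resolve_left (inf_center_ne_bot
    (isNilpotent_of_isPGroup Nat.prime_two (IsPGroup.to_sup_of_normal_left'
      (elemAb_isPGroup el) two.zp (zpowers_le.2 hN)))
    ⟨le_sup_left, sup_le le_normalizer (zpowers_le.2 hN)⟩ fun e => k (by
      rw [e, cent_bot]; exact mem_top s))
  obtain ⟨x, hx, xs⟩ := SetLike.not_le_iff_exists.1 (mt mem_cent_iff_cent1.2 k)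
  have zs : s * z * s⁻¹ = z := by
    rw [hz.2 s (mem_sup_right (mem_zpowers s)), mul_inv_cancel_right]
  have xs' : s * x * s⁻¹ ≠ x := fun e => xs (mem_cent1_comm.1 (mem_cent1_iff_conj.2 e))
  have v : P5.V4 z x := ⟨z1, fun e => xs' (by simp [e]), fun e => xs' (e ▸ zs), sq z hz.1, sq x hx,
    cc hx z hz.1⟩
  have eA := eq_of_le_of_card_ge (P5.V4.le_iff.2 ⟨hz.1, hx⟩) (h4.trans v.card.ge)
  have e1 : s * x * s⁻¹ = z * x := by
    rcases v.mem_iff.1 (eA.ge (cjm hN hx)) with e | e | e | e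
    · exact (v.s1 (by simpa using e)).elim
    · exact (v.ts (by simpa using zs.trans e.symm)).elim
    · exact (xs' e).elim
    · exact e
  let φ : H →* ℤˣ := Equiv.Perm.sign.comp ((MulAut.toPerm A).comp (H1.conjAut hH))
  have h1 : φ ⟨s, der_le H hs⟩ = 1 := by
    have := hs
    rw [← map_subtype_der] at this
    obtain ⟨y, hy, e⟩ := this
    obtain rfl : y = ⟨s, der_le H hs⟩ := Subtype.ext e
    exact Abelianization.commutator_subset_ker φ hy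
  have h2 : (MulAut.toPerm A).comp (H1.conjAut hH) ⟨s, der_le H hs⟩ =
      Equiv.swap ⟨x, hx⟩ ⟨z * x, mul_mem hz.1 hx⟩ := Equiv.ext fun ⟨y, hy⟩ => Subtype.ext (by
    show s * y * s⁻¹ = _
    rcases v.mem_iff.1 (eA.ge hy) with rfl | rfl | rfl | rfl
    · rw [Equiv.swap_apply_of_ne_of_ne (fun e => v.s1 (congrArg Subtype.val e).symm)
        fun e => v.ts1 (congrArg Subtype.val e).symm]
      simp
    · rw [Equiv.swap_apply_of_ne_of_ne (fun e => v.ts (congrArg Subtype.val e))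
        fun e => v.s1 (by simpa using congrArg Subtype.val e), zs]
    · rw [Equiv.swap_apply_left, e1]
    · rw [Equiv.swap_apply_right, ← conj_mul, zs, e1, ← mul_assoc, v.tt, one_mul])
  rw [MonoidHom.comp_apply, h2, Equiv.Perm.sign_swap fun e => z1 (by
    simpa using congrArg Subtype.val e)] at h1
  exact absurd h1 (by decide)

theorem dec4 {A : Subgroup G} (f : F4 A) {x y : G} (hx : x ∈ 𝐍(A)) (k : x ∉ 𝐂(A))
    (hy : y ∈ 𝐍(A)) : ∃ g ∈ zpowers x, g⁻¹ * y ∈ 𝐂(A) := by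
  obtain ⟨t, ht, t1, -⟩ := f.exists_ne 1
  obtain ⟨g, hg, e⟩ := f.exists_conj hx k ht t1 (cjm hy ht) (by simpa using t1)
  refine ⟨g, hg, f.mem_cent_of_commute (mul_mem (inv_mem (zpowers_le.2 hx hg)) hy) ht t1 ?_⟩
  calc _ = g⁻¹ * (y * t * y⁻¹) * y := by group
    _ = _ := by rw [← e]; group

theorem der4 {A : Subgroup G} (f : F4 A) : ⁅𝐍(A), 𝐍(A)⁆ ≤ 𝐂(A) :=
  commutator_le.2 fun x hx y hy => by
    by_cases k : x ∈ 𝐂(A)
    · exact cml (norm_cent hy) k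
    obtain ⟨g, hg, e⟩ := dec4 f hx k hy
    obtain ⟨n, rfl⟩ := hg
    have := cjm (norm_cent (zpow_mem hx n)) (cmr (norm_cent hx) e)
    convert this using 1
    simp only [commutatorElement_def]; group

theorem der_cent {V S : Subgroup G} (el : IsElementaryAbelian 2 V) (h4 : 𝐨(V) ≤ 4)
    (hn : ⊤ ≤ 𝐍(V)) (hS : IsSyl 2 S ⊤) (hd : S ≤ ⁅(⊤ : Subgroup G), (⊤ : Subgroup G)⁆) :
    ⁅(⊤ : Subgroup G), (⊤ : Subgroup G)⁆ ≤ 𝐂(V) := by
  have sq : ∀ a ∈ V, a * a = 1 := fun a ha => (pow_two a).symm.trans (el.2 a ha)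
  rcases h4.eq_or_lt with e | e
  · refine (commutator_mono hn hn).trans (der4 ⟨e, sq, fun k => hS.ndvd ?_⟩)
    rw [top_le_iff.1 hn] at k
    exact k.trans (relIndex_dvd_of_le_left _ fun s hs =>
      cent_of_der el h4 hn (hd hs) (Two.of_mem hS.pgrp hs))
  intro g _ v hv
  by_contra k
  have v1 : v ≠ 1 := fun e => k (by simp [e])
  have w : P5.V4 v (g * v * g⁻¹) := ⟨v1, by simpa using v1, fun e => k (by
    nth_rewrite 1 [e]; group), sq v hv, sq _ (cjm (hn (mem_top g)) hv),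
    isMulComm_iff_le_cent.1 el.1 (cjm (hn (mem_top g)) hv) v hv⟩
  exact e.not_ge (w.card ▸ card_le_of_le (P5.V4.le_iff.2 ⟨hv, cjm (hn (mem_top g)) hv⟩))

theorem sq_cent {A B : Subgroup G} (sq : ∀ a ∈ A, a * a = 1) {c : G} (h1 : c ∈ 𝐂(A))
    (h2 : ∀ b ∈ B, ⁅b, c⁆ ∈ A) : c * c ∈ 𝐂(B) := fun b hb => by
  have e1 : c * b * c⁻¹ = ⁅b, c⁆⁻¹ * b := by rw [commutatorElement_def]; group
  have e2 := inv_mem (h2 b hb)
  generalize ⁅b, c⁆⁻¹ = a at e1 e2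
  rw [eq_comm, ← mul_inv_eq_iff_eq_mul]
  calc _ = c * (c * b * c⁻¹) * c⁻¹ := by group
    _ = c * a * c⁻¹ * (c * b * c⁻¹) := by nth_rewrite 1 [e1]; group
    _ = b := by rw [← h1 a e2, mul_inv_cancel_right, e1, ← mul_assoc, sq a e2, one_mul]

theorem br_conj (g v q : G) : ⁅g * v * g⁻¹, g * q * g⁻¹⁆ = g * ⁅v, q⁆ * g⁻¹ := by
  simp only [commutatorElement_def]; group

end AcX

open AcX

namespace Ac

variable {𝒜 : Set G} {A S Z W Q : Subgroup G} {d : G} (h : Ac 𝒜 A S Z W Q d)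
include h

theorem f4 : F4 A := h.gl.sg.f4 h.card

theorem s0 : Sg (Az 𝒜 S) S := h.gl.toAmb.sg_Az h.gl.syl

theorem AZ : A ≤ Z := le_sup_left.trans h.sup.le

theorem WZ : W ≤ Z := le_sup_right.trans h.sup.le

theorem ZS : Z ≤ S := h.ZQ.trans h.QS

theorem cZ : Z ≤ 𝐂(Z) := isMulComm_iff_le_cent.1 h.el.1

theorem cS {f : G} (hf : f ∈ Z) (nf : f ∉ A) : S ⊓ 𝐂[f] = Z :=
  (h.sylZ f hf nf).eq_of_le Nat.prime_two (le_inf h.ZS (h.sylZ f hf nf).le) inf_le_right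
    (h.gl.syl.pgrp.to_le inf_le_left)

theorem nS : S ⊓ 𝐍(Z) = Q := h.sylQ.eq_of_le Nat.prime_two (le_inf h.QS h.sylQ.le) inf_le_right
  (h.gl.syl.pgrp.to_le inf_le_left)

theorem exW : ∃ f ∈ W, f ∉ A := by
  obtain ⟨f, hf, f1⟩ := (bot_or_exists_ne_one W).resolve_left h.ne
  exact ⟨f, hf, fun k => f1 (h.disj.le ⟨k, hf⟩)⟩

theorem fixA {g a : G} (hg : g ∈ 𝐍(A)) (k : g ∉ 𝐂(A)) (ha : a ∈ A) (e : g * a * g⁻¹ = a) :
    a = 1 := by
  by_contra a1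
  exact k (h.f4.mem_cent_of_commute hg ha a1 (mul_inv_eq_iff_eq_mul.1 e))

theorem mem_Z {x f : G} (hx : x ∈ S) (hf : f ∈ Z) (nf : f ∉ A) (e : ⁅x, f⁆ = 1) : x ∈ Z :=
  (h.cS hf nf).le ⟨hx, mem_cent1.2 (commutatorElement_eq_one_iff_mul_comm.1 e).symm⟩

theorem AzQ : Az 𝒜 S ≤ Q := by
  by_cases k : Az 𝒜 S ⊓ Z ≤ A
  · rw [← h.nS]
    refine le_inf h.s0.le (comm_le_right_iff.1 (commutator_le.2 fun a ha z hz => ?_))
    by_cases zA : z ∈ A
    · rw [commutatorElement_eq_one_iff_mul_comm.2 (h.cen (h.s0.le ha) z zA).symm]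
      exact one_mem _
    have a1 := cml (h.s0.nrm (h.ZS hz)) ha
    refine (h.cS hz zA).le ⟨h.s0.le a1, mem_cent1_comm.1 (mem_cent1_iff_conj.2 ?_)⟩
    have zz : z * z = 1 := (pow_two z).symm.trans (h.el.2 z hz)
    have := h.s0.cc ha _ (cjm (h.s0.nrm (h.ZS hz)) ha)
    calc _ = z * a * z⁻¹ * (z * z) * a⁻¹ * (z * z)⁻¹ := by rw [commutatorElement_def]; group
      _ = a⁻¹ * (z * a * z⁻¹) := by
        rw [zz, mul_one, inv_one, mul_one, mul_inv_eq_iff_eq_mul, mul_assoc a⁻¹, this]; group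
      _ = _ := by
        rw [commutatorElement_def, inv_eq_of_mul_eq_one_right (h.s0.sq ha)]; group
  · obtain ⟨f, hf, nf⟩ := SetLike.not_le_iff_exists.1 k
    exact ((le_inf h.s0.le (h.s0.le_cent hf.1)).trans (h.cS hf.2 nf).le).trans h.ZQ

theorem idxA : A.relIndex (Az 𝒜 S) ≤ 4 := by
  by_cases k : Az 𝒜 S ⊓ Z ≤ A
  · rw [← inf_relIndex_right, le_antisymm (le_inf inf_le_right (inf_le_left.trans h.AZ))
      (le_inf k inf_le_left), inf_comm, inf_relIndex_right, ← h.idx]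
    exact relIndex_le_of_le_right h.AzQ (by rw [h.idx]; norm_num)
  · obtain ⟨f, hf, nf⟩ := SetLike.not_le_iff_exists.1 k
    refine (relIndex_le_of_le_right ((le_inf h.s0.le (h.s0.le_cent hf.1)).trans (h.cS hf.2 nf).le)
      (H2.relIndex_pos _ _).ne').trans (le_trans ?_ h.w4)
    have h1 := H1.card_mul_relIndex h.AZ
    rw [← h.sup, H1.card_sup_of_inf_eq_bot ((cent_comm.1 (h.WZ.trans (h.ZS.trans h.cen))).trans
      (cent_le_norm W)) h.disj, h.sup] at h1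
    exact (Nat.eq_of_mul_eq_mul_left Nat.card_pos h1).le

theorem der_le : ⁅𝐍(Az 𝒜 S), 𝐍(Az 𝒜 S)⁆ ≤ 𝐂(A) ⊓ centMod (Az 𝒜 S) A := by
  have nA := h.gl.norm_Az_le
  have l1 : Az 𝒜 S ≤ 𝐍(Az 𝒜 S) := le_normalizer
  haveI := H1.normal_subgroupOf_of_le nA
  refine le_inf ((commutator_mono nA nA).trans (der4 h.f4))
    (le_centMod_iff.2 ⟨(FT.der_le _).trans nA, ?_⟩)
  rw [commutator_comm, ← H1.bar_le_centralizer_iff (FT.der_le _) l1,
    H1.bar_commutator le_rfl le_rfl, H1.bar_top]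
  refine der_cent (S := H1.bar 𝐍(Az 𝒜 S) A S) (H5.elemAb_map _ (by
      rw [← isElemAb_map_iff (Subgroup.subtype_injective _), map_subgroupOf_eq_of_le l1]
      exact h.s0.el)) ?_
    (H1.bar_top (Y := 𝐍(Az 𝒜 S)) (N := A) ▸ H1.bar_le_normalizer le_rfl)
    (H1.bar_top (Y := 𝐍(Az 𝒜 S)) (N := A) ▸ h.s0.sylN.bar Nat.prime_two le_rfl) ?_
  · rw [H1.card_bar l1]
    exact h.idxA
  · rw [← H1.bar_top (Y := 𝐍(Az 𝒜 S)) (N := A), ← H1.bar_commutator le_rfl le_rfl]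
    exact H1.bar_mono h.s0.le_der

theorem f1 : 𝐍(Az 𝒜 S) ≤ Od 𝐍(Az 𝒜 S) ⊔ 𝐍(S) := by
  have nA := h.gl.norm_Az_le
  have hY : 𝐍(Az 𝒜 S) ⊓ (𝐂(A) ⊓ centMod (Az 𝒜 S) A) ⊲ 𝐍(Az 𝒜 S) :=
    ⟨inf_le_left, H1.le_normalizer_inf le_normalizer (H1.le_normalizer_inf (nA.trans norm_cent)
      (norm_le_norm_centMod le_rfl nA))⟩
  have s1 := h.gl.syl.of_le (le_inf h.s0.nrm (h.s0.le_der.trans h.der_le)) le_top
  nth_rewrite 1 [← s1.frattini Nat.prime_two hY]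
  refine sup_le ((H7.SC.le_sup_syl (inf_le_left.trans norm_cent) s1 fun k hk => ⟨1, by
    rw [pow_one, pow_two]
    exact sq_cent h.f4.sq hk.2.1 hk.2.2.2⟩).trans ?_) (inf_le_right.trans le_sup_right)
  nth_rewrite 1 [← h.gl.toAmb.cent_Az_eq h.gl.syl]
  exact sup_le (le_normalizer.trans le_sup_right)
    (sup_le_sup_left (inf_le_left.trans le_normalizer) _)

theorem dX : d ∈ 𝐍(Az 𝒜 S) :=
  h.s0.sc.norm_le le_top (h.gl.syl.pgrp.to_le h.QS) h.AzQ ⟨mem_top d, h.dQ⟩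

theorem adj : ∃ n ∈ 𝐍(S), Ac 𝒜 A S Z W Q n := by
  have hn := (h.gl.ga.norm_Az h.gl.syl.pgrp).trans (P7.le_norm_Od _)
  obtain ⟨o, ho, n, hn', e⟩ := (mem_sup_of_norm hn).1 (h.f1 h.dX)
  have key : ∀ q ∈ Q, n * q * n⁻¹ = d * q * d⁻¹ := fun q hq => by
    have a1 := cjm hn' (h.QS hq)
    have a2 : ⁅o, n * q * n⁻¹⁆ = 1 := P7.eq_one_of_two_odd h.gl.syl.pgrp (P6.odd_Od _) (by
      have := mul_mem (h.QS (cjm h.dQ hq)) (inv_mem a1)
      convert this using 1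
      rw [← e, commutatorElement_def]; group) (cml (hn (le_normalizer a1)) ho)
    rw [commutatorElement_eq_one_iff_mul_comm] at a2
    calc _ = o * (n * q * n⁻¹) * o⁻¹ := by rw [a2, mul_inv_cancel_right]
      _ = _ := by rw [← e]; group
  have nr : ∀ U ≤ Q, d ∈ 𝐍(U) → n ∈ 𝐍(U) := fun U hU k => mem_norm_of_conj_le (by
    rintro _ ⟨x, hx, rfl⟩
    show n * x * n⁻¹ ∈ U
    rw [key x (hU hx)]
    exact cjm k hx)
  have ct : ∀ U ≤ Q, n ∈ 𝐂(U) ↔ d ∈ 𝐂(U) := fun U hU => forall₂_congr fun x hx => by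
    rw [eq_comm, ← mul_inv_eq_iff_eq_mul, key x (hU hx), mul_inv_eq_iff_eq_mul, eq_comm]
  refine ⟨n, hn', { h with
    dQ := nr Q le_rfl h.dQ
    dW := (ct W (h.WZ.trans h.ZQ)).2 h.dW
    dA := nr A (h.AZ.trans h.ZQ) h.dA
    dn := fun k => h.dn ((ct A (h.AZ.trans h.ZQ)).1 k)
    odd := ?_ }⟩
  refine P6.odd_orderOf_of_mem (P5.Mx.odd_sup (zpowers_le.2 (P7.le_norm_Od _ h.dX))
    (by rw [Nat.card_zpowers]; exact h.odd) (P6.odd_Od _)) ?_
  rw [show n = o⁻¹ * d by rw [← e]; group]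
  exact mul_mem (mem_sup_right (inv_mem ho)) (mem_sup_left (mem_zpowers d))

section

variable {E : Subgroup G} (ho : Odd 𝐨(E)) (hE : E ≤ 𝐍(S)) (hd : d ∈ E)
include ho hE hd

omit hd in
theorem cent_S {y : G} (hy : y ∈ E) (h1 : y ∈ 𝐂(A)) (h2 : ∀ b ∈ Az 𝒜 S, ⁅b, y⁆ ∈ A) :
    y ∈ 𝐂(S) :=
  have o := P6.odd_orderOf_of_mem ho hy
  h.gl.ga.cent_Az h.gl.syl.pgrp (hE hy) o (P6.mem_of_sq_mem o (sq_cent h.f4.sq h1 h2))

omit hd in
theorem normC {x y : G} (hx : x ∈ E) (hy : y ∈ E) : x ∈ 𝐍((S ⊓ 𝐂[y] : Subgroup G)) := by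
  have nX := hE.trans (h.gl.ga.norm_Az h.gl.syl.pgrp)
  have a1 := h.der_le (commutator_mem_commutator (nX (inv_mem hx)) (nX hy))
  have a2 := h.cent_S ho hE (cml (le_normalizer hy) (inv_mem hx)) a1.1 a1.2.2
  refine mem_norm_of_conj_le ?_
  rintro _ ⟨s, hs, rfl⟩
  refine ⟨cjm (hE hx) hs.1, mem_cent1.2 ?_⟩
  refine Eq.symm (?_ : x * s * x⁻¹ * y = y * (x * s * x⁻¹))
  calc _ = x * (s * ⁅x⁻¹, y⁆) * y * x⁻¹ := by rw [commutatorElement_def]; group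
    _ = x * ⁅x⁻¹, y⁆ * (s * y) * x⁻¹ := by rw [a2 s hs.1]; group
    _ = _ := by rw [← mem_cent1.1 hs.2, commutatorElement_def]; group

theorem kk {y : G} (hy : y ∈ E) (h1 : y ∈ 𝐂(A)) : y ∈ 𝐂(S) := by
  refine h.cent_S ho hE hy h1 ?_
  have pg := h.gl.syl.pgrp
  obtain ⟨f, hf, nf⟩ := h.exW
  have fQ := h.ZQ (h.WZ hf)
  have nX := hE.trans (h.gl.ga.norm_Az pg)
  have df : ∀ g ∈ zpowers d, ∀ x, ⁅g * x * g⁻¹, f⁆ = g * ⁅x, f⁆ * g⁻¹ := fun g hg x => by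
    rw [← br_conj, ← zpowers_le.2 h.dW hg f hf, mul_inv_cancel_right]
  have d1 : ∀ x ∈ Q, x ∈ 𝐂[d] → x ∈ Z := fun x hx k => h.mem_Z (h.QS hx) (h.WZ hf) nf
    (h.fixA h.dA h.dn (h.com x hx f fQ) (by
      rw [← df d (mem_zpowers d), mem_cent1.1 k, mul_inv_cancel_right]))
  have same : ∀ x ∈ S, ∀ x' ∈ S, ⁅x', f⁆ = ⁅x, f⁆ → x⁻¹ * x' ∈ Z := fun x hx x' hx' e =>
    (h.cS (h.WZ hf) nf).le ⟨S.mul_mem (S.inv_mem hx) hx', mem_cent1.2 (by
      calc _ = x⁻¹ * (⁅x, f⁆ * f) * x' := by rw [commutatorElement_def]; group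
        _ = _ := by rw [← e, commutatorElement_def]; group)⟩
  have fin : ∀ b ∈ Az 𝒜 S, b⁻¹ * (y * b * y⁻¹) ∈ A → ⁅b, y⁆ ∈ A := fun b hb k => by
    have := cjm (h.gl.sg.nrm (h.s0.le hb)) (inv_mem k)
    convert this using 1
    rw [commutatorElement_def]; group
  by_cases k : Az 𝒜 S ⊓ Z ≤ A
  · have a1 := h.gl.ga.cent_of_disj pg (inf_le_left : S ⊓ 𝐂[d] ≤ S) (eq_bot_iff.2 fun a ha =>
      h.fixA h.dA h.dn (k ⟨ha.2, d1 a (h.AzQ ha.2) ha.1.2⟩) (by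
        rw [mem_cent1.1 ha.1.2, mul_inv_cancel_right])) (h.normC ho hE hy hd)
      (P6.odd_orderOf_of_mem ho hy) f ⟨h.QS fQ, mem_cent1.2 (h.dW f hf).symm⟩
    refine fun b hb => fin b hb (k ⟨(Az 𝒜 S).mul_mem ((Az 𝒜 S).inv_mem hb) (cjm (nX hy) hb),
      same b (h.s0.le hb) _ (cjm (hE hy) (h.s0.le hb)) ?_⟩)
    nth_rewrite 1 [show f = y * f * y⁻¹ by rw [← a1, mul_inv_cancel_right]]
    rw [br_conj, ← h1 _ (h.com b (h.AzQ hb) f fQ), mul_inv_cancel_right]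
  obtain ⟨f1, hf1, nf1⟩ := SetLike.not_le_iff_exists.1 k
  have AZ := (le_inf h.s0.le (h.s0.le_cent hf1.1)).trans (h.cS hf1.2 nf1).le
  have nA := (h.gl.ga.norm_Az pg).trans h.gl.norm_Az_le
  have nZ : 𝐍(S) ≤ 𝐍(Z) := fun n hn => conj_eq_self_iff.1 (by
    nth_rewrite 1 [← h.cS hf1.2 nf1]
    rw [conj_inf, conj_eq_of_mem_norm hn, ← cent1_conj]
    exact h.cS (AZ (cjm (h.gl.ga.norm_Az pg hn) hf1.1))
      fun e => nf1 ((mem_normalizer_iff.1 (nA hn) f1).2 e))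
  have SQ : S ≤ Q := (le_inf le_rfl (le_normalizer.trans nZ)).trans h.nS.le
  obtain ⟨x, hx, xZ⟩ := SetLike.not_le_iff_exists.1 fun e : Q ≤ Z => by
    have := h.idx
    rw [relIndex_eq_one.2 e] at this
    omega
  have xS := h.QS hx
  have x2 := cjm (hE hy) xS
  obtain ⟨g, hg, e1⟩ := h.f4.exists_conj h.dA h.dn (h.com _ (SQ x2) f fQ) (fun e => xZ
    ((mem_normalizer_iff.1 (nZ (hE hy)) x).2 (h.mem_Z x2 (h.WZ hf) nf e))) (h.com x hx f fQ)
    fun e => xZ (h.mem_Z xS (h.WZ hf) nf e)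
  have eE := mul_mem (zpowers_le.2 hd hg) hy
  have e2 : x⁻¹ * (g * y * x * (g * y)⁻¹) ∈ Z := same x xS _ (cjm (hE eE) xS) (by
    rw [← e1, ← df g hg]; congr 1; group)
  obtain ⟨x', hx', xZ'⟩ : ∃ x' ∈ S ⊓ 𝐂[g * y], x' ∉ Z := by
    haveI := H1.normal_subgroupOf_of_le (le_rfl : 𝐍(Z) ≤ 𝐍(Z))
    have l1 : S ≤ 𝐍(Z) := le_normalizer.trans nZ
    have l2 := H1.bar_inf_centralizer_bar (Y := 𝐍(Z)) (N := Z) (zpowers_le.2 (nZ (hE eE))) l1
      (zpowers_le.2 (hE eE)) (P7.cop_two_odd pg (P6.odd_of_le (zpowers_le.2 eE) ho)).symm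
      (Or.inr (H1.isSolvable_of_isPGroup pg))
    rw [cent_zpowers, H1.bar_zpowers (y := ⟨_, nZ (hE eE)⟩), cent_zpowers] at l2
    refine SetLike.not_le_iff_exists.1 fun k => xZ (sup_le k le_rfl ((H1.qmk_mem_bar_iff
      le_normalizer (inf_le_left.trans l1) (y := ⟨x, l1 xS⟩)).1 (l2.le ⟨H1.qmk_mem_bar xS, ?_⟩)))
    refine mem_cent1.2 ?_
    rw [← map_mul, ← map_mul]
    refine (QuotientGroup.eq.2 ?_).symm
    have := cjm (inv_mem (nZ (hE eE))) e2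
    simpa [mem_subgroupOf, mul_assoc] using this
  have c1 : g * y ∈ 𝐂(A) := by
    by_contra c
    refine xZ' (d1 x' (SQ hx'.1) (mem_cent1.2 (h.gl.ga.cent_of_disj pg
      (inf_le_left : S ⊓ 𝐂[g * y] ≤ S) (eq_bot_iff.2 fun z hz => ?_) (h.normC ho hE hd eE)
      h.odd x' hx').symm))
    have z1 : g * y * z * (g * y)⁻¹ = z := by rw [mem_cent1.1 hz.1.2, mul_inv_cancel_right]
    by_cases zA : z ∈ A
    · exact h.fixA (nA (hE eE)) c zA z1
    refine (xZ' (h.mem_Z hx'.1 (AZ hz.2) zA (h.fixA (nA (hE eE)) c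
      (h.com _ (SQ hx'.1) z (SQ hz.1.1)) ?_))).elim
    rw [← br_conj, z1, mem_cent1.1 hx'.2, mul_inv_cancel_right]
  have c2 : g ∈ 𝐂(Z) := by
    rw [← h.sup, cent_sup]
    exact ⟨by simpa using mul_mem c1 (inv_mem h1), zpowers_le.2 h.dW hg⟩
  refine fun b hb => fin b hb (by_contra fun c => xZ' ?_)
  have b1 := cjm (nZ (hE hy)) (AZ hb)
  have b2 : ⁅x', y * b * y⁻¹⁆ = ⁅x', b⁆ := by
    nth_rewrite 1 [show x' = g * y * x' * (g * y)⁻¹ by
      rw [mem_cent1.1 hx'.2, mul_inv_cancel_right], show y * b * y⁻¹ = g * y * b * (g * y)⁻¹ by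
        calc _ = y * b * y⁻¹ * g * g⁻¹ := by group
          _ = _ := by rw [c2 _ b1]; group]
    rw [br_conj, ← c1 _ (h.com _ (SQ hx'.1) b (h.AzQ hb)), mul_inv_cancel_right]
  refine h.mem_Z hx'.1 (mul_mem (inv_mem (AZ hb)) b1) c ?_
  generalize y * b * y⁻¹ = u at b2
  calc _ = x' * b⁻¹ * x'⁻¹ * ⁅x', u⁆ * b := by simp only [commutatorElement_def]; group
    _ = _ := by rw [b2, commutatorElement_def]; group

end

end Ac

theorem acStmt : AcStmt.{u} := by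
  intro G _ _ 𝒜 A S Z W Q d h
  obtain ⟨d, hd, h⟩ := h.adj
  have pg := h.gl.syl.pgrp
  have sN := h.gl.syl.of_le le_normalizer le_top
  obtain ⟨R, hR⟩ := exists_sdProd_of_hall ((hall_isHallIn ((isSyl_iff_hall Nat.prime_two).1 sN)))
    le_rfl
  have oR : Odd 𝐨(R) := by
    have := H1.card_mul_relIndex (le_normalizer : S ≤ 𝐍(S))
    nth_rewrite 2 [← hR.sup] at this
    rw [sup_comm, H1.card_sup_of_inf_eq_bot hR.norm (inf_comm S R ▸ hR.disj), mul_comm,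
      mul_left_inj' Nat.card_pos.ne'] at this
    exact this ▸ P4.odd_iff_not_dvd.2 sN.ndvd
  obtain ⟨E, hE, dE⟩ := exists_hall_ge (π := {2}ᶜ) (((sup_comm _ _).trans hR.sup) ▸
    H2.isSolvable_sup_of_le_normalizer hR.norm (P5.Mx.isSolvable_of_odd oR)
      (H1.isSolvable_of_isPGroup pg)) (zpowers_le.2 hd)
    ((isPi_compl_singleton_iff Nat.prime_two).2 (by
      rw [Nat.card_zpowers]; exact h.odd.coprime_two_right))
  have ho : Odd 𝐨(E) :=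
    Nat.coprime_two_right.1 ((isPi_compl_singleton_iff Nat.prime_two).1 (hall_isPi hE))
  have nA := (h.gl.ga.norm_Az pg).trans h.gl.norm_Az_le
  have h1 : S ≤ ⁅S, zpowers d⁆ ⊔ sqs S := by
    refine le_trans (le_inf le_rfl (le_top.trans h.s0.der_top.ge))
      (focal_le Nat.prime_two h.gl.syl fun x hx g _ e => ?_)
    obtain ⟨m, hm, e1⟩ := h.s0.elt hx e
    obtain ⟨n, hn, e2⟩ := h.gl.toAmb.elt_norm h.gl.syl h.f1 hx hm (e1 ▸ e)
    rw [← hall_sup_hall_compl ((isSyl_iff_hall Nat.prime_two).1 sN) hE, sup_comm] at hn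
    obtain ⟨r, hr, s, hs, rfl⟩ := (H1.mem_sup_iff_of_le_normalizer hE.1).1 hn
    obtain ⟨c, hc, e3⟩ := dec4 h.f4 h.dA h.dn (nA (hE.1 hr))
    have e4 := h.kk ho hE.1 (dE (mem_zpowers d)) (mul_mem (inv_mem (dE hc)) hr) e3
    have x1 := cjm (le_normalizer hs) hx
    rw [e1, e2, show x⁻¹ * (r * s * x * (r * s)⁻¹) =
      ⁅x⁻¹, s⁆ * ⁅(s * x * s⁻¹)⁻¹, c⁆ by
        calc _ = x⁻¹ * c * (c⁻¹ * r * (s * x * s⁻¹)) * r⁻¹ := by group
          _ = _ := by rw [← e4 _ x1]; simp only [commutatorElement_def]; group]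
    exact mul_mem (mem_sup_right (BS.der_le_sqs S (commutator_mem_commutator (inv_mem hx) hs)))
      (mem_sup_left (commutator_mem_commutator (inv_mem x1) hc))
  have h2 : W ≤ sqs S := by
    haveI := H1.normal_subgroupOf_of_le (norm_sqs S)
    have l1 : S ≤ 𝐍(S) := le_normalizer
    have l2 := zpowers_le.2 hd
    have WS := h.WZ.trans h.ZS
    rw [← H1.bar_eq_bot_iff (WS.trans l1), eq_bot_iff,
      ← H1.centralizer_inf_commutator_eq_bot (A := H1.bar 𝐍(S) (sqs S) (zpowers d))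
        ((H1.isMulCommutative_bar_iff l1).2 (BS.der_le_sqs S)) (H1.bar_le_normalizer l2)
        (P7.cop_two_odd (H1.isPGroup_bar pg) (odd_card_bar (by
          rw [Nat.card_zpowers]; exact h.odd))).symm, ← H1.bar_commutator l1 l2]
    refine le_inf ((H1.bar_le_centralizer_iff (WS.trans l1) l2).2 ?_) ((H1.bar_le_bar_iff
      ((sqs_le S).trans l1) (WS.trans l1) ((comm_le_left_iff.2 l2).trans l1)).2 (WS.trans h1))
    rw [commutator_eq_bot_iff_le_centralizer.2 (cent_comm.1 (zpowers_le.2 h.dW))]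
    exact bot_le
  obtain ⟨f, hf, nf⟩ := h.exW
  have SN := h.gl.sg.nrm
  obtain ⟨x, hx, xA⟩ : ∃ x ∈ S ⊓ centMod S A, x ∉ A := by
    obtain ⟨L, ⟨l1, l2, l3⟩, hm⟩ := Set.exists_min_image
      {L : Subgroup G | L ≤ S ∧ S ≤ 𝐍(L) ∧ ¬ L ≤ A} (fun L => 𝐨(L)) (Set.toFinite _)
      ⟨S, le_rfl, le_normalizer, fun k => nf (k (h.ZS (h.WZ hf)))⟩
    haveI := isNilpotent_of_isPGroup Nat.prime_two pg
    have m1 : ⁅L, S⁆ < L := Agent.L.commutator_lt_of_isNilpotent l1 l2 fun e => l3 (e ▸ bot_le)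
    have m3 : ⁅L, S⁆ ≤ A := by_contra fun e => (H1.card_lt_of_lt m1).not_ge
      (hm _ ⟨m1.le.trans l1, H1.le_normalizer_commutator l2 le_normalizer, e⟩)
    obtain ⟨x, hx, xA⟩ := not_forall₂.1 l3
    exact ⟨x, mem_inf.2 ⟨l1 hx, SN (l1 hx), fun g hg => commutatorElement_inv x g ▸
      inv_mem (m3 (commutator_mem_commutator hx hg))⟩, xA⟩
  have h3 : x ∈ Z := by
    refine (h.cS (h.WZ hf) nf).le ⟨hx.1, mem_cent1_comm.1 (((closure_le 𝐂[x]).2 ?_) (h2 hf))⟩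
    rintro _ ⟨s, hs, rfl⟩
    have := sq_cent (B := zpowers x) h.f4.sq (h.cen hs) (fun b hb => ?_) x (mem_zpowers x)
    · exact mem_cent1.2 this
    · exact commutatorElement_inv s b ▸ inv_mem ((zpowers_le.2 hx.2 hb).2 s hs)
  have h4 := H2.relIndex_centralizer_le_card hx.2.2
  rw [← inf_relIndex_right, inf_comm, h.cS h3 xA, h.card, ← relIndex_mul_relIndex Z Q S h.ZQ h.QS,
    h.idx] at h4
  have h5 := H2.relIndex_pos Q S
  have SQ : S ≤ Q := relIndex_eq_one.1 (by omega)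
  exact nf (((closure_le A).2 (by
    rintro _ ⟨s, hs, rfl⟩
    exact h.sq s (SQ hs))) (h2 hf))

end Cfsg.Agent.P21
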