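/-
P21, chapter B1: no blocks, `|A| ≥ 8` (the signalizer functor `O(C(a))`).
-/
import Cfsg.Agent.P21.G0

set_option autoImplicit false
set_option linter.unusedSectionVars false

namespace Cfsg.Agent.P21

open Subgroup Cfsg Cfsg.Agent Cfsg.Agent.FT
open Cfsg.Agent.P18 (CHyp)
open Cfsg.Agent.H2.ZC (oc wc oc_le oc_cop le_norm_oc le_wc wc_le wc_mono)
open Cfsg.Agent.P14.Gl (norm_wc)

universe u

variable {G : Type u} [Group G] [Finite G]

theorem Sg.chyp_wc {A S : Subgroup G} (h : Sg A S) (ho : 𝐨(wc A).Coprime 2)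
    (loc : ∀ a ∈ A, a ≠ 1 → 𝐂[a] ≤ oc a ⊔ 𝐍(A)) : CHyp A (wc A) := by
  have od := Nat.coprime_two_right.1 ho
  refine ⟨h.el, h.four, h.sc, od, norm_wc A, fun e => ?_,
    fun a ha a1 => (loc a ha a1).trans (sup_le_sup_right (le_wc ha a1) _)⟩
  by_cases e' : wc A = ⊥
  · exact h.norm_ne_top (by rwa [e', bot_sup_eq] at e)
  · exact h.norm_ne e' (h.odd_ne_top od)
      (top_le_iff.1 (e.ge.trans (sup_le (le_norm_self _) (norm_wc A))))

namespace B1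

variable {𝒜 : Set G} {A S : Subgroup G} (h : Gx 𝒜 A S) (nb : ∀ a K, ¬ Bk A a K)
include h nb

theorem loc {a : G} (ha : a ∈ A) (a1 : a ≠ 1) : 𝐂[a] ≤ oc a ⊔ 𝐍(A) :=
  (h.laC ha a1).gen _ le_sup_left (fun K c => (nb a K ⟨ha, h.sg.inv ha a1, c⟩).elim)
    (inf_le_right.trans le_sup_right)

theorem bal {a b : G} (ha : a ∈ A) (hb : b ∈ A) (b1 : b ≠ 1) : oc a ⊓ 𝐂[b] ≤ oc b := fun x hx =>
  (h.laC hb b1).memOd a ha _ (le_inf inf_le_right (inf_le_left.trans (oc_le a)))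
    ((Nat.coprime_two_right.1 (oc_cop a)).of_dvd_nat (FT.card_dvd_of_le inf_le_left))
    (H1.le_normalizer_inf (inf_le_right.trans (le_norm_oc a)) (inf_le_left.trans (le_norm_self _)))
    x hx fun K c => (nb b K ⟨hb, h.sg.inv hb b1, c⟩).elim

theorem e8 {E : Subgroup G} (hE : E ≤ A) (h3 : IsElem 2 3 E) :
    𝐨(wc E).Coprime 2 ∧ ∀ B ≤ E, ¬ IsCyclic B → wc E ≤ wc B := by
  obtain ⟨M, hM, k⟩ := H2.sig_complete ⟨h3.1, h3.2⟩ (θ := oc) ⟨fun a _ _ => oc_le a,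
    fun a ha _ => hE.trans ((h.sg.le_cent (hE ha)).trans (le_norm_oc a)), fun a _ _ => oc_cop a,
    fun a _ _ => feit_thompson _ (Nat.coprime_two_right.1 (oc_cop a)),
    fun a ha _ b hb b1 => bal h nb (hE ha) (hE hb) b1⟩ fun a _ _ => oc_cop a
  refine ⟨hM.cop.coprime_dvd_left (FT.card_dvd_of_le (wc_le k)), fun B hB hnc => ?_⟩
  refine (wc_le k).trans (H1.le_of_forall_centralizer_le (isMulComm_of_le hB h3.comm) hnc
    (hB.trans hM.inv) (H1.coprime_card_of_isPGroup (h3.pgrp.to_le hB) hM.cop).symm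
    fun b hb h1 => (hM.le b (hB hb) h1).trans (le_wc hb h1))

theorem wc_eq {B : Subgroup G} (hB : B ≤ A) (hB2 : IsElem 2 2 B) : wc A = wc B := by
  refine le_antisymm (wc_le fun e he h1 => ?_) (wc_mono hB)
  by_cases heB : e ∈ B
  · exact le_wc heB h1
  exact (le_wc (mem_sup_right (mem_zpowers e)) h1).trans
    ((e8 h nb (sup_le hB (zpowers_le.2 he)) (H2.ZC.isElem_sup_zpowers hB2 heB (h.el.2 e he)
      (cent_anti hB (h.sg.cc he)))).2 B le_sup_left (hB2.not_isCyclic Nat.prime_two le_rfl))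

theorem wc_cop (h8 : 8 ≤ 𝐨(A)) : 𝐨(wc A).Coprime 2 := by
  obtain ⟨E, a1, a2⟩ := H7.SC.exists_isElem (k := 3) h.el (by omega)
  obtain ⟨B, b1, b2⟩ := a2.exists_le Nat.prime_two (k := 2) (by omega)
  rw [wc_eq h nb (b1.trans a1) b2]
  exact (e8 h nb a1 a2).1.coprime_dvd_left (FT.card_dvd_of_le (wc_mono b1))

end B1

theorem b1Stmt : B1Stmt.{u} := fun _ _ _ _ _ _ h nb h8 =>
  ⟨_, h.sg.chyp_wc (B1.wc_cop h nb h8) fun _ => B1.loc h nb⟩

end Cfsg.Agent.P21
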