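/-
P21, chapter B4: strongly closed four-groups without blocks.
-/
import Cfsg.Agent.P21.G0
import Cfsg.Agent.P18.B4b

set_option autoImplicit false
set_option linter.unusedSectionVars false
set_option linter.style.haveILetI false

namespace Cfsg.Agent.P21

open Subgroup Cfsg Cfsg.Agent Cfsg.Agent.FT
open Cfsg.Agent.P14 (SC norm_cent cjm cmr cml pow_two_pow two_zp exists_odd_pow)
open Cfsg.Agent.P18 (CHyp sqs)
open Cfsg.Agent.P18.U (F4)
open Cfsg.Agent.P18.B4 (exists_sq two_le_cent wc_cop)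
open Cfsg.Agent.P6 (Inv Od)
open Cfsg.Agent.P7 (Zc Oc le_norm_Od Od_le solv_Od)
open Cfsg.Agent.H2.ZC (oc wc le_wc)
open scoped commutatorElement

universe u

variable {G : Type u} [Group G] [Finite G]

namespace B4

/-- The local facts for an active subgroup `X` with Sylow subgroup `T`. -/
structure LF (A X T W : Subgroup G) (d : G) : Prop where
  le : W ≤ T
  sup : A ⊔ W = T
  disj : A ⊓ W = ⊥
  dT : d ∈ 𝐍(T)
  dW : d ∈ 𝐂(W)
  dn : d ∉ 𝐂(A)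
  ns : ∀ f ∈ W, ∀ M : Subgroup G, Group.IsSolvable M → A ≤ M → ¬ X ⊓ 𝐂[f] ≤ 𝐍(M)

theorem lf {𝒜 : Set G} {A S X T K : Subgroup G} (h : Gx 𝒜 A S) (f4 : F4 A) (hX : X ≠ ⊤)
    (hT : IsSyl 2 T X) (hA : A ≤ T) (c : Act A X K) : ∃ W d, LF A X T W d := by
  have AX := hA.trans hT.le
  obtain ⟨V, R, d⟩ := (h.la X hX AX).dc K c
  have h1 := d.card h.el
  have h2 := d.four
  have h3 : 0 < 𝐨((A ⊓ Zc X K : Subgroup G)) := Nat.card_pos
  rw [f4.card] at h1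
  have B0 : A ⊓ Zc X K = ⊥ := card_eq_one.1 (by nlinarith)
  have AK : A ≤ K := d.sup_eq.ge.trans (sup_le d.vK (B0.le.trans bot_le))
  have ab := ((h.lb X hX AX).ty K c).resolve_left fun e => by
    have := e.eight
    rw [f4.card] at this
    omega
  have Tc := two_le_cent f4 h.sc hT.pgrp hA
  obtain ⟨v, hv, v1⟩ := (bot_or_exists_ne_one A).resolve_left h.ne
  have TK : T ≤ 𝐍(K) := fun s hs => c.mem_norm (le_norm_self X (hT.le hs))
    (by rw [← Tc hs v hv, mul_inv_cancel_right]; exact fun e => v1 (B0.le ⟨hv, e⟩)) (AK hv)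
  have pW := hT.pgrp.to_le (inf_le_left : T ⊓ Zc X K ≤ T)
  have e : A ⊔ T ⊓ Zc X K = T := le_antisymm (sup_le hA inf_le_left) fun s hs => by
    obtain ⟨u, hu, k⟩ := ab.inner s ⟨⟨hT.le hs, TK hs⟩, Tc hs⟩ (Two.of_mem hT.pgrp hs)
    simpa using mul_mem_sup (inv_mem hu.1) (mem_inf.2 ⟨mul_mem (hA hu.1) hs, k⟩)
  have s1 : IsSyl 2 A (K ⊓ 𝐂((T ⊓ Zc X K : Subgroup G))) := (inf_eq_left.2 AK ▸ ab.syl).of_le
    (le_inf AK (cent_comm.1 (inf_le_left.trans Tc))) inf_le_left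
  obtain ⟨y, hy, yn⟩ := SetLike.not_le_iff_exists.1 (mt
    (haveI := Fact.mk Nat.prime_two; P5.Mx.le_sup_of_burnside s1.le s1.pgrp s1.ndvd) fun k =>
    c.solv_sup inf_le_left (H1.isSolvable_of_le (sup_comm (Od _) A ▸ k)
      (H2.isSolvable_sup_of_le_normalizer (s1.le.trans (le_norm_Od _))
        (H1.isSolvable_of_isPGroup f4.isPGroup) (solv_Od _)))
      (c.cover (inf_le_left.trans hT.le) pW inf_le_right))
  refine ⟨_, y, inf_le_left, e, eq_bot_iff.2 ((inf_le_inf_left _ inf_le_right).trans B0.le), ?_,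
    hy.1.2, yn, fun f hf M hs hM hn => c.act ((le_inf hM AK).trans (c.solv_le_Z inf_le_right ?_
      (H1.isSolvable_of_le inf_le_left hs)))⟩
  · rw [← e]
    exact zpowers_le.1 (H1.le_normalizer_sup (zpowers_le.2 hy.2)
      (zpowers_le.2 (cent_le_norm _ hy.1.2)))
  · have := c.cover (zpowers_le.2 (hT.le hf.1)) (Two.of_mem pW hf).zp (zpowers_le.2 hf.2)
    rw [cent_zpowers] at this
    exact this.trans (sup_le (H1.le_normalizer_sup (H1.le_normalizer_inf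
      ((inf_le_inf_right _ c.le).trans hn) (inf_le_left.trans (le_norm_self K)))
      (inf_le_left.trans c.le_norm_Od)) (le_sup_right.trans (le_norm_self _)))

theorem LF.sqs_le {A X T W : Subgroup G} {d : G} (h : LF A X T W d) (f4 : F4 A) (hc : T ≤ 𝐂(A)) :
    sqs T ≤ W := (closure_le _).2 (by
  rintro _ ⟨x, hx, rfl⟩
  obtain ⟨a, ha, w, hw, rfl⟩ := (mem_sup_of_norm (h.le.trans (hc.trans (cent_le_norm A)))).1
    (h.sup.ge hx)
  rw [(show Commute w a from (hc (h.le hw) a ha).symm).mul_mul_mul_comm, f4.sq a ha, one_mul]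
  exact W.mul_mem hw hw)

/-- `e` is an active involution. -/
structure Ai (A : Subgroup G) (e : G) : Prop where
  sq : e * e = 1
  nm : e ∉ A
  cen : e ∈ 𝐂(A)
  act : ∃ K, Act A 𝐂[e] K

theorem b2 {𝒜 : Set G} {A S : Subgroup G} (h : Gx 𝒜 A S) (X : Subgroup G) (hX : X ≠ ⊤)
    (hA : A ≤ X) (na : ¬ ∃ K, Act A X K) : X ≤ Od X ⊔ X ⊓ 𝐍(A) :=
  (h.la X hX hA).gen _ le_sup_left (fun K c => absurd ⟨K, c⟩ na) le_sup_right

theorem exists_ac {𝒜 : Set G} {A S0 : Subgroup G} (h : Gx 𝒜 A S0) (f4 : F4 A)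
    (hsq : ∀ S, IsSyl 2 S ⊤ → A ≤ S → A ≤ sqs S) {e0 : G} (h0 : Ai A e0) :
    ∃ S Z W Q d, Ac 𝒜 A S Z W Q d := by
  have b2 := b2 h
  have ex : ∀ f, Ai A f → ∃ T, IsSyl 2 T 𝐂[f] ∧ A ≤ T := fun f hf =>
    exists_isSyl_ge Nat.prime_two f4.isPGroup (mem_cent_iff_cent1.1 hf.cen)
  obtain ⟨Z, ⟨e, he, hZ, AZ⟩, max⟩ := Set.Finite.exists_maximalFor (fun Z : Subgroup G => 𝐨(Z))
    {Z | ∃ e, Ai A e ∧ IsSyl 2 Z 𝐂[e] ∧ A ≤ Z} (Set.toFinite _)
    ((ex e0 h0).imp fun _ a => ⟨e0, h0, a⟩)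
  replace max : ∀ f, Ai A f → ∀ P ≤ 𝐂[f], IsPGroup 2 P → 𝐨(P) ≤ 𝐨(Z) := fun f hf P hP pP => by
    obtain ⟨T, hT, AT⟩ := ex f hf
    obtain ⟨g, -, k⟩ := hT.exists_le_conj Nat.prime_two pP hP
    refine (card_le_of_le k).trans ((card_conj T g).le.trans ?_)
    exact (le_total _ _).elim id (max ⟨f, hf, hT, AT⟩)
  have n1 : ∀ f, f ∉ A → f ≠ 1 := fun f hf k => hf (k ▸ one_mem A)
  obtain ⟨W, D, l⟩ := he.act.elim fun _ => lf h f4 (h.sg.cent_ne (n1 e he.nm)) hZ AZ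
  have Zc := two_le_cent f4 h.sc hZ.pgrp AZ
  have WA : ∀ w ∈ W, w ≠ 1 → w ∉ A := fun w hw w1 k => w1 (l.disj.le ⟨k, hw⟩)
  have ai : ∀ w ∈ W, w ≠ 1 → w * w = 1 → w ∈ 𝐂(Z) → Ai A w := fun w hw w1 ww hc => by
    refine ⟨ww, WA w hw w1, Zc (l.le hw), by_contra fun k => ?_⟩
    have a1 : A ≤ 𝐂[w] := mem_cent_iff_cent1.1 (Zc (l.le hw))
    refine l.ns w hw (A ⊔ Od 𝐂[w]) (H2.isSolvable_sup_of_le_normalizer (a1.trans (le_norm_Od _))
      (H1.isSolvable_of_isPGroup f4.isPGroup) (P7.solv_Od _)) le_sup_left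
      (inf_le_right.trans ((b2 _ (h.sg.cent_ne w1) a1 k).trans (sup_le
        (le_sup_right.trans (le_norm_self _))
        (H1.le_normalizer_sup inf_le_right (inf_le_left.trans (le_norm_Od _))))))
  have dec : ∀ {V : Subgroup G}, A ⊔ V = Z → ∀ z ∈ Z, ∃ a ∈ A, ∃ w ∈ V, a * w = z := fun e z hz =>
    (mem_sup_of_norm ((le_sup_right.trans e.le).trans (Zc.trans (cent_le_norm A)))).1 (e.ge hz)
  have nW : ∀ {V : Subgroup G}, A ⊔ V = Z → Z ≤ 𝐍(V) := fun e => e.ge.trans (sup_le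
    ((cent_comm.1 ((le_sup_right.trans e.le).trans Zc)).trans (cent_le_norm _)) (le_norm_self _))
  have nA : 𝐍(Z) ≤ 𝐍(A) := (le_inf le_top le_rfl).trans (h.sc.norm_le le_top hZ.pgrp AZ)
  obtain ⟨S, hS, ZS⟩ := exists_isSyl_ge Nat.prime_two hZ.pgrp le_top
  have lt : Z < S := lt_of_le_of_ne ZS fun k => h.ne (eq_bot_iff.2 (le_trans (le_inf le_rfl
    ((hsq Z (k ▸ hS) AZ).trans (l.sqs_le f4 Zc))) l.disj.le))
  obtain ⟨y, hy, hy'⟩ := SetLike.exists_of_lt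
    (lt_inf_norm_of_isNilpotent (isNilpotent_of_isPGroup Nat.prime_two hS.pgrp) lt)
  obtain ⟨x, hx, x1, x2⟩ := (pow_two_pow hS.pgrp hy.1).elim fun k hk =>
    exists_sq k y (hk ▸ one_mem Z) hy'
  replace hx := zpowers_le.2 hy hx
  have pP : IsPGroup 2 (Z ⊔ zpowers x : Subgroup G) := hS.pgrp.to_le (sup_le ZS (zpowers_le.2 hx.1))
  have s2 : A ⊔ W ^ᵍ x = Z := by
    rw [← conj_eq_of_mem_norm (nA hx.2), ← conj_sup, l.sup, conj_eq_of_mem_norm hx.2]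
  have d0 : W ⊓ W ^ᵍ x = ⊥ := by
    by_contra k
    obtain ⟨w, hw, iw⟩ := P7.exists_inv_of_two (hZ.pgrp.to_le (inf_le_left.trans
      (inf_le_left.trans l.le))) (inf_center_ne_bot (isNilpotent_of_isPGroup Nat.prime_two pP)
      ⟨(inf_le_left.trans l.le).trans le_sup_left, sup_le (H1.le_normalizer_inf (nW l.sup) (nW s2))
        (zpowers_le.2 (conj_eq_self_iff.1 (by
          rw [conj_inf, conj_conj, conj_eq_of_mem_norm (nW l.sup x2), inf_comm])))⟩ k)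
    exact x1 ((eq_of_le_of_card_ge le_sup_left (max w (ai w hw.1.1 iw.ne iw.sq
      (cent_anti le_sup_left hw.2)) _ (mem_cent_iff_cent1.1 hw.2) pP)).ge
      (mem_sup_right (mem_zpowers x)))
  have sqW : ∀ w ∈ W, w * w = 1 := fun w hw => d0.le ⟨W.mul_mem hw hw, by
    obtain ⟨a, ha, v, hv, rfl⟩ := dec s2 w (l.le hw)
    rw [(show Commute v a from (Zc (s2.le (mem_sup_right hv)) a ha).symm).mul_mul_mul_comm,
      f4.sq a ha, one_mul]
    exact mul_mem hv hv⟩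
  have sqZ : ∀ z ∈ Z, z * z = 1 := fun z hz => by
    obtain ⟨a, ha, v, hv, rfl⟩ := dec l.sup z hz
    rw [(show Commute v a from (Zc (l.le hv) a ha).symm).mul_mul_mul_comm, f4.sq a ha, sqW v hv,
      one_mul]
  have cZ : Z ≤ 𝐂(Z) := fun a ha b hb => by
    have := inv_eq_of_mul_eq_one_right (sqZ _ (mul_mem ha hb))
    rwa [mul_inv_rev, inv_eq_of_mul_eq_one_right (sqZ a ha),
      inv_eq_of_mul_eq_one_right (sqZ b hb)] at this
  have W0 : W ≠ ⊥ := fun k => he.nm (by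
    have := hZ.le_of_norm Nat.prime_two (two_zp (k := 1) ((pow_two e).trans he.sq))
      (zpowers_le.2 (self_mem_cent1 e))
      (zpowers_le.2 (cent_le_norm _ (mem_cent_iff_cent1.2 hZ.le))) (mem_zpowers e)
    rwa [← l.sup, k, sup_bot_eq] at this)
  have sW : ∀ f ∈ W, f ≠ 1 → IsSyl 2 Z 𝐂[f] := fun f hf f1 => by
    obtain ⟨T, hT, k⟩ := exists_isSyl_ge Nat.prime_two hZ.pgrp (cZ.trans (cent_le_cent1 (l.le hf)))
    rwa [eq_of_le_of_card_ge k (max f (ai f hf f1 (sqW f hf) (cZ (l.le hf))) T hT.le hT.pgrp)]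
  have tr : ∀ g ∈ 𝐍(Z), g ∈ 𝐂(W) → ∀ z ∈ Z, ⁅z, g⁆ ∈ A := fun g h1 h2 z hz => by
    obtain ⟨a, ha, v, hv, rfl⟩ := dec l.sup z hz
    have := cml (nA h1) ha
    rwa [commutatorElement_def, show a * g = a * v * g * v⁻¹ by rw [mul_assoc a v, h2 v hv]; group,
      show a * v * g * v⁻¹ * a⁻¹ = a * v * g * (a * v)⁻¹ by group] at this
  have fixW : ∀ g ∈ 𝐍(Z), g ∈ 𝐂(W) → g ∉ 𝐂(A) → ∀ z ∈ Z, Commute g z → z ∈ W :=
    fun g h1 h2 h3 z hz c => by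
    obtain ⟨a, ha, v, hv, rfl⟩ := dec l.sup z hz
    by_cases a1 : a = 1
    · rwa [a1, one_mul]
    refine absurd (f4.mem_cent_of_commute (nA h1) ha a1 ?_) h3
    simpa using c.mul_right (show Commute g v from (h2 v hv).symm).inv_right
  obtain ⟨Q, hQ, PQ⟩ := exists_isSyl_ge Nat.prime_two pP (sup_le (le_norm_self Z) (zpowers_le.2 hx.2))
  have ZQ : Z ≤ Q := le_sup_left.trans PQ
  have Qc := two_le_cent f4 h.sc hQ.pgrp (AZ.trans ZQ)
  obtain ⟨K, hK⟩ : ∃ K, K = 𝐍(Z) ⊓ 𝐂(A) ⊓ centMod Z A := ⟨_, rfl⟩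
  have mK : ∀ k, k ∈ K ↔ k ∈ 𝐍(Z) ∧ k ∈ 𝐂(A) ∧ ∀ z ∈ Z, ⁅z, k⁆ ∈ A := fun k => by
    rw [hK, mem_inf, mem_inf, mem_centMod]
    exact ⟨fun a => ⟨a.1.1, a.1.2, a.2.2⟩, fun a => ⟨⟨a.1, a.2.1⟩, nA a.1, a.2.2⟩⟩
  have nK : K ⊲ 𝐍(Z) := ⟨fun k hk => ((mK k).1 hk).1, hK ▸ H1.le_normalizer_inf
    (H1.le_normalizer_inf (le_norm_self _) (nA.trans norm_cent)) (norm_le_norm_centMod le_rfl nA)⟩
  have s0 := hQ.inf_normal Nat.prime_two nK
  have K1 : K ≤ Q ⊓ K ⊔ 𝐂(Z) := H7.SC.le_sup_syl (nK.1.trans norm_cent) s0 fun k hk => ⟨1, by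
    obtain ⟨-, k2, k3⟩ := (mK k).1 hk
    intro z hz
    have e1 : k * z * k⁻¹ = ⁅k, z⁆ * z := by rw [commutatorElement_def]; group
    have e2 : ⁅k, z⁆ ∈ A := by simpa using inv_mem (k3 z hz)
    generalize ⁅k, z⁆ = a at e1 e2
    rw [pow_one, pow_two, eq_comm, ← mul_inv_eq_iff_eq_mul]
    calc _ = k * (k * z * k⁻¹) * k⁻¹ := by group
      _ = k * a * k⁻¹ * (k * z * k⁻¹) := by nth_rewrite 1 [e1]; group
      _ = z := by rw [← k2 a e2, mul_inv_cancel_right, e1, ← mul_assoc, f4.sq a e2, one_mul]⟩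
  have xQ : x ∈ Q := PQ (mem_sup_right (mem_zpowers x))
  have Q1 : ¬ Q ⊓ K ≤ Z := fun k => by
    have D2 : x * D * x⁻¹ ∈ 𝐍(Z) := mul_mem (mul_mem hx.2 l.dT) (inv_mem hx.2)
    have := (K1.trans (sup_le (k.trans cZ) le_rfl)) ((mK (D⁻¹ * (x * D * x⁻¹))).2
      ⟨mul_mem (inv_mem l.dT) D2, ?_, fun z hz => ?_⟩)
    · refine W0 (eq_bot_iff.2 (le_trans (le_inf le_rfl fun w hw => ?_) d0.le))
      have c : x * D * x⁻¹ ∈ 𝐂(W) := by
        simpa using mul_mem l.dW (cent_anti l.le this)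
      rw [mem_conj]
      refine fixW D l.dT l.dW l.dn _ (by simpa using cjm (inv_mem hx.2) (l.le hw)) ?_
      have := c w hw
      calc D * (x⁻¹ * w * x) = x⁻¹ * (x * D * x⁻¹ * w) * x := by group
        _ = _ := by rw [← this]; group
    · have := cjm (norm_cent (inv_mem (nA l.dT))) (Qc xQ)
      simpa [mul_assoc] using mul_mem this (inv_mem (Qc xQ))
    · have e1 := tr D⁻¹ (inv_mem l.dT) (inv_mem l.dW) z hz
      have e2 := cjm (nA hx.2) (tr D l.dT l.dW _ (cjm (inv_mem hx.2) hz))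
      have := mul_mem e1 (cjm (inv_mem (nA l.dT)) e2)
      convert this using 1
      simp only [commutatorElement_def]; group
  obtain ⟨k, hk, n, hn, e1⟩ := (mem_sup_of_norm (inf_le_left.trans nK.2)).1
    ((s0.frattini Nat.prime_two nK).ge l.dT)
  obtain ⟨c, hc, q, hq, rfl⟩ := (mem_sup_of_norm ((inf_le_right.trans nK.1).trans norm_cent)).1
    (sup_comm (Q ⊓ K) _ ▸ K1 hk)
  obtain ⟨j, hj⟩ := exists_odd_pow (q * n)
  have m0 : q * n = c⁻¹ * D := by rw [← e1]; group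
  have m1 : q * n ∈ 𝐍(Z) := mul_mem (nK.1 hq.2) hn.1
  have d1 : (q * n) ^ 2 ^ j ∈ 𝐍(Q ⊓ K) := pow_mem (mul_mem (le_norm_self _ hq) hn.2) _
  have d2 : (q * n) ^ 2 ^ j ∈ 𝐂(W) :=
    pow_mem (m0 ▸ mul_mem (inv_mem (cent_anti l.le hc)) l.dW) _
  have d3 : (q * n) ^ 2 ^ j ∉ 𝐂(A) := fun k => by
    obtain ⟨y, hy, h1, h2⟩ := exists_sq j _ k fun k => l.dn (by
      simpa [m0] using mul_mem (cent_anti AZ hc) k)
    exact h1 (f4.mem_cent_of_sq (zpowers_le.2 (nA m1) hy) h2)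
  have d4 := pow_mem m1 (2 ^ j)
  generalize (q * n) ^ 2 ^ j = d at hj d1 d2 d3 d4
  have cQ : ∀ f, IsSyl 2 Z 𝐂[f] → Q ⊓ 𝐂[f] = Z := fun f hf =>
    (hf.eq_of_le Nat.prime_two (le_inf ZQ hf.le) inf_le_right (hQ.pgrp.to_le inf_le_left))
  have fu : ∀ f ∈ W, f ≠ 1 → ∀ a ∈ A, ∃ x ∈ Q ⊓ K, ⁅x, f⁆ = a := fun f hf f1 a ha => by
    by_cases a1 : a = 1
    · exact ⟨1, one_mem _, by simp [a1]⟩
    obtain ⟨u, hu, hu'⟩ := SetLike.not_le_iff_exists.1 Q1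
    obtain ⟨g, hg, rfl⟩ := f4.exists_conj (nA d4) d3 (t := ⁅u, f⁆)
      (by simpa using inv_mem (((mK u).1 hu.2).2.2 f (l.le hf)))
      (fun k => hu' ((cQ f (sW f hf f1)).le ⟨hu.1, mem_cent1.2
        (commutatorElement_eq_one_iff_mul_comm.1 k).symm⟩)) ha a1
    refine ⟨_, cjm (zpowers_le.2 d1 hg) hu, ?_⟩
    rw [conjugate_commutatorElement, ← zpowers_le.2 d2 hg f hf, mul_inv_cancel_right]
  have sZ : ∀ f ∈ Z, f ∉ A → IsSyl 2 Z 𝐂[f] := fun f hf fA => by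
    obtain ⟨a, ha, w, hw, rfl⟩ := dec l.sup f hf
    have w1 : w ≠ 1 := fun k => fA (by rwa [k, mul_one])
    obtain ⟨u, hu, rfl⟩ := fu w hw w1 a ha
    have := (sW w hw w1).conj u
    rwa [conj_eq_of_mem_norm (nK.1 hu.2), ← cent1_conj,
      show u * w * u⁻¹ = ⁅u, w⁆ * w by rw [commutatorElement_def]; group] at this
  have fu' : ∀ f ∈ Z, f ∉ A → ∀ a ∈ A, ∃ x ∈ Q ⊓ K, ⁅x, f⁆ = a := fun f hf fA b hb => by
    obtain ⟨a, ha, w, hw, rfl⟩ := dec l.sup f hf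
    obtain ⟨u, hu, rfl⟩ := fu w hw (fun k => fA (by rwa [k, mul_one])) b hb
    refine ⟨u, hu, ?_⟩
    have e1 := Qc hu.1 a ha
    have e2 := Zc (l.le hw) a ha
    simp only [commutatorElement_def]
    calc u * (a * w) * u⁻¹ * (a * w)⁻¹ = (u * a) * (w * u⁻¹ * w⁻¹) * a⁻¹ := by group
      _ = a * (u * w * u⁻¹ * w⁻¹) * a⁻¹ := by rw [← e1]; group
      _ = _ := by
        rw [Qc (mul_mem (cjm (le_norm_self Q hu.1) (ZQ (l.le hw))) (inv_mem (ZQ (l.le hw)))) a ha,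
          mul_inv_cancel_right]
  obtain ⟨z, hz, zA, hz'⟩ := BG01.exists_mem_centMod (isNilpotent_of_isPGroup Nat.prime_two hQ.pgrp)
    (hQ.le.trans nA) ⟨ZQ, hQ.le⟩ fun k => W0 (eq_bot_iff.2
      ((le_inf (l.le.trans k) le_rfl).trans l.disj.le))
  have i1 : Z.relIndex Q ≤ 4 := by
    rw [← cQ z (sZ z hz zA), inf_relIndex_left, ← f4.card]
    exact H2.relIndex_centralizer_le_card (mem_centMod.1 hz').2
  have i2 : 𝐨(Z) * 4 ≤ 𝐨((Q ⊓ K : Subgroup G)) := by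
    refine le_trans (Nat.mul_le_mul_right _ (card_le_of_le (le_inf (sZ z hz zA).le
      (le_inf ZQ fun u hu => (mK u).2 ⟨le_norm_self Z hu, Zc hu, fun v hv => ?_⟩))))
      (P18.U.four_le f4.card (fu' z hz zA))
    rw [commutatorElement_eq_one_iff_mul_comm.2 (cZ hu v hv)]
    exact one_mem _
  have i3 := H1.card_mul_relIndex ZQ
  have i4 := card_le_of_le (inf_le_left : Q ⊓ K ≤ Q)
  have i5 : 0 < 𝐨(Z) := Nat.card_pos
  have QK : Q ⊓ K = Q := eq_of_le_of_card_ge inf_le_left (by nlinarith)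
  have tq : ∀ x ∈ Q, ∀ z ∈ Z, ⁅x, z⁆ ∈ A := fun x hx z hz => by
    simpa using inv_mem (((mK x).1 (QK.ge hx).2).2.2 z hz)
  rw [QK] at fu' d1 i2
  have sq : ∀ x ∈ Q, x * x ∈ A := fun x hx => by
    have e1 : x * z * x⁻¹ = ⁅x, z⁆ * z := by rw [commutatorElement_def]; group
    have e2 := tq x hx z hz
    generalize ⁅x, z⁆ = a at e1 e2
    have e3 : x * x ∈ Z := (cQ z (sZ z hz zA)).le ⟨mul_mem hx hx, mem_cent1_iff_conj.2 (by
      calc _ = x * (x * z * x⁻¹) * x⁻¹ := by group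
        _ = x * a * x⁻¹ * (x * z * x⁻¹) := by nth_rewrite 1 [e1]; group
        _ = z := by rw [← Qc hx a e2, mul_inv_cancel_right, e1, ← mul_assoc, f4.sq a e2, one_mul])⟩
    by_contra k
    exact k (sqZ x ((cQ _ (sZ _ e3 k)).le ⟨hx, mem_cent1.2 (by group)⟩) ▸ one_mem A)
  obtain ⟨S', hS', QS⟩ := exists_isSyl_ge Nat.prime_two hQ.pgrp le_top
  have AS := (AZ.trans ZQ).trans QS
  refine ⟨S', Z, W, Q, d, h.toGl.of_syl hS' AS, f4.card, two_le_cent f4 h.sc hS'.pgrp AS,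
    l.sup, l.disj, W0, ?_, ⟨isMulComm_iff_le_cent.2 cZ, fun z hz => (pow_two z).trans (sqZ z hz)⟩,
    ZQ, QS, hQ, sZ, by nlinarith, sq, fun x hx y hy => ?_, fu', d1, d2, nA d4, d3, hj⟩
  · have e1 := H1.card_sup_of_inf_eq_bot (l.le.trans (nW s2)) d0
    have e2 := H1.card_sup_of_inf_eq_bot (AZ.trans (nW l.sup)) l.disj
    have e3 := card_le_of_le (sup_le l.le (le_sup_right.trans s2.le))
    rw [e1, card_conj, ← l.sup, e2, f4.card] at e3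
    exact Nat.le_of_mul_le_mul_right e3 Nat.card_pos
  · have := mul_mem (mul_mem (sq x hx) (sq _ (mul_mem (inv_mem hx) hy))) (inv_mem (sq y hy))
    convert this using 1
    rw [commutatorElement_def]; group

theorem chyp_of {A S : Subgroup G} (h : Sg A S) (ho : 𝐨(wc A).Coprime 2)
    (loc : ∀ a ∈ A, a ≠ 1 → 𝐂[a] ≤ oc a ⊔ 𝐍(A)) : CHyp A (wc A) := by
  have ho := Nat.coprime_two_right.1 ho
  refine ⟨h.el, h.four, h.sc, ho, P14.Gl.norm_wc A, fun e => ?_,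
    fun a ha a1 => (loc a ha a1).trans (sup_le_sup_right (le_wc ha a1) _)⟩
  by_cases e' : wc A = ⊥
  · rw [e', bot_sup_eq] at e
    exact h.norm_ne_top e
  · exact h.norm_ne e' (h.odd_ne_top ho)
      (top_le_iff.1 (e.ge.trans (sup_le (le_norm_self _) (P14.Gl.norm_wc A))))

theorem ab2 {𝒜 : Set G} {A S : Subgroup G} (h : Gl 𝒜 A S) (f4 : F4 A) (cen : S ≤ 𝐂(A))
    (e : ∀ t ∈ S, t * t = 1 → t ∈ A) : Ab2 G := by
  have cj : ∀ P : Subgroup G, IsPGroup 2 P → ∃ g, ∀ t ∈ P, t * t = 1 → g * t * g⁻¹ ∈ A :=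
    fun P hP => by
    obtain ⟨g, -, k⟩ := h.syl.exists_conj_le Nat.prime_two hP le_top
    exact ⟨g, fun t ht tt => e _ (k (conj_mem_conj ht g)) (by rw [conj_mul, tt]; group)⟩
  have ab := P29.lyStmt G h.sim h.nc (fun u hu => npc_of_odd fun P hP pP σ hσ ho =>
    h.ga.odd P pP σ hσ.2 ho fun a ha aP => ?_) (fun ⟨E, _, hE⟩ => ?_) S h.syl
    fun t ht it => cent_comm.1 cen (e t ht it.sq)
  · intro P hP
    obtain ⟨g, -, k⟩ := h.syl.exists_le_conj Nat.prime_two hP le_top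
    exact isMulComm_of_le k (isMulComm_iff_le_cent.2
      (conj_le_cent_iff.2 (isMulComm_iff_le_cent.1 ab)))
  · by_cases au : u = a
    · exact au ▸ hσ.1.2
    have ia := h.ga.inv a ha
    obtain ⟨g, hg⟩ := cj (zpowers u ⊔ P) (isPGroup_sup hu.isPGroup pP (zpowers_le.2
      (cent_le_norm P (mem_cent_iff_cent1.2 (hP.trans inf_le_right)))))
    have h1 := hg u (mem_sup_left (mem_zpowers u)) hu.sq
    have h2 := hg a (mem_sup_right aP) ia.sq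
    have h3 := hg _ (mem_sup_right (cjm hσ.2 aP)) (ia.conj σ).sq
    have h4 : g * σ * g⁻¹ ∈ 𝐂[g * u * g⁻¹] := cent1_conj u g ▸ conj_mem_conj hσ.1.2 g
    have h5 : g * σ * g⁻¹ ∈ 𝐍(A) := mem_norm_of_conj_le (conj_le_iff.2 (f4.le_of_mem h1 h2
      (hu.conj g).ne (ia.conj g).ne (by simpa using au) (mem_conj.2 (by
        rwa [inv_inv, mem_cent1_iff_conj.1 h4])) (mem_conj.2 (by
        convert h3 using 1; group))))
    have h6 := cent_le_cent1 h2 (f4.mem_cent_of_commute h5 h1 (hu.conj g).ne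
      (mem_cent1_iff_commute.1 h4).symm)
    rw [cent1_conj, mem_conj] at h6
    simpa [mul_assoc] using h6
  · obtain ⟨g, hg⟩ := cj E (elemAb_isPGroup hE.1)
    have := card_le_of_le (show E ^ᵍ g ≤ A by
      rintro _ ⟨x, hx, rfl⟩
      exact hg x hx ((pow_two x).symm.trans (hE.1.2 x hx)))
    rw [card_conj, hE.2, f4.card] at this
    omega

end B4

open B4

theorem b4Stmt : B4Stmt.{u} := by
  intro G _ _ 𝒜 A S h nb c4 cen hs
  have f4 := h.sg.f4 c4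
  have hsq : ∀ T, IsSyl 2 T ⊤ → A ≤ T → A ≤ sqs T := fun T hT hA a ha =>
    P18.BS.transfer (hT.of_le (two_le_cent f4 h.sc hT.pgrp hA) le_top) (hA ha)
      (cent_comm.1 le_rfl ha) (P18.BS.sqs_mono cen (hs ha)) (h.sg.sq ha)
  have locA : ∀ a ∈ A, a ≠ 1 → 𝐂[a] ≤ oc a ⊔ 𝐂[a] ⊓ 𝐍(A) := fun a ha a1 =>
    b2 h _ (h.sg.cent_ne a1) (h.sg.le_cent ha) fun ⟨K, c⟩ => nb a K ⟨ha, h.sg.inv ha a1, c⟩
  by_cases e : ∀ t ∈ S, t * t = 1 → t ∈ A
  · exact Or.inr (Or.inl (ab2 h.toGl f4 cen e))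
  push Not at e
  obtain ⟨t, ht, tt, tA⟩ := e
  have tc := cen ht
  by_cases k : ∃ a ∈ A, Ai A (a * t)
  · obtain ⟨a, -, h0⟩ := k
    exact Or.inr (Or.inr (exists_ac h f4 hsq h0))
  refine Or.inl ⟨_, chyp_of h.sg (wc_cop ⟨h.el, c4⟩ ((pow_two t).trans tt) tA tc
    (fun e he e1 => ?_) fun a ha a1 g hg => f4.mem_cent_of_commute hg.2 ha a1
      (mem_cent1_iff_commute.1 hg.1).symm)
    fun a ha a1 => (locA a ha a1).trans (sup_le_sup_left inf_le_right _)⟩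
  obtain ⟨a, ha, z, hz, rfl⟩ := (mem_sup_of_norm (zpowers_le.2 (cent_le_norm A tc))).1 he
  rcases (P7.mem_zpowers_invol tt).1 hz with rfl | rfl
  · rw [mul_one] at e1 ⊢
    exact locA a ha e1
  have c := mul_mem (h.sg.cc ha) tc
  refine b2 h _ (h.sg.cent_ne e1) (mem_cent_iff_cent1.1 c) fun act => k ⟨a, ha, ?_, ?_, c, act⟩
  · rw [(show Commute z a from (tc a ha).symm).mul_mul_mul_comm, h.sg.sq ha, tt, one_mul]
  · rwa [mul_mem_cancel_left ha]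

end Cfsg.Agent.P21
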