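/-
P21: from "abelian Sylow 2-subgroups or Zassenhaus group of odd degree" to the list of S4030.
-/
import Cfsg.Agent.P14.Defs
import Cfsg.Agent.P7.Final
import Cfsg.Agent.P12.Fin2
import Cfsg.Prelude.Def_Exceptional
import Cfsg.Prelude.Def_Sporadic

set_option autoImplicit false
set_option linter.style.haveILetI false

namespace Cfsg.Agent.P21

open Subgroup Cfsg Cfsg.Agent Cfsg.Agent.FT

universe u

variable {G : Type u} [Group G] [Finite G]

/-- The conclusion of S4030. -/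
def Concl (G : Type u) [Group G] : Prop :=
  (∃ (F : Type) (_ : Field F) (_ : Fintype F), 4 ≤ Fintype.card F ∧
      (Fintype.card F % 8 = 0 ∨ Fintype.card F % 8 = 3 ∨ Fintype.card F % 8 = 5) ∧
      Nonempty (G ≃* Matrix.ProjectiveSpecialLinearGroup (Fin 2) F)) ∨
    Cfsg.IsSuzuki G ∨ Cfsg.IsRee G ∨ Cfsg.IsJ1 G

theorem concl_eac (hs : IsSimpleGroup G) (na : ¬ IsMulCommutative G) (he : L.EAC G) :
    Concl G := by
  obtain ⟨n, hn, hc, F, _, _, hF, e⟩ := P12.eac_psl hs na he (by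
    by_contra h
    haveI := feit_thompson G (Nat.odd_iff.2 (by omega))
    exact na ⟨⟨IsSimpleGroup.comm_iff_isSolvable.2 inferInstance⟩⟩)
  rcases hn.eq_or_lt with rfl | h3
  · obtain ⟨F', _, _, a, b, c⟩ := P5.isL2_of_simple (G := G) na (by rw [hc]; norm_num)
    exact Or.inl ⟨F', _, _, a, Or.inr b, c⟩
  · obtain ⟨k, rfl⟩ := Nat.exists_eq_add_of_le (show 3 ≤ n from h3)
    have : 0 < 2 ^ k := Nat.pos_of_ne_zero (by positivity)
    rw [pow_add] at hF
    exact Or.inl ⟨F, _, _, by omega, Or.inl (by omega), e⟩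

theorem concl_zt (hs : IsSimpleGroup G) (na : ¬ IsMulCommutative G) (h : P14.ZTG G) :
    Concl G := by
  obtain ⟨Q, H, t, h⟩ := h
  rcases h.main with ⟨n, -, -, -, hQ, -⟩ | ⟨m, h1, h2, h3, -⟩
  · exact concl_eac hs na (h.eac hQ)
  · exact Or.inr (Or.inl ⟨hs, m, h1, by rw [h.card_G, h2, h3]; ring⟩)

theorem concl_ab (hs : IsSimpleGroup G) (na : ¬ IsMulCommutative G)
    (ab : ∀ P : Subgroup G, IsPGroup 2 P → IsMulCommutative P) : Concl G := by
  rcases P7.walterAll hs na ab with he | ⟨q, h⟩ | ⟨he, -⟩ | ⟨-, -, -, h⟩ | ⟨t, L, U, q, h⟩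
  · exact concl_eac hs na he
  · obtain ⟨F, _, _, hF, ⟨e⟩⟩ := h.iso
    have := h.five
    exact Or.inl ⟨F, _, _, by omega, Or.inr (hF ▸ h.mod), ⟨topEquiv.symm.trans e⟩⟩
  · exact concl_eac hs na he
  · exact Or.inr (Or.inr (Or.inr ⟨hs, h⟩))
  · obtain ⟨n, hn⟩ := h.pow
    have hm := h.l2.mod
    have hb := h.big
    obtain ⟨m, rfl | rfl⟩ := Nat.even_or_odd' n
    · have : 3 ^ (2 * m) % 8 = 1 := by rw [pow_mul, Nat.pow_mod]; simp
      omega
    · refine Or.inr (Or.inr (Or.inl ⟨hs, m, ?_, by rw [h.card, hn]⟩))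
      rcases m with _ | m
      · omega
      · omega

theorem concl (hs : IsSimpleGroup G) (na : ¬ IsMulCommutative G)
    (h : (∀ P : Subgroup G, IsPGroup 2 P → IsMulCommutative P) ∨ P14.ZTG G) : Concl G :=
  h.elim (concl_ab hs na) (concl_zt hs na)

end Cfsg.Agent.P21
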