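/-
P21: the class `CI` is closed under the sections that are used and has the properties `GA`.
-/
import Cfsg.Agent.P21.Q
import Cfsg.Agent.P21.Fin0

set_option autoImplicit false
set_option linter.unusedSectionVars false

namespace Cfsg.Agent.P21

open Subgroup Cfsg Cfsg.Agent Cfsg.Agent.FT
open Cfsg.Agent.H2 (CompIn)
open Cfsg.Agent.P6 (Inv Od Qt pr)
open scoped commutatorElement

universe u

variable {G : Type u} [Group G] [Finite G]

theorem cj_pow' {s x h : G} (e : s * x * s⁻¹ = x * h) (c : Commute s h) (n : ℕ) :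
    s ^ n * x * (s ^ n)⁻¹ = x * h ^ n := by
  induction n with
  | zero => simp
  | succ n ih =>
    calc s ^ (n + 1) * x * (s ^ (n + 1))⁻¹ = s * (s ^ n * x * (s ^ n)⁻¹) * s⁻¹ := by group
      _ = s * x * s⁻¹ * (s * h ^ n * s⁻¹) := by rw [ih]; group
      _ = _ := by rw [e, (c.pow_right n).eq]; group

theorem comm_of_odd {s x : G} {n : ℕ} (hn : Odd n) (e : Commute (s ^ n) x)
    (c : Commute s (x⁻¹ * (s * x * s⁻¹))) (q : x⁻¹ * (s * x * s⁻¹) * (x⁻¹ * (s * x * s⁻¹)) = 1) :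
    Commute s x := by
  have h1 := cj_pow' (x := x) (by group) c n
  obtain ⟨m, rfl⟩ := hn
  rw [e.eq, mul_inv_cancel_right, pow_succ, pow_mul, pow_two, q, one_pow, one_mul,
    mul_inv_cancel_left] at h1
  exact mul_inv_eq_iff_eq_mul.1 h1.symm

namespace I2

variable (h : I2 G)
include h

theorem inj {H : Type u} [Group H] {f : H →* G} (hf : Function.Injective f) : I2 H :=
  fun x g ⟨k, hk⟩ ⟨n, hn⟩ => hf (by
    rw [map_mul, map_mul]
    exact h _ _ ⟨k, by rw [← map_pow, hk, map_one]⟩ ⟨n, by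
      simpa using congrArg f hn⟩)

theorem sub (X : Subgroup G) : I2 X := h.inj X.subtype_injective

/-- The property (SQ). -/
theorem sq {P : Subgroup G} (hP : IsPGroup 2 P) {x y : G} (hx : x ∈ P) (hy : y ∈ P)
    (e : x * x = y * y) : x⁻¹ * y * (x⁻¹ * y) = 1 := by
  have h1 : y * (x⁻¹ * y) * y⁻¹ = (x⁻¹ * y)⁻¹ := by
    calc _ = y⁻¹ * (y * y) * x⁻¹ := by group
      _ = _ := by rw [← e]; group
  have h2 := h _ y (Two.of_mem hP (mul_mem (inv_mem hx) hy)) (h1 ▸ inv_mem (mem_zpowers _))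
  rw [h2, mul_inv_cancel_right] at h1
  exact mul_eq_one_iff_eq_inv.2 h1

theorem comm {P : Subgroup G} (hP : IsPGroup 2 P) {x y : G} (hx : x ∈ P) (hy : y ∈ P)
    (xx : x * x = 1) (yy : y * y = 1) : x * y = y * x := by
  have h1 := mul_eq_one_iff_eq_inv.1 (h.sq hP hx hy (xx.trans yy.symm))
  rwa [mul_inv_rev, inv_inv, P5.inv_eq_of_sq xx, P5.inv_eq_of_sq yy] at h1

theorem odd {P : Subgroup G} (hP : IsPGroup 2 P) {s : G} (hs : s ∈ 𝐍(P)) {n : ℕ} (hn : Odd n)
    (e : ∀ x ∈ P, Commute (s ^ n) x) (c : ∀ x ∈ P, x * x = 1 → Commute s x) {x : G} (hx : x ∈ P) :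
    Commute s x := by
  obtain ⟨k, hk⟩ := Two.of_mem hP hx
  induction k generalizing x with
  | zero => rw [pow_zero, pow_one] at hk; rw [hk]; exact Commute.one_right s
  | succ k ih =>
    have h1 := (mem_normalizer_iff.1 hs x).1 hx
    have h2 := h.sq hP hx h1 (by
      rw [conj_mul, (ih (mul_mem hx hx) (by rwa [← pow_two, ← pow_mul, ← pow_succ'])).eq,
        mul_inv_cancel_right])
    exact comm_of_odd hn (e x hx) (c _ (mul_mem (inv_mem hx) h1) h2) h2

theorem surj {H : Type u} [Group H] {g : G →* H} (hg : Function.Surjective g)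
    (ho : Odd 𝐨(g.ker)) : I2 H := by
  haveI := Finite.of_surjective g hg
  intro y z ⟨k, hk⟩ hz
  obtain ⟨x0, rfl⟩ := hg y
  obtain ⟨s, rfl⟩ := hg z
  have h1 : (x0 ^ 𝐨(g.ker)) ^ 2 ^ k = 1 := by
    rw [← pow_mul, mul_comm, pow_mul]
    exact P5.pow_card_of_mem (by rwa [MonoidHom.mem_ker, map_pow])
  have h2 : zpowers (g (x0 ^ 𝐨(g.ker))) = zpowers (g x0) := by
    rw [map_pow]
    exact le_antisymm (zpowers_le.2 (pow_mem (mem_zpowers _) _)) (zpowers_le.2
      (H8.mem_of_pow_mem_of_coprime (((Nat.coprime_two_left.2 ho).pow_left k).coprime_dvd_left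
        (orderOf_dvd_of_pow_eq_one hk)) (mem_zpowers _)))
  have h3 : g s * g (x0 ^ 𝐨(g.ker)) * (g s)⁻¹ ∈ zpowers (g (x0 ^ 𝐨(g.ker))) := by
    rw [h2, map_pow, ← conj_pow]; exact pow_mem hz _
  suffices Commute (g s) (g (x0 ^ 𝐨(g.ker))) by
    obtain ⟨m, hm⟩ := h2.ge (mem_zpowers _)
    exact hm ▸ this.zpow_right m
  generalize x0 ^ 𝐨(g.ker) = x at h1 h3
  have hp : IsPGroup 2 (zpowers x) := H2.isPGroup_zpowers_of_pow_eq_one h1
  have hS : IsSyl 2 (zpowers x) (g.ker ⊔ zpowers x) := ⟨le_sup_right, hp, fun hd =>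
    ho.not_two_dvd_nat (hd.trans (BG13.relIndex_dvd_card_of_sup (by rw [normalizer_eq_top]; exact le_top) rfl))⟩
  obtain ⟨c, hc, e⟩ := hS.exists_conj_le Nat.prime_two (Q := zpowers x ^ᵍ s) (hp.map _) (by
    rw [← zpowers_conj, zpowers_le, sup_comm, ← comap_map_eq, mem_comap, MonoidHom.map_zpowers,
      map_mul, map_mul, map_inv]
    exact h3)
  have h4 := h x (c * s) ⟨k, h1⟩ (by
    have := e (conj_mem_conj (conj_mem_conj (mem_zpowers x) s) c)
    rwa [show c * (s * x * s⁻¹) * c⁻¹ = c * s * x * (c * s)⁻¹ by group] at this)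
  rw [sup_comm, ← comap_map_eq, mem_comap, MonoidHom.map_zpowers] at hc
  obtain ⟨m, hm⟩ := hc
  have h5 : Commute (g c) (g x) := hm ▸ (Commute.refl _).zpow_left m
  simpa using h5.inv_left.mul_left (Commute.map (x := c * s) h4 g)

theorem ci : CI G {a | a ≠ 1 ∧ a * a = 1} :=
  ⟨G, _, ‹_›, MonoidHom.id G, Function.surjective_id, fun x hx => by
    rw [show x = 1 from hx]; exact one_mem _, fun x => ⟨0, Subtype.ext ((pow_one _).trans x.2)⟩, h,
    fun a => by simp⟩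

end I2

namespace CI

variable {𝒜 : Set G} (h : CI G 𝒜)
include h

theorem ga : GA 𝒜 := by
  obtain ⟨H, _, _, f, hf, hc, hp, hI, h⟩ := h
  have inv : ∀ a ∈ 𝒜, Inv a := fun a ha => by
    obtain ⟨a1, b, bb, rfl⟩ := (h a).1 ha
    exact ⟨a1, by rw [← map_mul, bb, map_one]⟩
  have key : ∀ P : Subgroup G, IsPGroup 2 P → ∀ a b, a * a = 1 → b * b = 1 → f a ∈ P → f b ∈ P →
      a * b = b * a := fun P hP a b aa bb ha hb =>
    hI.comm (hP.comap_of_ker_isPGroup f hp) ha hb aa bb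
  refine ⟨inv, fun a ha g => ?_, fun a ha b hb ne c => ?_, fun P hP a ha b hb aP bP => ?_,
    fun P hP σ hσ ho c => ?_⟩
  · obtain ⟨a1, b, bb, rfl⟩ := (h a).1 ha
    obtain ⟨s, rfl⟩ := hf g
    exact (h _).2 ⟨mt conj_eq_one_iff.1 a1, s * b * s⁻¹, by
      rw [conj_mul, bb, mul_one, mul_inv_cancel], by simp⟩
  · have v : P5.V4 a b := ⟨(inv a ha).ne, (inv b hb).ne, ne, (inv a ha).sq, (inv b hb).sq, c⟩
    obtain ⟨-, x, xx, rfl⟩ := (h a).1 ha
    obtain ⟨-, y, yy, rfl⟩ := (h b).1 hb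
    refine (h _).2 ⟨v.ts1, x * y, ?_, map_mul _ _ _⟩
    rw [mul_assoc, ← mul_assoc y, ← key _ v.isPGroup x y xx yy P5.V4.t_mem P5.V4.s_mem, mul_assoc,
      yy, mul_one, xx]
  · obtain ⟨-, x, xx, rfl⟩ := (h a).1 ha
    obtain ⟨-, y, yy, rfl⟩ := (h b).1 hb
    rw [← map_mul, key P hP x y xx yy aP bP, map_mul]
  · obtain ⟨s, rfl⟩ := hf σ
    have h1 : ∀ x, Commute (s ^ orderOf (f s)) x := fun x => (mem_center_iff.1 (hc (by
      rw [MonoidHom.mem_ker, map_pow, pow_orderOf_eq_one])) x).symm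
    refine mem_cent.2 fun y hy => ?_
    obtain ⟨x, rfl⟩ := hf y
    refine (Commute.map (hI.odd (hP.comap_of_ker_isPGroup f hp)
      (le_normalizer_comap f hσ) ho (fun x _ => h1 x) (fun x hx xx => ?_) hy) f).symm
    have h2 : x⁻¹ * (s * x * s⁻¹) ∈ center H := hc (by
      have : Commute (f x) (f s) := by
        by_cases e : f x = 1
        · rw [e]; exact Commute.one_left _
        · exact mem_cent1.1 (c _ ((h _).2 ⟨e, x, xx, rfl⟩) hx)
      rw [MonoidHom.mem_ker, map_mul, map_mul, map_mul, ← this.eq]; simp)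
    refine comm_of_odd ho (h1 x) (mem_center_iff.1 h2 s) ?_
    rw [mul_assoc x⁻¹, mem_center_iff.1 h2, P5.inv_eq_of_sq xx, mul_assoc x, ← mul_assoc x, xx,
      one_mul, conj_mul, xx, mul_one, mul_inv_cancel]

theorem sub (X : Subgroup G) : CI X {x : X | (x : G) ∈ 𝒜} := by
  obtain ⟨H, _, _, f, hf, hc, hp, hI, h⟩ := h
  refine ⟨X.comap f, _, inferInstance, f.subgroupComap X,
    f.subgroupComap_surjective_of_surjective X hf, fun x hx => mem_center_iff.2 fun y =>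
      Subtype.ext (mem_center_iff.1 (hc (congrArg Subtype.val hx)) y), fun x => ?_, hI.sub _,
    fun a => (h a).trans ⟨fun ⟨a1, b, bb, e⟩ => ⟨fun e' => a1 (congrArg Subtype.val e'),
      ⟨b, mem_comap.2 (e ▸ a.2)⟩, Subtype.ext bb, Subtype.ext e⟩, fun ⟨a1, b, bb, e⟩ =>
        ⟨fun e' => a1 (Subtype.ext e'), b, congrArg Subtype.val bb, congrArg Subtype.val e⟩⟩⟩
  obtain ⟨k, e⟩ := Two.of_mem hp (x := x.1.1) (congrArg Subtype.val x.2)
  exact ⟨k, Subtype.ext (Subtype.ext e)⟩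

theorem surj {K : Type u} [Group K] {g : G →* K} (hg : Function.Surjective g)
    (ho : Odd 𝐨(g.ker)) : CI K (g '' 𝒜) := by
  have ga := h.ga
  obtain ⟨H, _, _, f, hf, hc, hp, hI, h⟩ := h
  let M := (g.comp f).ker
  have hM : f.ker ≤ M := fun x hx => by
    rw [MonoidHom.mem_ker] at hx ⊢; rw [MonoidHom.comp_apply, hx, map_one]
  have hS : IsSyl 2 f.ker M := ⟨hM, hp, fun hd => by
    rw [relIndex_ker] at hd
    exact ho.not_two_dvd_nat (hd.trans (FT.card_dvd_of_le (map_le_iff_le_comap.2 fun x hx => hx)))⟩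
  have npc : HasNPC 2 M := burnside_npc Nat.prime_two hS fun x _ =>
    mem_cent.2 fun y hy => (mem_center_iff.1 (hc hy) x).symm
  haveI : (Od M).Normal := normal_iff_top_le.2 ((normal_iff_top_le.1 inferInstance).trans
    (H2.normalizer_le_normalizer_pPrimeCoreOf 2 M))
  have oN := P6.odd_Od M
  have oq : Odd 𝐨((QuotientGroup.mk' (Od M)).ker) := by rwa [QuotientGroup.ker_mk']
  have dec : ∀ x : H ⧸ Od M, QuotientGroup.lift (Od M) (g.comp f) (P6.Od_normal M).1 x = 1 →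
      ∃ z ∈ f.ker, (z : H ⧸ Od M) = x := fun x hx => by
    obtain ⟨x, rfl⟩ := QuotientGroup.mk_surjective x
    have := (npc.sdProd Nat.prime_two hS).sup
    obtain ⟨o, ho, z, hz, rfl⟩ := mem_sup_of_normal_left.1 (this.ge (show x ∈ M from hx))
    exact ⟨z, hz, by rw [QuotientGroup.mk_mul, (QuotientGroup.eq_one_iff o).2 ho, one_mul]⟩
  refine ⟨H ⧸ Od M, _, inferInstance, QuotientGroup.lift (Od M) (g.comp f) (P6.Od_normal M).1,
    fun y => ?_, fun x hx => ?_, fun x => ?_, hI.surj (QuotientGroup.mk'_surjective _) oq,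
    fun a => ⟨?_, ?_⟩⟩
  · obtain ⟨x, rfl⟩ := hg.comp hf y
    exact ⟨x, rfl⟩
  · obtain ⟨z, hz, rfl⟩ := dec x hx
    refine mem_center_iff.2 fun y => ?_
    obtain ⟨y, rfl⟩ := QuotientGroup.mk_surjective y
    rw [← QuotientGroup.mk_mul, mem_center_iff.1 (hc hz), QuotientGroup.mk_mul]
  · obtain ⟨z, hz, e⟩ := dec x x.2
    obtain ⟨k, hk⟩ := Two.of_mem hp hz
    exact ⟨k, Subtype.ext (by rw [coe_pow, ← e, ← QuotientGroup.mk_pow, hk]; rfl)⟩
  · rintro ⟨a, ha, rfl⟩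
    obtain ⟨-, b, bb, rfl⟩ := (h a).1 ha
    exact ⟨fun e => (ga.inv _ ha).not_mem_of_odd ho e, b, by
      rw [← QuotientGroup.mk_mul, bb]; rfl, rfl⟩
  · rintro ⟨a1, b, bb, rfl⟩
    obtain ⟨b, rfl⟩ := QuotientGroup.mk_surjective b
    obtain ⟨m, hm⟩ := oN
    have e : g (f (b ^ 𝐨(Od M))) = g (f b) := by
      have : g (f b) * g (f b) = 1 := by
        rw [← map_mul, ← map_mul]; exact (P6.Od_normal M).1 ((QuotientGroup.eq_one_iff _).1 bb)
      rw [map_pow, map_pow, hm, pow_succ, pow_mul, pow_two, this, one_pow, one_mul]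
    refine ⟨_, (h _).2 ⟨fun e' => a1 ?_, b ^ 𝐨(Od M), ?_, rfl⟩, e⟩
    · exact e.symm.trans (by rw [e', map_one])
    · rw [← (Commute.refl b).mul_pow]
      exact P5.pow_card_of_mem ((QuotientGroup.eq_one_iff _).1 bb)

theorem qt (X : Subgroup G) : CI (Qt X) (ab 𝒜 X) :=
  (h.sub X).surj H1.qmk_surjective (by
    rw [QuotientGroup.ker_mk', Nat.card_congr (subgroupOfEquivOfLe (P6.Od_normal X).1).toEquiv]
    exact P6.odd_Od X)

theorem comp [Group.IsPerfect G] (hZ : IsPGroup 2 (center G)) :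
    ∃ ℬ, CI (G ⧸ center G) ℬ := by
  obtain ⟨H, _, _, f, hf, hc, hp, hI, -⟩ := h
  have h1 : ∀ y, ∃ x ∈ commutator H, f x = y := fun y => by
    rw [← mem_map, commutator_def, map_commutator, map_top_of_surjective f hf]
    exact Group.IsPerfect.mem_commutator
  have h2 : ⁅commutator H, commutator H⁆ = commutator H :=
    le_antisymm (commutator_mono le_top le_top) (commutator_le.2 fun a _ b _ => by
      obtain ⟨x, hx, e1⟩ := h1 (f a)
      obtain ⟨y, hy, e2⟩ := h1 (f b)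
      have c1 := mem_center_iff.1 (hc (show x⁻¹ * a ∈ f.ker by simp [e1]))
      have c2 := mem_center_iff.1 (hc (show y⁻¹ * b ∈ f.ker by simp [e2]))
      rw [← mul_inv_cancel_left x a, ← mul_inv_cancel_left y b]
      generalize x⁻¹ * a = u at c1
      generalize y⁻¹ * b = v at c2
      have : ⁅x * u, y * v⁆ = ⁅x, y⁆ := by
        calc _ = x * (u * (y * v)) * u⁻¹ * x⁻¹ * v⁻¹ * y⁻¹ := by rw [commutatorElement_def]; group
          _ = x * y * (v * x⁻¹) * v⁻¹ * y⁻¹ := by rw [← c1]; group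
          _ = _ := by rw [← c2, commutatorElement_def]; group
      exact this ▸ commutator_mem_commutator hx hy)
  have h3 : (center G).comap f ≤ 𝐂(commutator H) := P7.KO.le_cent_of_perfect h2
    (commutator_le.2 fun a _ b hb => mem_cent.2 fun y _ => mem_center_iff.1 (hc (by
      rw [MonoidHom.mem_ker, map_commutatorElement, commutatorElement_eq_one_iff_mul_comm]
      exact mem_center_iff.1 hb _)) y)
  refine ⟨_, commutator H, _, inferInstance,
    (QuotientGroup.mk' (center G)).comp (f.comp (commutator H).subtype), fun y => ?_,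
    fun x hx => mem_center_iff.2 fun y => Subtype.ext
      (mem_cent.1 (h3 ((QuotientGroup.eq_one_iff (f x)).1 hx)) y y.2), fun x => ?_, hI.sub _,
    fun _ => Iff.rfl⟩
  · obtain ⟨y, rfl⟩ := QuotientGroup.mk_surjective y
    obtain ⟨x, hx, rfl⟩ := h1 y
    exact ⟨⟨x, hx⟩, rfl⟩
  · obtain ⟨k, hk⟩ := Two.of_mem (hZ.comap_of_ker_isPGroup f hp)
      (x := x.1.1) ((QuotientGroup.eq_one_iff (f x.1.1)).1 x.2)
    exact ⟨k, Subtype.ext (Subtype.ext hk)⟩

/-- The simple quotient of a quasisimple subgroup is known. -/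
theorem kn {n : ℕ} (hK : KI.{u} n) {K : Subgroup G} (hn : 𝐨(K) < n) (qs : IsQuasisimple K)
    (hZ : IsPGroup 2 (K ⊓ 𝐂(K) : Subgroup G)) : Kn (K ⧸ center K) := by
  haveI := qs.1
  haveI := qs.2
  obtain ⟨ℬ, h1⟩ := (h.sub K).comp (hZ.comap_subtype.to_le fun x hx =>
    ⟨x.2, mem_cent.2 fun y hy => congrArg Subtype.val (mem_center_iff.1 hx ⟨y, hy⟩)⟩)
  exact hK _ ℬ ((Nat.le_of_dvd Nat.card_pos (card_quotient_dvd_card _)).trans_lt hn) h1 qs.2
    (Group.IsPerfect.not_isMulCommutative _)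

theorem ty (hZ : ZStmt.{u}) {n : ℕ} (hK : KI.{u} n) {X : Subgroup G} (hn : 𝐨(X) < n) :
    Ty (Qt X) := fun K T hc hT => by
  have h2 : IsPGroup 2 (K ⊓ 𝐂(K) : Subgroup _) :=
    (H2.isPGroup_pCoreOf 2 ⊤).to_le (hc.inf_centralizer_le_fittingOf.trans
      (fittingOf_eq_pCoreOf Nat.prime_two (H7.SC.od_br X)).le)
  exact hZ _ _ K T (h.qt X).ga hc.2 h2 ((h.qt X).kn hK (((card_le_card_group K).trans
    (Nat.le_of_dvd Nat.card_pos (card_quotient_dvd_card _))).trans_lt hn) hc.2 h2) hT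

end CI

theorem ambStmt (hZ : ZStmt.{u}) : AmbStmt.{u} := fun _ _ _ _ hs na h hK =>
  ⟨hs, na, h.ga, fun X => (h.qt X).ga, fun _ hX =>
    h.ty hZ hK ((H1.card_lt_of_lt (lt_top_iff_ne_top.2 hX)).trans_eq card_top)⟩

theorem s4030 (hZ : ZStmt.{u}) (hB : BStmt.{u}) (hC : CStmt.{u}) (hs : IsSimpleGroup G)
    (na : ¬ IsMulCommutative G) (hirr : ∀ x : G, (∀ r : ℕ, r.Prime → r ∣ orderOf x → r = 2) →
      𝐍(zpowers x) ≤ 𝐂[x]) : Concl G := by
  have h : I2 G := fun x g ⟨k, hk⟩ e => (mem_cent1.1 (hirr x (fun r hr hd =>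
    (Nat.prime_dvd_prime_iff_eq hr Nat.prime_two).1
      (hr.dvd_of_dvd_pow (hd.trans (orderOf_dvd_of_pow_eq_one hk))))
    (mem_norm_of_conj_le (by rwa [← zpowers_conj, zpowers_le])))).symm
  exact concl hs na ((ki_all (ambStmt hZ) hB hC _ G _ (Nat.lt_succ_self _) h.ci hs na).imp_right
    fun h3 => P14.kh_thm _ G (Nat.lt_succ_self _) h3 hs na)

end Cfsg.Agent.P21
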