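/-
P21, case I: the signalizer functor.
-/
import Cfsg.Agent.P21.Q

set_option autoImplicit false
set_option linter.unusedSectionVars false
set_option linter.style.haveILetI false

namespace Cfsg.Agent.P21.One

open Subgroup Cfsg Cfsg.Agent Cfsg.Agent.FT
open Cfsg.Agent.P14 (SC)
open Cfsg.Agent.H2 (sigGen le_sigGen sigGen_le)
open Cfsg.Agent.P5 (V4)
open Cfsg.Agent.P6 (Inv Od)
open Cfsg.Agent.P7 (Zc Oc Zb Od_le le_norm_Od cjm th le_th th_le th_anti th_conj norm_th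
  norm_sigGen odd_Oc norm_Oc Oc_conj cop_two_odd two_zpowers V2 lemG exists_ne3 norm_ne_top
  cent1_ne_top ns_top)
open scoped commutatorElement

universe u

variable {G : Type u} [Group G] [Finite G]

/-- An unbalanced block. -/
def Unb (A : Subgroup G) (c : G) (K : Subgroup G) : Prop :=
  𝐨(A) = 4 * 𝐨((A ⊓ Zb c K : Subgroup G))

/-- The closure of the functor. -/
abbrev Wt (A : Subgroup G) : Subgroup G := sigGen A (th A)

theorem norm_Wt (A : Subgroup G) : 𝐍(A) ≤ 𝐍(Wt A) := fun _ hg => norm_sigGen hg (th_conj hg)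

/-- All blocks have large centralizers. -/
structure St (A : Subgroup G) : Prop where
  sim : IsSimpleGroup G
  nc : ¬ IsMulCommutative G
  el : IsElementaryAbelian 2 A
  sc : SC ⊤ A
  la : ∀ X : Subgroup G, X ≠ ⊤ → A ≤ X → LocA A X
  lb : ∀ X : Subgroup G, X ≠ ⊤ → A ≤ X → LocB A X
  pu : ∀ X X' : Subgroup G, X ≠ ⊤ → A ≤ X → X' ≠ ⊤ → A ≤ X' → Pump A X X'

namespace St

variable {A : Subgroup G} (h : St A)
include h

theorem sq {a : G} (ha : a ∈ A) : a * a = 1 := by rw [← pow_two]; exact h.el.2 a ha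

theorem inv {a : G} (ha : a ∈ A) (a1 : a ≠ 1) : Inv a := ⟨a1, h.sq ha⟩

theorem cc : A ≤ 𝐂(A) := isMulComm_iff_le_cent.1 h.el.1

theorem two : IsPGroup 2 A := elemAb_isPGroup h.el

theorem le_cent1 {a : G} (ha : a ∈ A) : A ≤ 𝐂[a] := h.cc.trans (cent_le_cent1 ha)

theorem le_norm {U : Subgroup G} (hU : U ≤ A) : A ≤ 𝐍(U) :=
  h.cc.trans ((cent_anti hU).trans (cent_le_norm U))

theorem v4 {a b : G} (ha : a ∈ A) (hb : b ∈ A) (a1 : a ≠ 1) (b1 : b ≠ 1) (ab : a ≠ b) : V4 a b :=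
  ⟨a1, b1, ab, h.sq ha, h.sq hb, mem_cent1.1 (h.le_cent1 ha hb)⟩

theorem exists_v4 {F : Subgroup G} (hF : F ≤ A) (h4 : 4 ≤ 𝐨(F)) {a : G} (ha : a ∈ A)
    (a1 : a ≠ 1) : ∃ b ∈ F, V4 a b := by
  obtain ⟨b, hb, b1, ba, -⟩ := exists_ne3 h4 1 a 1
  exact ⟨b, hb, h.v4 ha (hF hb) a1 b1 ba.symm⟩

theorem exists_v4' {F : Subgroup G} (hF : F ≤ A) (h4 : 4 ≤ 𝐨(F)) : ∃ a ∈ F, ∃ b ∈ F, V4 a b := by
  obtain ⟨a, ha, a1, -⟩ := exists_ne3 h4 1 1 1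
  exact ⟨a, ha, h.exists_v4 hF h4 (hF ha) a1⟩

theorem meet {F B : Subgroup G} (hF : F ≤ A) (hB : B ≤ A) (k : 𝐨(A) < 𝐨(F) * 𝐨(B)) :
    ∃ x ∈ F ⊓ B, x ≠ 1 :=
  (bot_or_exists_ne_one _).resolve_left fun e => by
    have := card_le_of_le (sup_le hF hB)
    rw [H1.card_sup_of_inf_eq_bot (hF.trans (h.le_norm hB)) e] at this
    omega

theorem nC {a : G} (ha : a ∈ A) : A ≤ 𝐍(𝐂[a]) := (h.le_cent1 ha).trans le_normalizer

theorem nO {a : G} (ha : a ∈ A) : A ≤ 𝐍(Oc a) := (h.le_cent1 ha).trans (norm_Oc a)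

theorem odd_ne_top {W : Subgroup G} (ho : Odd 𝐨(W)) : W ≠ ⊤ := fun e =>
  ns_top h.sim h.nc (e ▸ P5.Mx.isSolvable_of_odd ho)

theorem loc {a : G} (ha : a ∈ A) (ia : Inv a) : LocA A 𝐂[a] :=
  h.la _ (cent1_ne_top h.sim h.nc ia.ne) (h.le_cent1 ha)

theorem nK {a : G} {K : Subgroup G} (b : Bk A a K) : A ≤ 𝐍(K) :=
  (h.loc b.mem b.inv).nA b.act.toCq

theorem four {a : G} {K : Subgroup G} (b : Bk A a K) :
    4 * 𝐨((A ⊓ Zb a K : Subgroup G)) ≤ 𝐨(A) := by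
  obtain ⟨V, R, d⟩ := (h.loc b.mem b.inv).dc K b.act
  rw [d.card h.el]
  exact Nat.mul_le_mul_right _ d.four

theorem cover1 {a e : G} {K : Subgroup G} (b : Bk A a K) (he : e ∈ A ⊓ Zb a K) :
    K ≤ K ⊓ 𝐂[e] ⊔ Oc a := b.act.cover1 (h.le_cent1 b.mem he.1) (h.sq he.1) he.2

theorem pump {a e : G} {K : Subgroup G} (b : Bk A a K) (he : e ∈ A ⊓ Zb a K) (ie : Inv e) :
    ∃ K', Bk A e K' ∧ A ⊓ K ≤ K' ∧ IA A (K ⊓ 𝐂[e]) ≤ K' ∧
      (∀ u ∈ 𝐍(K), u ∈ Zb e K' → u ∈ Zb a K) ∧ A ⊓ Zb e K' ≤ A ⊓ Zb a K := by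
  obtain ⟨K', c, h1, h2⟩ := h.pu _ _ (cent1_ne_top h.sim h.nc b.inv.ne) (h.le_cent1 b.mem)
    (cent1_ne_top h.sim h.nc ie.ne) (h.le_cent1 he.1) K b.act (h.cover1 b he)
  exact ⟨K', ⟨he.1, ie, c⟩, fun v hv => h1 (mem_IA' ⟨hv.2, h.le_cent1 he.1 hv.1⟩ hv.1), h1, h2,
    fun x hx => ⟨hx.1, h2 x (h.nK b hx.1) hx.2⟩⟩

theorem oddN {c : G} {K D : Subgroup G} (b : Bk A c K) (hD : D ≤ 𝐂[c]) (ho : Odd 𝐨(D))
    (hn : A ≤ 𝐍(D)) : D ≤ 𝐍(K) := (h.loc b.mem b.inv).oddN K b.act D hD ho hn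

theorem odd1 (a c : G) : Odd 𝐨((Oc a ⊓ 𝐂[c] : Subgroup G)) := P6.odd_of_le inf_le_left (odd_Oc a)

theorem n1 {a c : G} (ha : a ∈ A) (hc : c ∈ A) : A ≤ 𝐍((Oc a ⊓ 𝐂[c] : Subgroup G)) :=
  H1.le_normalizer_inf (h.nO ha) (h.nC hc)

theorem n2 (a c : G) : 𝐂[c] ⊓ 𝐂[a] ≤ 𝐍((Oc a ⊓ 𝐂[c] : Subgroup G)) :=
  H1.le_normalizer_inf (inf_le_right.trans (norm_Oc a)) (inf_le_left.trans le_normalizer)

theorem OcN {a c : G} {K : Subgroup G} (b : Bk A c K) (ha : a ∈ A) : Oc a ⊓ 𝐂[c] ≤ 𝐍(K) :=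
  h.oddN b inf_le_right (h.odd1 a c) (h.n1 ha b.mem)

theorem bal {a c : G} {K : Subgroup G} (b : Bk A c K) (ha : a ∈ A) :
    Oc a ⊓ 𝐂[c] ≤ Zb c K ∨ Unb A c K :=
  ((h.lb _ (cent1_ne_top h.sim h.nc b.inv.ne) (h.le_cent1 b.mem)).d2 K b.act).imp_left
    fun e => e _ inf_le_right (h.odd1 a c) (h.n1 ha b.mem) a ha (h.n2 a c)

theorem split {c d : G} {K U : Subgroup G} (b : Bk A c K) (hU : U ≤ 𝐂[c]) (ho : Odd 𝐨(U))
    (hn : A ≤ 𝐍(U)) (hd : d ∈ A ⊓ Zb c K) (k : U ⊓ 𝐂[d] ≤ Zb c K) : U ≤ Zb c K := by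
  rw [← H1.commutator_sup_centralizer (zpowers_le.2 (hn hd.1)) (cop_two_odd (two_zpowers
    (h.sq hd.1)) ho) (Or.inl (P6.Inv.solv d)), cent_zpowers]
  exact sup_le ((commutator_mono le_rfl (zpowers_le.2 hd.2)).trans
    (comm_le_right_iff.2 ((h.oddN b hU ho hn).trans b.act.norm_Z))) k

theorem oddZ {c d : G} {K D : Subgroup G} (b : Bk A c K) (hD : D ≤ 𝐂[c]) (ho : Odd 𝐨(D))
    (hn : A ≤ 𝐍(D)) (hd : d ∈ A ⊓ Zb c K) (k : K ⊓ 𝐂[d] ≤ 𝐍(D)) : D ≤ Zb c K :=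
  b.act.le_Z_of_norm (h.oddN b hD ho hn) ho inf_le_left k (h.cover1 b hd)

theorem le_Oc {a c : G} {U : Subgroup G} (hc : c ∈ A) (ic : Inv c) (ha : a ∈ A) (h1 : U ≤ 𝐂[c])
    (h2 : U ≤ Oc a) (k : ∀ K, Bk A c K → Unb A c K → U ≤ Zb c K) : U ≤ Oc c := fun x hx =>
  (h.loc hc ic).memOd a ha _ (le_inf inf_le_right (inf_le_left.trans (Od_le _))) (h.odd1 a c)
    (h.n2 a c) x ⟨h2 hx, h1 hx⟩ fun K p => (h.bal ⟨hc, ic, p⟩ ha).elim (fun e => e ⟨h2 hx, h1 hx⟩)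
      fun e => k K ⟨hc, ic, p⟩ e hx

theorem le_thA {Y : Subgroup G} {a : G} (h1 : Y ≤ Oc a) (hn : A ≤ 𝐍(Y))
    (k : ∀ c ∈ A, Inv c → Y ⊓ 𝐂[c] ≤ Oc c) : Y ≤ th A a := le_th.2 ⟨h1, fun b hb b1 => by
  rw [← H1.commutator_sup_centralizer (zpowers_le.2 (hn hb)) (cop_two_odd (two_zpowers (h.sq hb))
    (P6.odd_of_le h1 (odd_Oc a))) (Or.inl (P6.Inv.solv b)), cent_zpowers]
  exact sup_le_sup (commutator_mono h1 le_rfl)
    (le_inf (inf_le_left.trans h1) (k b hb (h.inv hb b1)))⟩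

theorem good {Y : Subgroup G} {a : G} (ha : a ∈ A) (h1 : Y ≤ Oc a) (hn : A ≤ 𝐍(Y))
    (k : ∀ c K, Bk A c K → Unb A c K → ∃ d ∈ A ⊓ Zb c K, Y ⊓ 𝐂[d] ≤ Oc d) :
    Y ≤ th A a := h.le_thA h1 hn fun c hc ic => by
  have ho := P6.odd_of_le (inf_le_left.trans h1 : Y ⊓ 𝐂[c] ≤ _) (odd_Oc a)
  have hn' := H1.le_normalizer_inf hn (h.nC hc)
  refine h.le_Oc hc ic ha inf_le_right (inf_le_left.trans h1) fun K p u => ?_
  obtain ⟨d, hd, e⟩ := k c K p u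
  exact h.split p inf_le_right ho hn' hd ((le_inf ((inf_le_inf_right _ inf_le_left).trans e)
    (inf_le_left.trans inf_le_right)).trans (h.oddZ p inf_le_right (h.odd1 d c) (h.n1 hd.1 hc) hd
      ((inf_le_inf_right _ p.act.le).trans (h.n2 d c))))

theorem nth {F : Subgroup G} (hF : F ≤ A) {a : G} (ha : a ∈ A) : A ≤ 𝐍(th F a) :=
  (le_inf (h.le_norm hF) (h.le_cent1 ha)).trans norm_th

variable (h16 : 16 ≤ 𝐨(A))
include h16

theorem star {a b : G} (ha : a ∈ A) (hb : b ∈ A) (ib : Inv b) :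
    ⁅Oc a, zpowers b⁆ ⊓ 𝐂[b] ≤ Oc b := by
  have h1 : ⁅Oc a, zpowers b⁆ ≤ Oc a := comm_le_left_iff.2 (zpowers_le.2 (h.nO ha hb))
  have ho := P6.odd_of_le (inf_le_left.trans h1 : ⁅Oc a, zpowers b⁆ ⊓ 𝐂[b] ≤ _) (odd_Oc a)
  have hn : A ≤ 𝐍((⁅Oc a, zpowers b⁆ ⊓ 𝐂[b] : Subgroup G)) := H1.le_normalizer_inf
    (H1.le_normalizer_commutator (h.nO ha) (h.le_norm (zpowers_le.2 hb))) (h.nC hb)
  refine h.le_Oc hb ib ha inf_le_right (inf_le_left.trans h1) fun K p u => ?_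
  obtain ⟨f, hf, v⟩ := h.exists_v4 (inf_le_left (b := Zb b K)) (by unfold Unb at u; omega) hb ib.ne
  have hE : V2 b f ≤ A ⊓ Zb b K := P5.V4.le_iff.2 ⟨p.memZ, hf⟩
  have hS := hE.trans inf_le_left
  refine h.split p inf_le_right ho hn hf (le_trans (fun x hx => mem_inf.2 ⟨commutator_mono
    le_rfl (zpowers_le.2 P5.V4.t_mem) hx.1.1, P7.V4.le_cent_iff.2 ⟨hx.1.2, hx.2⟩⟩)
    (lemG v (odd_Oc a) (hS.trans (h.nO ha)) fun e he e1 x hx => ?_))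
  obtain ⟨K', p', -, -, k2, k3⟩ := h.pump p (hE he) (P7.V4.inv v he e1)
  have hx1 := comm_le_left_iff.2 (hS.trans (h.n1 ha p'.mem)) hx.1
  refine k2 x (h.OcN p ha ⟨hx1.1, (P7.V4.le_cent_iff.1 hx.2).1⟩) ?_
  rcases h.bal p' ha with u' | u'
  · exact u' hx1
  · have := eq_of_le_of_card_ge k3 (by unfold Unb at u u'; omega)
    exact ((commutator_mono le_rfl ((hE.trans this.ge).trans inf_le_right)).trans
      (comm_le_right_iff.2 ((h.OcN p' ha).trans p'.act.norm_Z))) hx.1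

theorem th_cent {F : Subgroup G} {a b : G} (ha : a ∈ A) (hb : b ∈ A) (ib : Inv b)
    (bF : b ∈ F) : th F a ⊓ 𝐂[b] ≤ Oc b := fun x hx => by
  obtain ⟨y, hy, z, hz, rfl⟩ := (mem_sup_of_norm (inf_le_left.trans (by
    rw [commutator_comm]; exact H1.le_normalizer_commutator_self))).1
      ((le_th.1 le_rfl).2 b bF ib.ne hx.1)
  exact mul_mem (h.star h16 ha hb ib ⟨hy, (mul_mem_cancel_right (Od_le _ hz.2)).1 hx.2⟩) hz.2

theorem th_bal {a b : G} (ha : a ∈ A) (hb : b ∈ A) (ib : Inv b) : th A a ⊓ 𝐂[b] ≤ th A b :=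
  h.le_thA (h.th_cent h16 ha hb ib hb) (H1.le_normalizer_inf (h.nth le_rfl ha) (h.nC hb))
    fun _ hc ic => (inf_le_inf_right _ inf_le_left).trans (h.th_cent h16 ha hc ic hc)

theorem Wt_eq {a b : G} (v : V4 a b) (ha : a ∈ A) (hb : b ∈ A) :
    Wt A = sigGen (V2 a b) (th A) := by
  refine le_antisymm (sigGen_le fun c hc _ => ?_) (sigGen_le fun _ hc c1 =>
    le_sigGen _ (P5.V4.le_iff.2 ⟨ha, hb⟩ hc) c1)
  have k : ∀ e ∈ V2 a b, e ≠ 1 → th A c ⊓ 𝐂[e] ≤ sigGen (V2 a b) (th A) :=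
    fun e he e1 => (h.th_bal h16 hc (P5.V4.le_iff.2 ⟨ha, hb⟩ he) (P7.V4.inv v he e1)).trans
      (le_sigGen _ he e1)
  exact P7.V4.le_of_cent v (P6.odd_of_le (th_le _ _) (odd_Oc c)) (h.nth le_rfl hc ha)
    (h.nth le_rfl hc hb) (k a P5.V4.t_mem v.t1) (k b P5.V4.s_mem v.s1)
    (k _ (mul_mem P5.V4.t_mem P5.V4.s_mem) v.ts1)

theorem odd_Wt : Odd 𝐨(Wt A) := by
  obtain ⟨n, hn⟩ := elemAb_exists_isElem Nat.prime_two h.el
  obtain ⟨F, hF, e⟩ := hn.exists_le (k := 3) Nat.prime_two (by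
    by_contra k
    have := Nat.pow_le_pow_right two_pos (show n ≤ 2 by omega)
    rw [hn.card] at h16
    omega)
  have ho : ∀ a : G, Odd 𝐨(th A a) := fun a => P6.odd_of_le (th_le _ _) (odd_Oc a)
  haveI : Fact (Nat.Prime 2) := ⟨Nat.prime_two⟩
  obtain ⟨M, hM, k⟩ := H2.sig_complete' (p := 2) (θ := th A) ⟨e.1, e.2⟩ ⟨fun a _ _ =>
    (th_le _ _).trans (Od_le _), fun a ha _ => hF.trans (h.nth le_rfl (hF ha)),
    fun a _ _ => (ho a).coprime_two_right, fun a _ _ => P5.Mx.isSolvable_of_odd (ho a),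
    fun a ha _ b hb b1 => h.th_bal h16 (hF ha) (hF hb) (h.inv (hF hb) b1)⟩
  obtain ⟨a, ha, b, hb, v⟩ := h.exists_v4' hF (by rw [e.2]; norm_num)
  rw [h.Wt_eq h16 v (hF ha) (hF hb)]
  exact P6.odd_of_le (sigGen_le fun c hc => k c (P5.V4.le_iff.2 ⟨ha, hb⟩ hc))
    (Nat.coprime_two_right.1 hM.cop)

theorem cent_le {F : Subgroup G} (hF : F ≤ A) (h8 : 8 ≤ 𝐨(F)) : 𝐂(F) ≤ 𝐍(Wt A) := by
  obtain ⟨a, ha, b, hb, v⟩ := h.exists_v4' hF (by omega)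
  rw [h.Wt_eq h16 v (hF ha) (hF hb)]
  refine H2.le_normalizer_sigGen fun e he _ => ?_
  have eF := P5.V4.le_iff.2 ⟨ha, hb⟩ he
  rw [le_antisymm (th_anti hF e) (h.good (hF eF) (th_le _ _) (h.nth hF (hF eF)) fun c K p u => ?_)]
  · exact (le_inf (cent_le_norm F) (cent_le_cent1 eF)).trans norm_th
  · obtain ⟨d, hd, d1⟩ := h.meet hF (inf_le_left (b := Zb c K)) (by
      have : 0 < 𝐨((A ⊓ Zb c K : Subgroup G)) := Nat.card_pos
      unfold Unb at u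
      nlinarith)
    exact ⟨d, hd.2, h.th_cent h16 (hF eF) hd.2.1 (h.inv hd.2.1 d1) hd.1⟩

theorem odd_le (F : Subgroup G) (hF : F ≤ A) :
    ∀ D : Subgroup G, Odd 𝐨(D) → A ≤ 𝐍(D) → D ≤ 𝐂(F) → D ≤ 𝐍(Wt A) := by
  induction F using WellFoundedGT.induction with
  | ind F ih =>
  intro D ho hn hD
  rcases le_or_gt 8 𝐨(F) with h8 | h8
  · exact hD.trans (h.cent_le h16 hF h8)
  have k : ∀ e ∈ A, e ∉ F → D ⊓ 𝐂[e] ≤ 𝐍(Wt A) := fun e he eF =>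
    ih (F ⊔ zpowers e) (left_lt_sup.2 fun k => eF (zpowers_le.1 k)) (sup_le hF (zpowers_le.2 he)) _
      (P6.odd_of_le inf_le_left ho) (H1.le_normalizer_inf hn (h.nC he))
      (by rw [cent_sup, cent_zpowers]; exact inf_le_inf_right _ hD)
  obtain ⟨a, ha, aF⟩ := SetLike.not_le_iff_exists.1 fun e : A ≤ F => by
    have := card_le_of_le e
    omega
  have ia : Inv a := h.inv ha fun e => aF (e ▸ one_mem F)
  obtain ⟨b, hb, bF⟩ := SetLike.not_le_iff_exists.1 fun e : A ≤ F ⊔ zpowers a => by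
    have h1 := card_le_of_le e
    have h2 := Nat.le_of_dvd (Nat.mul_pos Nat.card_pos Nat.card_pos) (H1.card_sup_dvd
      (hF.trans (h.le_norm (zpowers_le.2 ha))))
    rw [ia.card_zpowers] at h2
    omega
  have am := mem_sup_right (S := F) (mem_zpowers a)
  exact P7.V4.le_of_cent (h.v4 ha hb ia.ne (fun e => bF (e ▸ one_mem _)) fun e => bF (e ▸ am)) ho
    (hn ha) (hn hb) (k a ha aF) (k b hb fun e => bF (mem_sup_left e)) (k _ (mul_mem ha hb) fun e =>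
      bF ((mul_mem_cancel_left am).1 (mem_sup_left e)))

variable (se : ∀ H : Subgroup G, 𝐍(A) ≤ H → (∀ a ∈ A, Inv a → Oc a ≤ H) →
    (∀ a K, Bk A a K → K ≤ H) → H = ⊤)
  (big : ∀ a K, Bk A a K → 8 ≤ 𝐨((A ⊓ Zb a K : Subgroup G)))
include se big

theorem Wt_bot : Wt A = ⊥ := by
  by_contra hW
  have hO : ∀ e ∈ A, Oc e ≤ 𝐍(Wt A) := fun e he =>
    h.odd_le h16 ⊥ bot_le _ (odd_Oc e) (h.nO he) (le_top.trans cent_bot.ge)
  exact norm_ne_top h.sim hW (h.odd_ne_top (h.odd_Wt h16)) (se _ (norm_Wt A)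
    (fun a ha _ => hO a ha) fun a K p => (p.act.cover (inf_le_left.trans (h.le_cent1 p.mem))
      (h.two.to_le inf_le_left) inf_le_right).trans (sup_le (inf_le_right.trans
        (h.cent_le h16 inf_le_left (big a K p))) (hO a p.mem)))

/-- The core of `C(b)` is centralized by an involution `v` if each unbalanced component is
centralized by `b` or by `v`. -/
theorem Oc_le_cent {b v : G} (hb : b ∈ A) (ib : Inv b) (hv : v ∈ A)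
    (iv : Inv v) (k : ∀ c K, Bk A c K → b ∈ Zb c K ∨ v ∈ Zb c K) : v ∈ 𝐂(Oc b) := by
  have h1 : ⁅Oc b, zpowers v⁆ ≤ Oc b := comm_le_left_iff.2 (zpowers_le.2 (h.nO hb hv))
  have := (h.good hb h1 (H1.le_normalizer_commutator (h.nO hb)
    (h.le_norm (zpowers_le.2 hv))) fun c K p _ => (k c K p).elim
      (fun e => ⟨b, ⟨hb, e⟩, inf_le_left.trans h1⟩) fun e =>
        ⟨v, ⟨hv, e⟩, h.star h16 hb hv iv⟩).trans (le_sigGen _ hb ib.ne)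
  rw [show sigGen A (th A) = ⊥ from h.Wt_bot h16 se big, le_bot_iff, commutator_comm,
    commutator_eq_bot_iff_le_centralizer] at this
  exact this (mem_zpowers v)

end St

end Cfsg.Agent.P21.One
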