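/-
P21, case I.
-/
import Cfsg.Agent.P21.I0
import Cfsg.Agent.P21.G0

set_option autoImplicit false
set_option linter.unusedSectionVars false
set_option linter.style.haveILetI false

namespace Cfsg.Agent.P21

open Subgroup Cfsg Cfsg.Agent Cfsg.Agent.FT
open Cfsg.Agent.P6 (Inv Od)
open Cfsg.Agent.P7 (Zc Oc Zb cjm odd_Oc Oc_conj exists_ne3)
open scoped commutatorElement

universe u

variable {G : Type u} [Group G] [Finite G]

namespace One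

/-- The situation of case I. -/
structure Sit (𝒜 : Set G) (A S : Subgroup G) : Prop extends Gx 𝒜 A S where
  h16 : 16 ≤ 𝐨(A)
  top : ∀ H : Subgroup G, 𝐍(A) ≤ H → (∀ a ∈ A, Inv a → Oc a ≤ H) →
    (∀ a K, Bk A a K → K ≤ H) → H = ⊤
  big : ∀ a K, Bk A a K → 8 ≤ 𝐨((A ⊓ Zb a K : Subgroup G))
  meet : ∀ a K c K', Mb A a K → Bk A c K' → (A ⊓ Zb a K) ⊓ (A ⊓ Zb c K') ≠ ⊥

theorem st_of {𝒜 : Set G} {A S : Subgroup G} (h : Gx 𝒜 A S) : St A :=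
  ⟨h.sim, h.nc, h.el, h.sc, h.la, h.lb, h.pump⟩

namespace Sit

variable {𝒜 : Set G} {A S : Subgroup G} (h : Sit 𝒜 A S)
include h

theorem st : St A := st_of h.toGx

variable {a : G} {K : Subgroup G} (p : Mb A a K)
include p

theorem l1 : IA A K ≤ 𝐂(Oc a) :=
  IA_le_of_normal h.el h.sc (h.nK p.toBk) (H1.le_normalizer_centralizer p.act.le_norm_Od)
    fun v hv => by
      rcases eq_or_ne v 1 with rfl | v1
      · exact one_mem _
      exact h.st.Oc_le_cent h.h16 h.top h.big p.mem p.inv hv.1 (h.st.inv hv.1 v1) fun c K' q =>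
        (h.g1 p q (h.meet _ _ _ _ p q)).imp (fun e => (e p.memZ).2) fun e => (e hv).2

theorem l2 : IA A K ≤ 𝐂((A ⊓ Zb a K : Subgroup G)) := IA_le_iff.2 fun x hx g e s hs => by
  have h1 := (mem_centMod.1 hs.2).2 x hx
  have h2 := h.l1 p (mem_IA hx e) _ h1
  by_contra k
  refine P6.Inv.not_mem_of_odd ⟨fun e => k (commutatorElement_eq_one_iff_mul_comm.1 e).symm, ?_⟩
    (odd_Oc a) h1
  have h3 : ⁅x * x, s⁆ = x * ⁅x, s⁆ * x⁻¹ * ⁅x, s⁆ := by simp only [commutatorElement_def]; group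
  rw [sq_of_cj h.el e, commutatorElement_one_left, ← h2, mul_inv_cancel_right] at h3
  exact h3.symm

theorem iv_le {e v : G} {K' : Subgroup G} (q : Bk A e K') (he : e ∈ Zb a K) (hv : v ∈ A ⊓ K)
    (h1 : v ∉ Zb a K) (h2 : v ∈ K') :
    IA A K ≤ IA A K' ∧ Mb A e K' ∧ A ⊓ Zb e K' = A ⊓ Zb a K := by
  obtain ⟨K₁, p₁, -, h3, -, h4⟩ := h.pumpM p ⟨q.mem, he⟩ q.inv.ne
  obtain rfl := q.act.eq_of_mem p₁.act.toCq h2 fun k => h1 (h4.le ⟨hv.1, k⟩).2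
  exact ⟨IA_le_iff.2 fun x hx g k => mem_IA (h3 (mem_IA ⟨hx, cent_le_cent1 (⟨q.mem, he⟩ :
    e ∈ A ⊓ Zb a K) (h.l2 p (mem_IA hx k))⟩ k)) k, p₁, h4⟩

theorem twin {e : G} (he : e ∈ A ⊓ Zb a K) (e1 : e ≠ 1) :
    ∃ K', Bk A e K' ∧ 𝐍(K') ≤ 𝐍(IA A K) := by
  obtain ⟨K', q, h1, -⟩ := h.pumpB p.toBk he e1
  obtain ⟨v, hv, h2⟩ := SetLike.not_le_iff_exists.1 (h.not_le p.toBk)
  obtain ⟨h3, q', h4⟩ := h.iv_le p q he.2 hv h2 (h1 hv)
  exact ⟨K', q, le_antisymm (h.iv_le q' p.toBk (h4.ge p.memZ).2 ⟨hv.1, h1 hv⟩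
    (fun k => h2 (h4.le ⟨hv.1, k⟩).2) hv.2).1 h3 ▸ norm_le_norm_IA A K'⟩

theorem l5 {D : Subgroup G} (ho : Odd 𝐨(D)) (hn : A ≤ 𝐍(D)) : D ≤ 𝐍(IA A K) := by
  obtain ⟨f, hf, v⟩ := h.st.exists_v4 (inf_le_left (b := Zb a K))
    (le_trans (by norm_num) (h.big a K p.toBk)) p.mem p.inv.ne
  have k : ∀ e ∈ A ⊓ Zb a K, e ≠ 1 → D ⊓ 𝐂[e] ≤ 𝐍(IA A K) := fun e he e1 => by
    obtain ⟨K', q, h1⟩ := h.twin p he e1
    exact (h.st.oddN q inf_le_right (P6.odd_of_le inf_le_left ho)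
      (H1.le_normalizer_inf hn (h.st.nC he.1))).trans h1
  exact P7.V4.le_of_cent v ho (hn p.mem) (hn hf.1) (k a p.memZ v.t1) (k f hf v.s1)
    (k _ (mul_mem p.memZ hf) v.ts1)

theorem l5' {c : G} (hc : c ∈ A) : Oc c ≤ 𝐍(IA A K) := h.l5 p (odd_Oc c) (h.st.nO hc)

theorem l6 {c : G} {K' : Subgroup G} (q : Bk A c K') : K' ≤ 𝐍(IA A K) := by
  obtain ⟨d, hd, d1⟩ := (bot_or_exists_ne_one _).resolve_left (h.meet _ _ _ _ p q)
  obtain ⟨K₁, q₁, h1⟩ := h.twin p hd.1 d1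
  exact (q.act.le_IA (h.not_le q) (le_inf inf_le_right (inf_le_left.trans (h.st.le_cent1 hd.1.1)))
    inf_le_left (h.st.cover1 q hd.2)).trans (sup_le ((IA_mono inf_le_right).trans
      (((h.laC hd.1.1 d1).nrm K₁ q₁.act.toCq).trans h1)) (h.l5' p q.mem))

theorem l8 : False := by
  have h0 : IA A K ≠ ⊥ := fun e => h.not_le p.toBk ((inf_le_IA A K).trans (e.le.trans bot_le))
  have h1 := h.sg.norm_ne h0 fun e => h.sg.cent_ne p.inv.ne
    (top_le_iff.1 (e.ge.trans ((IA_le A K).trans p.act.le)))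
  have h2 : ∀ U : Subgroup G, (∀ g ∈ 𝐍(A), U ^ᵍ g ≤ 𝐍(IA A K)) →
      U ≤ 𝐍((sSup {L | ∃ g ∈ 𝐍(A), L = IA A K ^ᵍ g} : Subgroup G)) := fun U hU =>
    H2.le_normalizer_sSup' (by
      rintro _ ⟨g, hg, rfl⟩
      rw [norm_conj, le_conj_iff]
      exact hU _ (inv_mem hg))
  refine h.sg.norm_ne (U := sSup {L | ∃ g ∈ 𝐍(A), L = IA A K ^ᵍ g}) (fun e => h0
    (sSup_eq_bot.1 e _ ⟨1, one_mem _, (conj_one _).symm⟩))
    (fun e => h1 (top_le_iff.1 (e.ge.trans (sSup_le ?_)))) (h.top _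
      (fun g hg => mem_norm_of_conj_le (conj_le_iff.2 (sSup_le ?_))) (fun c hc _ => h2 _
        fun g hg => Oc_conj c g ▸ h.l5' p (cjm hg hc)) fun c K' q => h2 _
          fun g hg => h.l6 p (q.cj hg))
  · rintro _ ⟨g, hg, rfl⟩
    exact (conj_mono (IA_le A K) g).trans (h.l6 p (p.toBk.cj hg))
  · rintro _ ⟨x, hx, rfl⟩
    exact conj_le_iff.1 (le_sSup ⟨_, mul_mem hg hx, conj_conj _ _ _⟩)

end Sit

end One

/-- Case I. -/
theorem iStmt : IStmt.{u} := by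
  intro G _ _ 𝒜 A S h a K p hI
  have st := One.st_of h
  have alt : ∀ g ∈ 𝐍(A), g ∉ 𝐍((A ⊓ Zb a K : Subgroup G)) → A ⊓ K ≤ (A ⊓ Zb a K) ^ᵍ g :=
    fun g hg k => by
      have := h.g1 p (p.toBk.cj hg) (by rw [B_conj K a hg]; exact hI g hg)
      rw [B_conj K a hg] at this
      exact this.resolve_left fun e =>
        k (conj_eq_self_iff.1 (eq_of_le_of_card_ge e (card_conj _ g).le).symm)
  have alt' : ∀ g ∈ 𝐍(A), ∀ v ∈ A ⊓ K, g * v * g⁻¹ ∉ A ⊓ Zb a K →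
      g ∈ 𝐍((A ⊓ Zb a K : Subgroup G)) := fun g hg v hv k => by
    by_contra e
    exact k (conj_le_iff.2 (alt _ (inv_mem hg) fun e' => e (inv_mem_iff.1 e')) (conj_mem_conj hv g))
  obtain ⟨g, hg, gB⟩ := SetLike.not_le_iff_exists.1 fun e => (h.irr _ inf_le_left e).elim
    (fun k => p.inv.ne (mem_bot.1 (k ▸ p.memZ))) fun k => p.act.act (k.ge.trans inf_le_right)
  obtain ⟨V, R, d⟩ := h.dc p.toBk
  have h1 := d.vle.trans (alt g hg gB)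
  have h2 : 2 * 𝐨(V) ≤ 𝐨((A ⊓ Zb a K : Subgroup G)) := by
    have h3 := H1.card_lt_of_lt (lt_of_le_of_ne h1 fun e => hI g hg (by
      rw [← e, inf_comm, d.inf_eq]))
    obtain ⟨m, hm⟩ := Subgroup.card_dvd_of_le h1
    rw [card_conj] at h3 hm
    rw [hm] at h3 ⊢
    rw [mul_comm]
    exact Nat.mul_le_mul_left _ (by by_contra k; interval_cases m <;> omega)
  have h3 := d.card h.el
  have h4 := d.four
  refine One.Sit.l8 (⟨h, by nlinarith, fun H k1 k2 k3 => ?_, fun c K' q => by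
    have := p.min c K' q
    omega, fun c K₁ c' K₂ q₁ q₂ e => ?_⟩ : One.Sit 𝒜 A S) p
  · by_contra k
    obtain ⟨v, hv, v1, -⟩ := exists_ne3 h4 1 1 1
    have vB : v ∉ A ⊓ Zb a K := fun e => v1 (d.disj v hv e)
    have h5 : g * v * g⁻¹ ∈ A ⊓ Zb a K := by
      by_contra e
      exact gB (alt' g hg v (d.vle hv) e)
    have h6 : v * (g * v * g⁻¹) ∉ A ⊓ Zb a K := fun e => vB ((mul_mem_cancel_right h5).1 e)
    obtain ⟨m, hm, e⟩ := h.se k k1 (fun a ha a1 => k2 a ha (st.inv ha a1)) k3 v (d.vA hv) v1 _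
      (mul_mem (d.vA hv) h5.1) fun e => h6 (e ▸ one_mem _)
    refine gB (inv_mem_iff.1 ((mul_mem_cancel_right (alt' m hm v (d.vle hv) (e ▸ h6))).1
      (alt' _ (mul_mem (inv_mem hg) hm) v (d.vle hv) fun k => vB ?_)))
    have h7 := conj_mem_conj k g
    rw [show g * (g⁻¹ * m * v * (g⁻¹ * m)⁻¹) * g⁻¹ = m * v * m⁻¹ by group, e,
      mul_mem_cancel_left (h1 hv), conj_mem_conj_iff] at h7
    exact h7
  · obtain ⟨x, hx, x1⟩ := st.meet (inf_le_left (b := Zb c K₁)) (inf_le_left (b := Zb c' K₂)) (by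
      have := p.min c K₁ q₁.toBk
      have := p.min c' K₂ q₂
      nlinarith)
    exact x1 (mem_bot.1 (e ▸ hx))

end Cfsg.Agent.P21
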