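/-
P21, Case II: the subgroups `B` of the minimal blocks form a trivial intersection family.
-/
import Cfsg.Agent.P21.G0

set_option autoImplicit false
set_option linter.unusedSectionVars false

namespace Cfsg.Agent.P21

open Subgroup Cfsg Cfsg.Agent Cfsg.Agent.FT
open Cfsg.Agent.P18 (sqs)
open Cfsg.Agent.P6 (Inv)
open Cfsg.Agent.P7 (Zc Zb cjm comm_mem_right comm_mem_left exists_ne3)
open scoped commutatorElement

universe u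

variable {G : Type u} [Group G] [Finite G]

namespace II

theorem noswap {P D : Subgroup G} (hP : IsSyl 2 P ⊤) (h : P ≤ D) {t : G} (h1 : t ∈ 𝐍(D))
    (h2 : t * t ∈ D) : t ∈ D := by
  have a1 : D.relIndex (zpowers t) ∣ 2 := relIndex_dvd_two_iff.2 ⟨t, mem_zpowers t, by
    rintro _ ⟨n, rfl⟩
    obtain ⟨k, rfl | rfl⟩ := Int.even_or_odd' n
    · exact Or.inr (by simpa only [zpow_mul, zpow_ofNat, pow_two] using D.zpow_mem h2 k)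
    · refine Or.inl ?_
      show t ^ (2 * k + 1) * t ∈ D
      rw [zpow_add_one, mul_assoc, zpow_mul, zpow_ofNat, pow_two]
      exact mul_mem (D.zpow_mem h2 k) h2⟩
  rcases (Nat.dvd_prime Nat.prime_two).1 a1 with e | e
  · exact relIndex_eq_one.1 e (mem_zpowers t)
  · refine ((hP.of_le (h.trans (le_sup_right (a := zpowers t))) le_top).ndvd ?_).elim
    rw [← H1.relIndex_sup_of_le_normalizer (zpowers_le.2 h1)] at e
    rw [← relIndex_mul_relIndex P D _ h le_sup_right, e]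
    exact dvd_mul_left _ _

theorem exists_fix {P V : Subgroup G} (hP : IsPGroup 2 P) (h1 : V ≤ P) (h2 : P ≤ 𝐍(V))
    (h3 : V ≠ ⊥) : ∃ v ∈ V, v ≠ 1 ∧ P ≤ 𝐂[v] := by
  obtain ⟨v, hv, v1⟩ := (bot_or_exists_ne_one _).resolve_left
    (inf_center_ne_bot (isNilpotent_of_isPGroup Nat.prime_two hP) ⟨h1, h2⟩ h3)
  exact ⟨v, hv.1, v1, mem_cent_iff_cent1.1 hv.2⟩

theorem conj_eq {s x : G} (h : s ∈ 𝐂[x]) : s * x * s⁻¹ = x := mem_cent1_iff_conj.1 h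

section Dc

variable {A K B V R : Subgroup G} (d : Dc A K B V R)
include d

theorem rB {σ b : G} (hσ : σ ∈ R) (hb : b ∈ B) : σ * b * σ⁻¹ = b := by
  rw [← (d.rle hσ).1.2 b hb, mul_inv_cancel_right]

theorem mv {σ w b : G} (hσ : σ ∈ R) (hb : b ∈ B) : σ * (w * b) * σ⁻¹ = σ * w * σ⁻¹ * b := by
  rw [← conj_mul, rB d hσ hb]

theorem act {σ x : G} (hσ : σ ∈ R) (hx : x ∈ A) : ⁅σ, x⁆ ∈ V := by
  obtain ⟨v, hv, b, hb, rfl⟩ := d.dec x hx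
  rw [commutatorElement_def, mv d hσ hb]
  simpa [mul_assoc] using V.mul_mem (cjm (d.rle hσ).2 hv) (V.inv_mem hv)

theorem vne : V ≠ ⊥ := fun e => d.not_le (e ▸ bot_le)

theorem dec' (el : IsElementaryAbelian 2 A) {U : Subgroup G} (hU : U ≤ A) (h1 : 𝐨(U) = 𝐨(B))
    (h2 : ∀ x ∈ U, x ∈ V → x = 1) {x : G} (hx : x ∈ A) : ∃ v ∈ V, ∃ u ∈ U, v * u = x := by
  have n : ∀ {X Y : Subgroup G}, X ≤ A → Y ≤ A → X ≤ 𝐍(Y) := fun h k =>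
    h.trans ((isMulComm_iff_le_cent.1 el.1).trans ((cent_anti k).trans (cent_le_norm _)))
  have e : V ⊔ U = A := eq_of_le_of_card_ge (sup_le d.vA hU) (by
    rw [H1.card_sup_of_inf_eq_bot (n d.vA hU) (eq_bot_iff.2 fun x hx => h2 x hx.2 hx.1), h1,
      d.card el])
  exact (mem_sup_of_norm (n hU d.vA)).1 (e.ge hx)

end Dc

/-- The situation of Case II. -/
structure T2 (𝒜 : Set G) (A S : Subgroup G) : Prop extends Gx 𝒜 A S where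
  sm : ∀ a K V R, Mb A a K → Dc A K (A ⊓ Zb a K) V R → 𝐨((A ⊓ Zb a K : Subgroup G)) ≤ 𝐨(V)

theorem card_eq {A K L : Subgroup G} {a c : G} (p : Mb A a K) (q : Mb A c L) :
    𝐨((A ⊓ Zb a K : Subgroup G)) = 𝐨((A ⊓ Zb c L : Subgroup G)) :=
  le_antisymm (p.min c L q.toBk) (q.min a K p.toBk)

namespace T2

variable {𝒜 : Set G} {A S : Subgroup G} (h : T2 𝒜 A S) {K L V R : Subgroup G} {a c : G}
include h

theorem ti (p : Mb A a K) (q : Mb A c L) {x : G} (h1 : x ∈ A ⊓ Zb a K) (h2 : x ∈ A ⊓ Zb c L)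
    (x1 : x ≠ 1) : A ⊓ Zb a K = A ⊓ Zb c L := by
  rcases h.g1 p q.toBk (fun e => x1 (mem_bot.1 (e ▸ mem_inf.2 ⟨h1, h2⟩))) with e | e
  · exact eq_of_le_of_card_ge e (card_eq p q).ge
  · obtain ⟨V, R, d⟩ := h.dc p.toBk
    have := eq_of_le_of_card_ge (d.vle.trans e) ((card_eq p q).ge.trans (h.sm a K V R p d))
    exact (x1 (d.disj x (this.ge h2) h1)).elim

theorem eqK (p : Mb A a K) (q : Mb A a L) : K = L := by
  by_contra e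
  exact h.not_le p.toBk ((le_inf inf_le_left (inf_le_right.trans
    (p.act.le_Z_of_ne q.act.toCq e))).trans
    ((h.ti p q p.memZ q.memZ p.inv.ne).ge.trans inf_le_right))

theorem vh (p : Mb A a K) (q : Mb A c L) (e : A ⊓ Zb a K = A ⊓ Zb c L) : A ⊓ K = A ⊓ L := by
  have key : ∀ {K L : Subgroup G} {a c : G}, Mb A a K → Mb A c L →
      A ⊓ Zb a K = A ⊓ Zb c L → A ⊓ K ≤ A ⊓ L := fun p q e => by
    obtain ⟨K', p', h1, -⟩ := h.pumpM p (e.ge q.memZ) q.inv.ne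
    exact le_inf inf_le_left (h.eqK p' q ▸ h1)
  exact le_antisymm (key p q e) (key q p e.symm)

theorem cjB (p : Mb A a K) (q : Mb A c L) {x g : G} (hx : x ∈ A ⊓ Zb a K) (x1 : x ≠ 1)
    (hg : g ∈ 𝐍(A)) (e : g * x * g⁻¹ ∈ A ⊓ Zb c L) : (A ⊓ Zb a K) ^ᵍ g = A ⊓ Zb c L := by
  rw [← B_conj K a hg]
  exact h.ti (p.cj hg) q (B_conj K a hg ▸ conj_mem_conj hx g) e (mt conj_eq_one_iff.1 x1)

theorem cjV (p : Mb A a K) (q : Mb A c L) {g : G} (hg : g ∈ 𝐍(A))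
    (e : (A ⊓ Zb a K) ^ᵍ g = A ⊓ Zb c L) : (A ⊓ K) ^ᵍ g = A ⊓ L := by
  rw [conj_inf, conj_eq_of_mem_norm hg]
  exact h.vh (p.cj hg) q ((B_conj K a hg).trans e)

theorem normK (p : Mb A a K) {g : G} (hg : g ∈ 𝐍(A)) (e : g ∈ 𝐂[a]) : g ∈ 𝐍(K) :=
  conj_eq_self_iff.1 (h.eqK (conj_eq e ▸ p.cj hg) p)

theorem vtype (p : Mb A a K) (d : Dc A K (A ⊓ Zb a K) V R) (q : Mb A c L)
    (ne : A ⊓ Zb a K ≠ A ⊓ Zb c L) {v : G} (hv : v ∈ V) (hv' : v ∈ A ⊓ Zb c L) (v1 : v ≠ 1) :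
    A ⊓ Zb c L ≤ V := by
  rw [← H1.commutator_sup_centralizer (A := R ⊓ 𝐍((A ⊓ Zb c L : Subgroup G))) inf_le_right
    (P7.cop_two_odd (h.sg.pg.to_le inf_le_left) (P6.odd_of_le inf_le_left d.odd)).symm
    (Or.inr (H1.isSolvable_of_isPGroup (h.sg.pg.to_le inf_le_left)))]
  refine sup_le (commutator_le.2 fun x hx σ hσ => ?_) fun y hy => ?_
  · rw [← commutatorElement_inv]
    exact inv_mem (act d hσ.1 hx.1)
  obtain ⟨w, hw, b, hb, rfl⟩ := d.dec y hy.1.1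
  by_contra k
  have b1 : b ≠ 1 := fun e => k (by rwa [e, mul_one])
  have n : ∀ u, u * b ∈ A ⊓ Zb c L → u ≠ 1 := fun u hu e =>
    ne (h.ti p q hb (by rwa [e, one_mul] at hu) b1)
  have m : v * w * b ∈ A ⊓ Zb c L := mul_assoc v w b ▸ mul_mem hv' hy.1
  obtain ⟨σ, hσ, e⟩ := d.tr w hw (n w hy.1) _ (mul_mem hv hw) (n _ m)
  have e' := mv d (w := w) hσ hb
  rw [e] at e'
  have := hy.2 σ ⟨hσ, conj_eq_self_iff.1 (h.cjB q q hy.1 (fun e => k (e ▸ one_mem V)) (d.rN hσ)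
    (e' ▸ m))⟩
  rw [this, mul_inv_cancel_right, mul_assoc] at e'
  exact v1 (by simpa using e')

theorem full (p : Mb A a K) {x : G} (hx : x ∈ A) : ∃ g ∈ 𝐍(A), x ∈ (A ⊓ Zb a K) ^ᵍ g := by
  obtain ⟨V, R, d⟩ := h.dc p.toBk
  have nV : ¬ 𝐍(A) ≤ 𝐍(V) := fun k => (h.irr V d.vA k).elim (vne d) fun e =>
    p.inv.ne (d.disj a (e.ge p.mem) p.memZ)
  have cv : ∀ x, (∃ g ∈ 𝐍(A), x ∈ (A ⊓ Zb a K) ^ᵍ g) → ∀ k ∈ 𝐍(A),
      ∃ g ∈ 𝐍(A), k * x * k⁻¹ ∈ (A ⊓ Zb a K) ^ᵍ g := fun x ⟨g, hg, e⟩ k hk =>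
    ⟨k * g, mul_mem hk hg, conj_conj _ k g ▸ conj_mem_conj e k⟩
  have cB : ∀ x ∈ A ⊓ Zb a K, ∃ g ∈ 𝐍(A), x ∈ (A ⊓ Zb a K) ^ᵍ g := fun x hx =>
    ⟨1, one_mem _, by rwa [conj_one]⟩
  have vt : ∀ v ∈ V, v ≠ 1 → (∃ g ∈ 𝐍(A), v ∈ (A ⊓ Zb a K) ^ᵍ g) → ∀ w ∈ V,
      ∃ g ∈ 𝐍(A), w ∈ (A ⊓ Zb a K) ^ᵍ g := fun v hv v1 k w hw => by
    rcases eq_or_ne w 1 with rfl | w1
    · exact cB 1 (one_mem _)
    obtain ⟨σ, hσ, rfl⟩ := d.tr v hv v1 w hw w1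
    exact cv v k σ (d.rN hσ)
  have gr : ∀ x, x ∉ V → x ∉ A ⊓ Zb a K → (∃ g ∈ 𝐍(A), x ∈ (A ⊓ Zb a K) ^ᵍ g) → ∀ y ∈ A, y ∉ V →
      ∃ g ∈ 𝐍(A), y ∈ (A ⊓ Zb a K) ^ᵍ g := fun x xV xB ⟨g, hg, e⟩ y hy yV => by
    by_cases yB : y ∈ A ⊓ Zb a K
    · exact cB y yB
    have q := p.cj hg
    rw [← B_conj K a hg] at e
    have ne : A ⊓ Zb a K ≠ _ := fun k => xB (k ▸ e)
    obtain ⟨w, hw, b, hb, rfl⟩ := d.dec y hy
    obtain ⟨u, hu, β, hβ, e'⟩ := dec' d h.el inf_le_left (card_eq q p) (fun z h1 h2 => by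
      by_contra z1
      exact xV (h.vtype p d q ne h2 h1 z1 e)) hb.1
    obtain ⟨σ, hσ, rfl⟩ := d.tr u⁻¹ (inv_mem hu) (fun k => ne (h.ti p q hb (by
      rwa [← e', inv_eq_one.1 k, one_mul]) fun k => yV (by rwa [k, mul_one]))) w hw
      fun k => yB (by rwa [k, one_mul])
    rw [← mv d hσ hb, ← e', inv_mul_cancel_left]
    exact cv β ⟨g, hg, B_conj K a hg ▸ hβ⟩ σ (d.rN hσ)
  by_cases c1 : ∀ w ∈ V, ∃ g ∈ 𝐍(A), w ∈ (A ⊓ Zb a K) ^ᵍ g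
  · by_cases c2 : ∀ y ∈ A, y ∉ V → ∃ g ∈ 𝐍(A), y ∈ (A ⊓ Zb a K) ^ᵍ g
    · exact (em (x ∈ V)).elim (c1 x) (c2 x hx)
    have k : ∀ g ∈ 𝐍(A), g ∉ 𝐍(V) → V ^ᵍ g = A ⊓ Zb a K := fun g hg gV => by
      refine eq_of_le_of_card_ge ((SubgroupClass.subset_union (K := V)).1 ?_ |>.resolve_left
        fun k => gV (mem_norm_of_conj_le k)) (by rw [card_conj]; exact h.sm a K V R p d)
      rintro _ ⟨v, hv, rfl⟩
      by_contra k
      rw [Set.mem_union, not_or] at k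
      exact c2 (gr _ k.1 k.2 (cv v (c1 v hv) g hg))
    obtain ⟨t, ht, tV⟩ := SetLike.not_le_iff_exists.1 nV
    refine (h.sg.no2 (U := 𝐍(V)) (((Nat.dvd_prime Nat.prime_two).1 (relIndex_dvd_two_iff.2
      ⟨t, ht, fun g hg => or_iff_not_imp_right.2 fun gV => ?_⟩)).resolve_left fun e =>
      nV (relIndex_eq_one.1 e))).elim
    rw [← conj_eq_self_iff, ← conj_conj, k t ht tV, ← k g⁻¹ (inv_mem hg) (by rwa [inv_mem_iff]),
      conj_conj, mul_inv_cancel, conj_one]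
  · have c1' : ∀ v ∈ V, (∃ g ∈ 𝐍(A), v ∈ (A ⊓ Zb a K) ^ᵍ g) → v = 1 := fun v hv k => by
      by_contra v1
      exact c1 (vt v hv v1 k)
    obtain ⟨t, ht, tB⟩ := SetLike.not_le_iff_exists.1 fun k => (h.irr (A ⊓ Zb a K) inf_le_left
      k).elim (fun e => p.inv.ne (mem_bot.1 (e ▸ p.memZ))) fun e => p.act.act (inf_eq_left.1 e)
    have m := cv a (cB a p.memZ) t ht
    have c2 := gr _ (fun k => p.inv.ne (conj_eq_one_iff.1 (c1' _ k m))) (fun k =>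
      tB (conj_eq_self_iff.1 (h.cjB p p p.memZ p.inv.ne ht k))) m
    refine (nV fun g hg => mem_norm_of_conj_le ?_).elim
    rintro _ ⟨v, hv, rfl⟩
    by_contra k
    have := cv _ (c2 _ (cjm hg (d.vA hv)) k) g⁻¹ (inv_mem hg)
    rw [show g⁻¹ * (g * v * g⁻¹) * g⁻¹⁻¹ = v by group] at this
    exact k (by rw [c1' v hv this, map_one]; exact one_mem V)

theorem exM (p : Mb A a K) {x : G} (hx : x ∈ A) (x1 : x ≠ 1) : ∃ L, Mb A x L := by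
  obtain ⟨g, hg, e⟩ := h.full p hx
  obtain ⟨L, q, -⟩ := h.pumpM (p.cj hg) (B_conj K a hg ▸ e) x1
  exact ⟨L, q⟩

theorem rel (p : Mb A a K) (q : Mb A c L) :
    ∃ g ∈ 𝐍(A), (A ⊓ Zb a K) ^ᵍ g = A ⊓ Zb c L ∧ (A ⊓ K) ^ᵍ g = A ⊓ L := by
  obtain ⟨g, hg, x, hx, e⟩ := h.full p q.mem
  have := h.cjB p q hx (fun k => q.inv.ne (by rw [← e, k, map_one])) hg (e ▸ q.memZ)
  exact ⟨g, hg, this, h.cjV p q hg this⟩

theorem tyB (p : Mb A a K) : SzB A 𝐂[a] K ∨ AbB A 𝐂[a] K := (h.lbC p.mem p.inv.ne).ty K p.act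

theorem disj (p : Mb A a K) {v : G} (hv : v ∈ A ⊓ K) (hb : v ∈ A ⊓ Zb a K) : v = 1 := by
  have sz : ∀ {c : G} {L : Subgroup G}, Mb A c L → v ≠ 1 → SzB A 𝐂[c] L := fun q v1 =>
    (h.tyB q).resolve_right fun k => by
      obtain ⟨g, -, e1, e2⟩ := h.rel p q
      have m1 := e1.le (conj_mem_conj hb g)
      exact v1 (conj_eq_one_iff.1 (P7.eq_one_of_two_odd h.sg.pg (P6.odd_Od _) m1.1
        (k.disj ⟨(e2.le (conj_mem_conj hv g)).2, m1.2⟩)))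
  by_contra v1
  refine v1 (mem_bot.1 ((h.lbC p.mem p.inv.ne).zz K p.act (fun τ hτ t2 x hx => ?_) ▸
    mem_inf.2 ⟨hv, hb.2⟩))
  obtain ⟨w, hw, wB, e⟩ := (h.lbC p.mem p.inv.ne).fix K p.act τ hτ t2
  obtain ⟨L, q⟩ := h.exM p hw fun k => wB (k ▸ one_mem _)
  by_contra k
  have m := comm_mem_left hτ.2 hx
  exact wB ((h.ti p q ⟨m, (sz p v1).comm τ ⟨⟨p.act.le hτ.1, le_normalizer hτ.1⟩, hτ.2⟩ t2 x hx⟩
    ⟨m, (sz q v1).comm τ ⟨⟨e, h.normK q hτ.2 e⟩, hτ.2⟩ t2 x hx⟩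
    (mt commutatorElement_eq_one_iff_mul_comm.1 k)).ge q.memZ).2

theorem dcV (p : Mb A a K) : ∃ R, Dc A K (A ⊓ Zb a K) (A ⊓ K) R := by
  obtain ⟨V, R, d⟩ := h.dc p.toBk
  refine ⟨R, le_antisymm d.vle (fun x hx => ?_) ▸ d⟩
  obtain ⟨v, hv, b, hb, rfl⟩ := d.dec x hx.1
  rwa [h.disj p ((mul_mem_cancel_left (d.vle hv)).1 hx) hb, mul_one]

theorem pair (p : Mb A a K) : ∃ (a c : G) (K L : Subgroup G), Mb A a K ∧ Mb A c L ∧ c ∈ K ∧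
    S ≤ 𝐂[a] ⊓ 𝐂[c] := by
  obtain ⟨a, ha, a1, e⟩ := exists_fix h.syl.pgrp h.le h.sg.nrm h.ne
  obtain ⟨K, p⟩ := h.exM p ha a1
  obtain ⟨R, d⟩ := h.dcV p
  obtain ⟨c, hc, c1, e'⟩ := exists_fix h.syl.pgrp (d.vA.trans h.le) (H1.le_normalizer_inf h.sg.nrm
    fun s hs => h.normK p (h.sg.nrm hs) (e hs)) (vne d)
  obtain ⟨L, q⟩ := h.exM p hc.1 c1
  exact ⟨a, c, K, L, p, q, hc.2, le_inf e e'⟩

theorem two (p : Mb A a K) {x : G} (hx : x ∈ A ⊓ Zb a K) (x1 : x ≠ 1) : x = a := by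
  obtain ⟨a₁, c, K₁, L, p₁, q, hc, hS⟩ := h.pair p
  suffices k : ∀ y ∈ A ⊓ Zb c L, y ≠ 1 → y = c by
    obtain ⟨g, -, e, -⟩ := h.rel p q
    have := (k _ (e.le (conj_mem_conj hx g)) (mt conj_eq_one_iff.1 x1)).trans
      (k _ (e.le (conj_mem_conj p.memZ g)) (mt conj_eq_one_iff.1 p.inv.ne)).symm
    simpa using this
  clear hx x1 p
  obtain ⟨R, d⟩ := h.dcV p₁
  obtain ⟨R', d'⟩ := h.dcV q
  have ne : A ⊓ Zb a₁ K₁ ≠ A ⊓ Zb c L := fun e =>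
    q.inv.ne (h.disj p₁ ⟨q.mem, hc⟩ (e.ge q.memZ))
  have le := h.vtype p₁ d q ne ⟨q.mem, hc⟩ q.memZ q.inv.ne
  have gr : ∀ z ∈ A ⊓ Zb a₁ K₁, z ∈ A ⊓ L → z = 1 := fun z h1 h2 => by
    by_contra z1
    obtain ⟨g, hg, e1, e2⟩ := h.rel p₁ q
    have m := h.vtype q d' p₁ ne.symm h2 h1 z1 p₁.memZ
    rw [← e2, mem_conj] at m
    obtain ⟨σ, hσ, e⟩ := d.tr c ⟨q.mem, hc⟩ q.inv.ne _ m (p₁.inv.conj' g).ne
    have ht := mul_mem hg (d.rN hσ)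
    have t1 : (A ⊓ Zb a₁ K₁) ^ᵍ (g * σ) = A ⊓ Zb c L := by
      rw [← conj_conj, conj_eq_of_mem_norm (cent_le_norm _ (d.rle hσ).1.2), e1]
    have t2 : (A ⊓ Zb c L) ^ᵍ (g * σ) = A ⊓ Zb a₁ K₁ := h.cjB q p₁ q.memZ q.inv.ne ht (by
      rw [show g * σ * c * (g * σ)⁻¹ = g * (σ * c * σ⁻¹) * g⁻¹ by group, e]
      simpa [mul_assoc] using p₁.memZ)
    have := noswap (D := 𝐍((A ⊓ Zb a₁ K₁ : Subgroup G)) ⊓ 𝐍((A ⊓ Zb c L : Subgroup G))) h.syl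
      (fun s hs => ⟨conj_eq_self_iff.1 (h.cjB p₁ p₁ p₁.memZ p₁.inv.ne (h.sg.nrm hs)
        ((conj_eq (hS hs).1).symm ▸ p₁.memZ)), conj_eq_self_iff.1 (h.cjB q q q.memZ q.inv.ne
        (h.sg.nrm hs) ((conj_eq (hS hs).2).symm ▸ q.memZ))⟩) (t := g * σ)
      (conj_eq_self_iff.1 (by rw [conj_inf, ← norm_conj, ← norm_conj, t1, t2, inf_comm]))
      ⟨conj_eq_self_iff.1 (by rw [← conj_conj, t1, t2]),
        conj_eq_self_iff.1 (by rw [← conj_conj, t2, t1])⟩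
    exact ne ((conj_eq_self_iff.2 this.1).symm.trans t1)
  intro y hy y1
  obtain ⟨σ, hσ, e⟩ := d.tr y (le hy) y1 c ⟨q.mem, hc⟩ q.inv.ne
  have n1 := h.cjB q q hy y1 (d.rN hσ) (e ▸ q.memZ)
  have n2 := conj_eq_self_iff.1 (h.cjV q q (d.rN hσ) n1)
  obtain ⟨w, hw, β, hβ, rfl⟩ := dec' d' h.el inf_le_left (card_eq p₁ q) gr hy.1
  have := d'.disj ⁅σ, w * β⁆ (by
    rw [commutatorElement_def, mv d hσ hβ]
    simpa [mul_assoc] using (A ⊓ L).mul_mem (cjm n2 hw) (inv_mem hw))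
    (comm_mem_right (conj_eq_self_iff.1 n1) hy)
  rw [← e, commutatorElement_eq_one_iff_mul_comm.1 this, mul_inv_cancel_right]

theorem trans (p : Mb A a K) {x : G} (hx : x ∈ A) (x1 : x ≠ 1) : ∃ g ∈ 𝐍(A), g * a * g⁻¹ = x := by
  obtain ⟨g, hg, y, hy, rfl⟩ := h.full p hx
  exact ⟨g, hg, by rw [h.two p hy fun k => x1 (by rw [k, map_one])]; rfl⟩

theorem sylow (p : Mb A a K) {x y : G} (hx : x ∈ A) (hy : y ∈ A) (x1 : x ≠ 1) (y1 : y ≠ 1)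
    (ne : x ≠ y) : ∃ P, IsSyl 2 P ⊤ ∧ P ≤ 𝐂[x] ⊓ 𝐂[y] := by
  obtain ⟨a, c, K, L, p, q, hc, hS⟩ := h.pair p
  obtain ⟨R, d⟩ := h.dcV p
  obtain ⟨g, hg, rfl⟩ := h.trans p hx x1
  obtain ⟨w, hw, b, hb, e⟩ := d.dec _ (cjm (inv_mem hg) hy)
  obtain rfl : g * (w * b) * g⁻¹ = y := by rw [e]; group
  obtain ⟨σ, hσ, rfl⟩ := d.tr c ⟨q.mem, hc⟩ q.inv.ne w hw fun k => by
    rw [k, one_mul] at ne y1
    exact ne (by rw [h.two p hb (mt conj_eq_one_iff.2 y1)])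
  refine ⟨S ^ᵍ (g * σ), conj_top (g * σ) ▸ h.syl.conj _, ?_⟩
  rw [← mv d hσ hb, ← rB d hσ p.memZ, cent1_conj, cent1_conj, cent1_conj, cent1_conj, ← conj_inf,
    ← conj_inf, conj_conj]
  refine conj_mono (le_inf (hS.trans inf_le_left) fun s hs => ?_) _
  have : s ∈ 𝐂[b] := by
    rcases eq_or_ne b 1 with rfl | b1
    · exact mem_cent1.2 (by simp)
    · exact h.two p hb b1 ▸ (hS hs).1
  rw [mem_cent1_iff_conj, ← conj_mul, conj_eq this, conj_eq (hS hs).2]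

theorem cen (p : Mb A a K) (k : ℕ) : ∀ s ∈ 𝐍(A), s ^ 2 ^ k = 1 → s ∈ 𝐂(A) := by
  induction k with
  | zero => exact fun s _ e => by rw [show s = 1 by simpa using e]; exact one_mem _
  | succ k ih =>
    intro s hs e x hx
    have h2 := ih (s * s) (mul_mem hs hs) (by rwa [← pow_two, ← pow_mul, ← pow_succ'])
    by_contra n
    have x1 : x ≠ 1 := fun k => n (by simp [k])
    obtain ⟨P, hP, hc⟩ := h.sylow p hx (cjm hs hx) x1 (mt conj_eq_one_iff.1 x1)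
      fun k => n (eq_mul_inv_iff_mul_eq.1 k)
    refine n (mem_cent1.1 (noswap hP hc (conj_eq_self_iff.1 ?_)
      ⟨cent_le_cent1 hx h2, cent_le_cent1 (cjm hs hx) h2⟩).1)
    rw [conj_inf, ← cent1_conj, ← cent1_conj, inf_comm,
      show s * (s * x * s⁻¹) * s⁻¹ = s * s * x * (s * s)⁻¹ by group, conj_eq (cent_le_cent1 hx h2)]

theorem cenS (p : Mb A a K) : S ≤ 𝐂(A) := fun s hs =>
  (Two.of_mem h.syl.pgrp hs).elim fun k e => h.cen p k s (h.sg.nrm hs) e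

theorem cardB (p : Mb A a K) : 𝐨((A ⊓ Zb a K : Subgroup G)) = 2 := by
  rw [← p.inv.card_zpowers]
  refine congrArg (fun U : Subgroup G => 𝐨(U)) (le_antisymm (fun x hx => ?_) (zpowers_le.2 p.memZ))
  rcases eq_or_ne x 1 with rfl | x1
  · exact one_mem _
  · exact h.two p hx x1 ▸ mem_zpowers x

theorem small (p : Mb A a K) : 𝐨(A) ≤ 8 := by
  obtain ⟨R, d⟩ := h.dcV p
  have hc := h.cenS p
  have s1 := h.syl.of_le (le_inf h.sg.nrm le_normalizer) le_top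
  have ho : Odd (S.relIndex (𝐍(A) ⊓ 𝐍(S))) :=
    Nat.not_even_iff_odd.1 fun k => s1.ndvd (even_iff_two_dvd.1 k)
  obtain ⟨D, d1, d2, -, d3⟩ := H1.exists_complement_of_coprime s1.le inf_le_right
    (H1.coprime_card_of_isPGroup s1.pgrp (Nat.coprime_two_right.2 ho)).symm
  have DN : D ≤ 𝐍(A) := d1.trans inf_le_left
  have hk : ∀ g ∈ 𝐍(A), ∃ r ∈ D, ∀ x ∈ A, r * x * r⁻¹ = g * x * g⁻¹ := fun g hg => by
    rw [← (h.syl.of_le hc le_top).frattini Nat.prime_two ⟨cent_le_norm A, P14.norm_cent⟩, ← d2,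
      sup_comm D, ← sup_assoc, sup_eq_left.2 hc] at hg
    obtain ⟨z, hz, r, hr, rfl⟩ := (mem_sup_of_norm (DN.trans P14.norm_cent)).1 hg
    refine ⟨r, hr, fun x hx => ?_⟩
    rw [show z * r * x * (z * r)⁻¹ = z * (r * x * r⁻¹) * z⁻¹ by group,
      conj_eq (cent_le_cent1 (cjm (DN hr) hx) hz)]
  have g : P6.GL1 A D := ⟨h.el, h.ne, DN, d3 ▸ ho, fun x hx x1 y hy y1 => by
    obtain ⟨g, hg, rfl⟩ := h.trans p hx x1
    obtain ⟨k, hk', rfl⟩ := h.trans p hy y1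
    obtain ⟨r, hr, e⟩ := hk _ (mul_mem hk' (inv_mem hg))
    exact ⟨r, hr, by rw [e _ hx]; group⟩⟩
  have hH : ∀ σ ∈ R, ∃ r ∈ D ⊓ 𝐂((A ⊓ Zb a K : Subgroup G)), ∀ x ∈ A, r * x * r⁻¹ = σ * x * σ⁻¹ :=
    fun σ hσ => by
    obtain ⟨r, hr, e⟩ := hk σ (d.rN hσ)
    exact ⟨r, ⟨hr, fun x hx => (mul_inv_eq_iff_eq_mul.1 ((e x hx.1).trans (rB d hσ hx))).symm⟩, e⟩
  have e := g.card_eq_pow (R := D ⊓ 𝐂((A ⊓ Zb a K : Subgroup G))) inf_le_left p.mem p.inv.ne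
    (inf_le_right.trans (cent_le_cent1 p.memZ))
  rw [show A ⊓ 𝐂((D ⊓ 𝐂((A ⊓ Zb a K : Subgroup G)) : Subgroup G)) = A ⊓ Zb a K from
    le_antisymm (fun z hz => by
      obtain ⟨v, hv, b, hb, rfl⟩ := d.dec z hz.1
      by_contra k
      obtain ⟨w, hw, w1, wv, -⟩ := exists_ne3 d.four 1 v 1
      obtain ⟨σ, hσ, rfl⟩ := d.tr v hv (fun e => k (by rwa [e, one_mul])) w hw w1
      obtain ⟨r, hr, e⟩ := hH σ hσ
      have e1 := e _ hz.1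
      rw [hz.2 r hr, mul_inv_cancel_right, mv d hσ hb] at e1
      exact wv (mul_right_cancel e1).symm)
      (le_inf inf_le_left (cent_comm.1 inf_le_right)), h.cardB p] at e
  obtain ⟨v, hv, v1, -⟩ := exists_ne3 d.four 1 1 1
  have h1 := Set.ncard_le_ncard (show ((A ⊓ K : Subgroup G) : Set G) ⊆ insert 1
      {c | ∃ y ∈ D ⊓ 𝐂((A ⊓ Zb a K : Subgroup G)), y * v * y⁻¹ = c} from fun w hw =>
      (eq_or_ne w 1).imp_right fun w1 => by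
    obtain ⟨σ, hσ, rfl⟩ := d.tr v hv v1 w hw w1
    obtain ⟨r, hr, e⟩ := hH σ hσ
    exact ⟨r, hr, e v hv.1⟩)
  have h2 := h1.trans (Set.ncard_insert_le _ _)
  rw [P6.ncard_class, ← Nat.card_coe_set_eq] at h2
  have h3 : 𝐨((A ⊓ K : Subgroup G)) ≤ 𝐂(A).relIndex (D ⊓ 𝐂((A ⊓ Zb a K : Subgroup G))) + 1 :=
    h2.trans (Nat.succ_le_succ
      (relIndex_le_of_le_left (cent_le_cent1 hv.1) (FiniteIndex.index_ne_zero)))
  have h4 := d.card h.el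
  rw [h.cardB p] at h4
  generalize 𝐂(A).relIndex (D ⊓ 𝐂((A ⊓ Zb a K : Subgroup G))) = n at *
  by_contra k
  obtain ⟨n, rfl⟩ : ∃ j, n = j + 3 := ⟨n - 3, by omega⟩
  have h7 : n < 2 ^ n := n.lt_two_pow_self
  rw [pow_add] at e
  omega

theorem good (p : Mb A a K) : Good A S := by
  have ab := (h.tyB p).resolve_left fun k => by
    have := k.eight.trans (h.small p)
    rw [h.cardB p] at this
    omega
  have hc := h.cenS p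
  refine h.good_of hc (fun s hs => ?_) p.act.act
  have m := cent_le_cent1 p.mem (hc hs)
  obtain ⟨v, hv, e⟩ := ab.inner s ⟨⟨m, h.normK p (h.sg.nrm hs) m⟩, hc hs⟩ (Two.of_mem h.syl.pgrp hs)
  have := mul_mem e e
  rwa [mul_assoc, ← mul_assoc s, ← hc hs v hv.1, mul_assoc, ← mul_assoc, h.sg.sq hv.1,
    one_mul] at this

end T2

end II

theorem iiStmt : IIStmt.{u} := by
  intro G _ _ 𝒜 A S h a K p g hg e
  refine II.T2.good ⟨h, fun c L V R q d => ?_⟩ p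
  have h1 := card_le_of_le (sup_le inf_le_left ((conj_mono inf_le_left g).trans
    (conj_eq_of_mem_norm hg).le) : (A ⊓ Zb a K) ⊔ (A ⊓ Zb a K) ^ᵍ g ≤ A)
  rw [H1.card_sup_of_inf_eq_bot (inf_le_left.trans (h.sg.cc.trans ((cent_anti ((conj_mono
    inf_le_left g).trans (conj_eq_of_mem_norm hg).le)).trans (cent_le_norm _)))) e, card_conj,
    d.card h.el, II.card_eq p q] at h1
  exact Nat.le_of_mul_le_mul_right h1 Nat.card_pos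

end Cfsg.Agent.P21
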