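/-
P21, chapter LA: groups with trivial odd core.
-/
import Cfsg.Agent.P21.Defs
import Cfsg.Agent.P18.BL
import Cfsg.Agent.P18.B0a

set_option autoImplicit false
set_option linter.unusedSectionVars false
set_option linter.style.haveILetI false

namespace Cfsg.Agent.P21.LA

open Subgroup Cfsg Cfsg.Agent Cfsg.Agent.FT Cfsg.Agent.P14
open Cfsg.Agent.H2 (CompIn)
open Cfsg.Agent.P6 (Inv Od)
open Cfsg.Agent.P7 (AS)
open scoped commutatorElement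

universe u

variable {G : Type u} [Group G] [Finite G]

theorem four_le {V : Subgroup G} (hV : IsPGroup 2 V) {v w : G} (hv : v ∈ V) (hw : w ∈ V)
    (v1 : v ≠ 1) (w1 : w ≠ 1) (e : v ≠ w) : 4 ≤ 𝐨(V) := by
  classical
  haveI := Fintype.ofFinite V
  have h3 : 2 < 𝐨(V) := by
    rw [Nat.card_eq_fintype_card, Fintype.two_lt_card_iff]
    exact ⟨1, ⟨v, hv⟩, ⟨w, hw⟩, fun k => v1 (congrArg Subtype.val k).symm,
      fun k => w1 (congrArg Subtype.val k).symm, fun k => e (congrArg Subtype.val k)⟩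
  obtain ⟨k, hk⟩ := exists_card_eq_pow Nat.prime_two hV
  rw [hk] at h3 ⊢
  exact Nat.pow_le_pow_right two_pos ((Nat.pow_lt_pow_iff_right one_lt_two (n := 1)).1 h3)

/-- The common properties of the two types of components. -/
structure UT (K T Zh : Subgroup G) : Prop where
  syl : IsSyl 2 T K
  zh : ∀ x, x ∈ Zh ↔ x ∈ T ∧ x * x ∈ 𝐂(K)
  cen : ⁅T, Zh⁆ ≤ 𝐂(K)
  ex2 : ∃ x ∈ Zh, x ∉ 𝐂(K) ∧ ∃ y ∈ Zh, y ∉ 𝐂(K) ∧ x⁻¹ * y ∉ 𝐂(K)
  tr : ∀ x ∈ Zh, x ∉ 𝐂(K) → ∀ y ∈ Zh, y ∉ 𝐂(K) →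
    ∃ d ∈ K ⊓ 𝐍(T), Odd (orderOf d) ∧ (d * x * d⁻¹)⁻¹ * y ∈ 𝐂(K)

theorem ut_sz {K T Zh : Subgroup G} {n r : ℕ} (z : SzT K T Zh n r) : UT K T Zh := by
  refine ⟨z.syl, z.zh, z.cen, ?_, z.trZ⟩
  obtain ⟨x, hx, hx'⟩ := z.exZ
  refine ⟨x, hx, hx', ?_⟩
  by_contra hc
  push Not at hc
  have h1 : 𝐂(K).relIndex Zh ≤ 2 := by
    rw [relIndex, index]
    have : ∀ a : Zh ⧸ 𝐂(K).subgroupOf Zh, a = ((1 : Zh) : _) ∨ a = ((⟨x, hx⟩ : Zh) : _) := fun a => by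
      obtain ⟨y, rfl⟩ := QuotientGroup.mk_surjective a
      by_cases e : (y : G) ∈ 𝐂(K)
      · exact Or.inl (QuotientGroup.eq.2 (by simpa [mem_subgroupOf] using e))
      · exact Or.inr (Eq.symm (QuotientGroup.eq.2 (mem_subgroupOf.2 (hc y y.2 e))))
    refine (Nat.card_le_card_of_surjective (fun b : Bool => if b then ((1 : Zh) : Zh ⧸ _) else
      ((⟨x, hx⟩ : Zh) : _)) fun a => ?_).trans (by simp)
    rcases this a with rfl | rfl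
    exacts [⟨true, rfl⟩, ⟨false, rfl⟩]
  have h2 := z.cardZ
  have h3 : 2 ^ 3 ≤ 2 ^ n := Nat.pow_le_pow_right two_pos z.three
  omega

theorem ab_sq {K T : Subgroup G} (z : AbT K T) {x : G} (hx : x ∈ T) : x * x = 1 := by
  rw [← pow_two]; exact z.el.2 x hx

theorem ab_as {K T : Subgroup G} (z : AbT K T) : AS T K := ⟨z.syl, isMulComm_iff_le_cent.1 z.el.1⟩

theorem ab_not {K T : Subgroup G} (z : AbT K T) {x : G} (hx : x ∈ K) : x ∉ 𝐂(K) ↔ x ≠ 1 :=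
  ⟨fun h e => h (e ▸ one_mem _), fun h e => h (z.cen.le ⟨hx, e⟩)⟩

theorem ut_ab {K T : Subgroup G} (z : AbT K T) (ns : ¬ Group.IsSolvable K) : UT K T T := by
  have a := ab_as z
  refine ⟨z.syl, fun x => ⟨fun h => ⟨h, ab_sq z h ▸ one_mem _⟩, (·.1)⟩,
    (comm_eq_bot_iff.2 a.ab).le.trans bot_le, ?_, fun x hx hx' y hy hy' => ?_⟩
  · by_contra hc
    push Not at hc
    refine ns (a.solv_of_nc fun g hg t ht => ?_)
    by_cases e : t = 1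
    · simp [e]
    have h1 := cjm hg.2 ht
    have := hc t ht ((ab_not z (a.le ht)).2 e) _ h1 ((ab_not z (a.le h1)).2 (by simpa using e))
    have := z.cen.le ⟨a.le (mul_mem (inv_mem ht) h1), this⟩
    rw [mem_bot, inv_mul_eq_one] at this
    rw [eq_mul_inv_iff_mul_eq.1 this]
  · obtain ⟨g, hg, e⟩ := z.gd.cj x (a.le hx) y (a.le hy)
      ⟨(ab_not z (a.le hx)).1 hx', ab_sq z hx⟩ ⟨(ab_not z (a.le hy)).1 hy', ab_sq z hy⟩
    obtain ⟨k, hk, e'⟩ := a.fusion hx hg (e ▸ hy)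
    obtain ⟨R, ho, hR, hd⟩ := a.exists_compl
    obtain ⟨r, hr, s, hs, rfl⟩ := hd k hk
    refine ⟨r, hR hr, odd_of_mem ho hr, ?_⟩
    rw [← e, ← e', show r * s * x * (r * s)⁻¹ = r * (s * x * s⁻¹) * r⁻¹ by group, a.comm hs hx,
      mul_inv_cancel_right, inv_mul_cancel]
    exact one_mem _

/-- A 2-element that centralizes `T` is inner. -/
theorem ab_dec {K T : Subgroup G} (z : AbT K T) (ns : ¬ Group.IsSolvable K) {x : G} {k : ℕ}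
    (hx : x ^ 2 ^ k = 1) (h1 : x ∈ 𝐍(K)) (h2 : x ∈ 𝐂(T)) : ∃ s ∈ T, ∃ c ∈ 𝐂(K), s * c = x := by
  have a := ab_as z
  have n1 : zpowers x ≤ 𝐍(K) := zpowers_le.2 h1
  have c1 : T ⊔ zpowers x ≤ 𝐂((T ⊔ zpowers x : Subgroup G)) := by
    rw [cent_sup]
    exact le_inf (sup_le a.ab (zpowers_le.2 h2)) (sup_le (cent_comm.1 (zpowers_le.2 h2))
      (by rw [cent_zpowers]; exact zpowers_le.2 (self_mem_cent1 x)))
  have p1 : IsPGroup 2 (T ⊔ zpowers x : Subgroup G) :=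
    isPGroup_sup a.two (two_zp hx) ((cent_comm.1 (zpowers_le.2 h2)).trans (cent_le_norm _))
  obtain ⟨S, hS, hl⟩ := exists_isSyl_ge Nat.prime_two p1 (sup_le_sup_right a.le (zpowers x))
  have e1 : S ⊓ K = T := z.syl.eq_of_le Nat.prime_two (le_inf (le_sup_left.trans hl) a.le)
    inf_le_right (hS.pgrp.to_le inf_le_left)
  have e2 : S = T ⊔ zpowers x := le_antisymm (fun s hs => by
    obtain ⟨u, hu, y, hy, rfl⟩ := (mem_sup_of_norm n1).1 (hS.le hs)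
    exact mul_mem_sup (e1.le ⟨(S.mul_mem_cancel_right (hl (mem_sup_right hy))).1 hs, hu⟩) hy) hl
  have a' : AS S (K ⊔ zpowers x) := ⟨hS, e2 ▸ c1⟩
  obtain ⟨v, hv, b, hb, e⟩ := a'.inner le_sup_left (hS.le.trans (sup_le (le_norm_self K) n1))
    z.simple ns (hl (mem_sup_right (mem_zpowers x)))
  exact ⟨v, e1 ▸ hv, b, hb.2, e⟩

namespace UT

variable {K T Zh : Subgroup G} (z : UT K T Zh)
include z

theorem zle : Zh ≤ T := fun x hx => ((z.zh x).1 hx).1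

theorem exT : ∃ s ∈ T, s ∉ 𝐂(K) := z.ex2.elim fun x h => ⟨x, z.zle h.1, h.2.1⟩

/-- Some member of the class acts nontrivially. -/
theorem exA {𝒜 : Set G} (ga : GA 𝒜) : ∃ s ∈ 𝒜, s ∈ T ∧ s ∉ 𝐂(K) := by
  by_contra hc
  push Not at hc
  obtain ⟨x, hx, hx', y, hy, hy', e⟩ := z.ex2
  obtain ⟨d, hd, ho, e'⟩ := z.tr x hx hx' y hy hy'
  have := ga.odd T z.syl.pgrp d hd.2 ho fun a ha hT => mem_cent1.2 (hc a ha hT d hd.1).symm
  rw [← this x (z.zle hx), mul_inv_cancel_right] at e'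
  exact e e'

theorem compl : ∃ R : Subgroup G, Odd 𝐨(R) ∧ R ≤ K ⊓ 𝐍(T) ∧ ∀ x ∈ Zh, x ∉ 𝐂(K) → ∀ y ∈ Zh,
    y ∉ 𝐂(K) → ∃ d ∈ R, (d * x * d⁻¹)⁻¹ * y ∈ 𝐂(K) := by
  have h1 := z.syl.of_le (le_inf z.syl.le le_normalizer) (inf_le_left (b := 𝐍(T)))
  have ho : Odd (T.relIndex (K ⊓ 𝐍(T))) :=
    Nat.not_even_iff_odd.1 fun k => h1.ndvd (even_iff_two_dvd.1 k)
  obtain ⟨R, hR⟩ := exists_sdProd_of_hall (K := T) (M := K ⊓ 𝐍(T)) ⟨h1.le, by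
    obtain ⟨n, hn⟩ := z.syl.pgrp.exists_card_eq
    rw [hn]
    exact (Nat.coprime_two_left.2 ho).pow_left n⟩ inf_le_right
  refine ⟨R, hR.relIndex_left ▸ ho, hR.le_right, fun x hx hx' y hy hy' => ?_⟩
  obtain ⟨d, hd, -, e⟩ := z.tr x hx hx' y hy hy'
  obtain ⟨r, hr, s, hs, rfl⟩ := hR.mem_iff'.1 hd
  refine ⟨r, hr, ?_⟩
  have c1 : x⁻¹ * ⁅s, x⁆ * x⁻¹⁻¹ ∈ 𝐂(K) :=
    cjm (norm_cent (le_norm_self K (inv_mem (z.syl.le (z.zle hx)))))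
      (z.cen (commutator_mem_commutator hs hx))
  have c2 := mul_mem (cjm (norm_cent (le_norm_self K (hR.le_right hr).1)) c1) e
  convert c2 using 1
  simp only [commutatorElement_def]
  group

end UT

/-- The local situation. -/
structure Lo (𝒜 : Set G) (A : Subgroup G) : Prop where
  od : Od (⊤ : Subgroup G) = ⊥
  el : IsElementaryAbelian 2 A
  sc : SC ⊤ A
  mem : ∀ a ∈ A, a ≠ 1 → a ∈ 𝒜
  ga : GA 𝒜
  ty : Ty G

namespace Lo

variable {𝒜 : Set G} {A : Subgroup G} (h : Lo 𝒜 A)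
include h

theorem pg : IsPGroup 2 A := elemAb_isPGroup h.el

theorem sq {a : G} (ha : a ∈ A) : a * a = 1 := by rw [← pow_two]; exact h.el.2 a ha

theorem cc : A ≤ 𝐂(A) := isMulComm_iff_le_cent.1 h.el.1

theorem syl : ∃ S, IsSyl 2 S ⊤ ∧ A ≤ S := exists_isSyl_ge Nat.prime_two h.pg le_top

theorem fit : fittingOf (⊤ : Subgroup G) = pCoreOf 2 ⊤ := fittingOf_eq_pCoreOf Nat.prime_two h.od

theorem mem_fit {x : G} (h1 : x ∈ 𝐂(pCoreOf 2 (⊤ : Subgroup G)))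
    (h2 : ∀ K, CompIn ⊤ K → x ∈ 𝐂(K)) : x ∈ pCoreOf 2 (⊤ : Subgroup G) := by
  rw [← h.fit] at h1 ⊢
  refine H2.inf_centralizer_fstarOf_le_fittingOf ⊤ ⟨trivial, ?_⟩
  rw [H2.fstarOf_eq, cent_sup, H2.layerOf_eq_sSup]
  exact ⟨mem_cent_iff_cent1.2 (sSup_le fun K hK => mem_cent_iff_cent1.1 (h2 K hK)), h1⟩

theorem zc {K : Subgroup G} (hK : CompIn ⊤ K) : IsPGroup 2 (K ⊓ 𝐂(K) : Subgroup G) :=
  (H2.isPGroup_pCoreOf 2 ⊤).to_le (hK.inf_centralizer_le_fittingOf.trans h.fit.le)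

theorem ut {K T : Subgroup G} (hK : CompIn ⊤ K) (hT : IsSyl 2 T K) : ∃ Zh, UT K T Zh :=
  (h.ty K T hK hT).elim (fun ⟨Zh, _, _, z⟩ => ⟨Zh, ut_sz z⟩)
    fun z => ⟨T, ut_ab z (H2.QS.not_isSolvable hK.2)⟩

/-- The members of the class normalize the components. -/
theorem nrm {K : Subgroup G} (hK : CompIn ⊤ K) {x : G} (hx : x ∈ 𝒜) : x ∈ 𝐍(K) := by
  obtain ⟨S, hS, hl⟩ := exists_isSyl_ge Nat.prime_two (h.ga.inv x hx).isPGroup le_top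
  obtain ⟨Zh, z⟩ := h.ut hK (syl_comp hS hK)
  obtain ⟨s, hs, hT, hs'⟩ := z.exA h.ga
  refine comp_norm hK trivial hT.2 ?_
  rwa [h.ga.two S hS.pgrp x hx s hs (hl (mem_zpowers x)) hT.1, mul_inv_cancel_right]

theorem le_norm {K : Subgroup G} (hK : CompIn ⊤ K) : A ≤ 𝐍(K) := fun a ha => by
  by_cases e : a = 1
  · exact e ▸ one_mem _
  · exact h.nrm hK (h.mem a ha e)

/-- The members of the class are inner. -/
theorem dec {S K Zh : Subgroup G} (hS : IsSyl 2 S ⊤) (hK : CompIn ⊤ K) (z : UT K (S ⊓ K) Zh)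
    {x : G} (hx : x ∈ 𝒜) (xS : x ∈ S) : ∃ s ∈ Zh, ∃ c ∈ S ⊓ 𝐂(K), s * c = x := by
  have xx := (h.ga.inv x hx).sq
  have n1 := h.nrm hK hx
  obtain ⟨s, hs, c, hc, rfl⟩ : ∃ s ∈ S ⊓ K, ∃ c ∈ 𝐂(K), s * c = x := by
    rcases h.ty K _ hK z.syl with ⟨Zh', n, r, z'⟩ | z'
    · exact z'.dec (k := 1) (by rw [pow_one, pow_two, xx]) n1
        (H1.le_normalizer_inf (zpowers_le.2 (le_norm_self S xS)) (zpowers_le.2 n1) (mem_zpowers x))
    refine ab_dec z' (H2.QS.not_isSolvable hK.2) (k := 1) (by rw [pow_one, pow_two, xx]) n1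
      fun t ht => ?_
    by_cases e : t = 1
    · simp [e]
    obtain ⟨s, hs, hT, -⟩ := z.exA h.ga
    obtain ⟨g, -, rfl⟩ := z'.gd.cj s hT.2 t ht.2 (h.ga.inv s hs) ⟨e, ab_sq z' ht⟩
    exact h.ga.two S hS.pgrp _ (h.ga.conj s hs g) x hx ht.1 xS
  refine ⟨s, (z.zh s).2 ⟨hs, ?_⟩, c, ⟨(S.mul_mem_cancel_left hs.1).1 xS, hc⟩, rfl⟩
  rw [← pow_two, Commute.mul_pow (hc s hs.2), mul_eq_one_iff_eq_inv] at xx
  rw [← pow_two, xx]
  exact inv_mem (pow_mem hc _)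

theorem decA {S K Zh : Subgroup G} (hS : IsSyl 2 S ⊤) (hA : A ≤ S) (hK : CompIn ⊤ K)
    (z : UT K (S ⊓ K) Zh) {a : G} (ha : a ∈ A) : ∃ s ∈ Zh, ∃ c ∈ S ⊓ 𝐂(K), s * c = a := by
  by_cases e : a = 1
  · exact ⟨1, one_mem _, 1, one_mem _, by rw [e, one_mul]⟩
  · exact h.dec hS hK z (h.mem a ha e) (hA ha)

/-- The decomposition of `A` with respect to an active component. -/
theorem dc {K : Subgroup G} (hK : CompIn ⊤ K) (act : ¬ A ≤ 𝐂(K)) :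
    ∃ V R, Dc A K (A ⊓ 𝐂(K)) V R ∧ R ≤ 𝐍(A) := by
  obtain ⟨S, hS, hA⟩ := h.syl
  obtain ⟨Zh, z⟩ := h.ut hK (syl_comp hS hK)
  obtain ⟨R, ho, hR, tr⟩ := z.compl
  have RK : R ≤ K := hR.trans inf_le_left
  have nK := h.le_norm hK
  have a0 : S ⊓ K ⊔ S ⊓ 𝐂(K) ≤ S := sup_le inf_le_left inf_le_left
  have a1 : R ≤ 𝐍(A) := (le_inf le_top (H1.le_normalizer_sup (hR.trans inf_le_right)
    ((RK.trans (cent_comm.1 inf_le_right)).trans (cent_le_norm _)))).trans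
    (h.sc.norm_le le_top (hS.pgrp.to_le a0) fun a ha => by
      obtain ⟨s, hs, c, hc, rfl⟩ := h.decA hS hA hK z ha
      exact mul_mem_sup (z.zle hs) hc)
  have a2 : A ⊓ 𝐂(R) ≤ 𝐂(K) := fun a ha => by
    obtain ⟨s, hs, c, hc, rfl⟩ := h.decA hS hA hK z ha.1
    refine mul_mem ?_ hc.2
    by_contra hs'
    have key : ∀ y ∈ Zh, y ∉ 𝐂(K) → s⁻¹ * y ∈ 𝐂(K) := fun y hy hy' => by
      obtain ⟨d, hd, e⟩ := tr s hs hs' y hy hy'
      have c1 := ha.2 d hd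
      rw [← mul_assoc, mul_assoc s, ← hc.2 d (RK hd), ← mul_assoc] at c1
      rwa [mul_right_cancel c1, mul_inv_cancel_right] at e
    obtain ⟨x, hx, hx', y, hy, hy', e⟩ := z.ex2
    exact e (by simpa [mul_assoc] using mul_mem (inv_mem (key x hx hx')) (key y hy hy'))
  have cop : 𝐨(R).Coprime 𝐨(A) := (P7.cop_two_odd h.pg ho).symm
  have d4 := H1.centralizer_inf_commutator_eq_bot h.el.1 a1 cop
  have d5 := H1.commutator_sup_centralizer a1 cop (Or.inr (H1.isSolvable_of_isPGroup h.pg))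
  have v1 : ⁅A, R⁆ ≤ A := comm_le_left_iff.2 a1
  have v2 : ⁅A, R⁆ ≤ K := (commutator_mono nK RK).trans (comm_le_right_iff.2 le_rfl)
  have v5 : R ≤ 𝐍(⁅A, R⁆) := H1.le_normalizer_commutator_self
  generalize ⁅A, R⁆ = V at d4 d5 v1 v2 v5
  have dj : ∀ v ∈ V, v ∈ 𝐂(K) → v = 1 := fun v hv e => d4.le ⟨cent_anti RK e, hv⟩
  have vz : V ≤ Zh := fun v hv => (z.zh v).2 ⟨⟨hA (v1 hv), v2 hv⟩, h.sq (v1 hv) ▸ one_mem _⟩
  refine ⟨V, R, ⟨le_inf v1 v2, inf_le_left, fun a ha => ?_, fun v hv e => dj v hv e.2, ?_, ho,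
    le_inf (le_inf RK (RK.trans (cent_comm.1 inf_le_right))) v5, fun v hv v0 w hw w0 => ?_⟩, a1⟩
  · obtain ⟨v, hv, b, hb, e⟩ := (mem_sup_of_norm (inf_le_left.trans (h.cc.trans
      ((cent_anti v1).trans (cent_le_norm V))))).1 (d5.ge ha)
    exact ⟨v, hv, b, ⟨hb.1, a2 hb⟩, e⟩
  · obtain ⟨⟨v, hv⟩, v0⟩ := ne_bot_iff_exists_ne_one.1 fun e : V = ⊥ => act (by
      rw [← d5, e, bot_sup_eq]; exact a2)
    have v' : v ∉ 𝐂(K) := fun e => v0 (Subtype.ext (dj v hv e))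
    obtain ⟨x, hx, hx', y, hy, hy', e⟩ := z.ex2
    obtain ⟨d, hd, e1⟩ := tr v (vz hv) v' x hx hx'
    obtain ⟨d', hd', e2⟩ := tr v (vz hv) v' y hy hy'
    have v0' : v ≠ 1 := fun e => v0 (Subtype.ext e)
    refine four_le (h.pg.to_le v1) (cjm (v5 hd) hv) (cjm (v5 hd') hv) (by simpa using v0')
      (by simpa using v0') fun e3 => e ?_
    rw [← e3] at e2
    simpa [mul_assoc] using mul_mem (inv_mem e1) e2
  · obtain ⟨d, hd, e⟩ := tr v (vz hv) (fun e => v0 (dj v hv e)) w (vz hw) fun e => w0 (dj w hw e)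
    exact ⟨d, hd, inv_mul_eq_one.1 (dj _ (mul_mem (inv_mem (cjm (v5 hd) hv)) hw) e)⟩

theorem o2 {b : G} (hb : b ∈ A) (hc : ∀ K, CompIn ⊤ K → b ∈ 𝐂(K)) {x : G} (hx : x ∈ 𝒜) :
    x ∈ 𝐂[b] := by
  by_cases e : b = 1
  · exact mem_cent1.2 (by simp [e])
  have h1 := P18.B0.le_o2 h.od h.el h.sc (zpowers_le.2 hb) fun K hK => zpowers_le.2 (hc K hK)
  obtain ⟨S, hS, hl⟩ := exists_isSyl_ge Nat.prime_two (h.ga.inv x hx).isPGroup le_top
  exact mem_cent1.2 (h.ga.two S hS.pgrp b (h.mem b hb e) x hx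
    (hS.pCoreOf_le Nat.prime_two (h1 (mem_zpowers b))) (hl (mem_zpowers x)))

theorem oddN {K D : Subgroup G} (hK : CompIn ⊤ K) (act : ¬ A ≤ 𝐂(K)) (ho : Odd 𝐨(D))
    (hn : A ≤ 𝐍(D)) : D ≤ 𝐍(K) := fun d hd => by
  obtain ⟨V, R, c, -⟩ := h.dc hK act
  obtain ⟨⟨v, hv⟩, v0⟩ := ne_bot_iff_exists_ne_one.1 fun e : V = ⊥ => by
    have := c.four
    rw [e, card_bot] at this
    omega
  exact P18.Lo.mem_norm_of hK ho trivial (c.vle hv).2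
    (fun e => v0 (Subtype.ext (c.disj v hv ⟨(c.vle hv).1, e⟩))) (k := 1)
    (h.el.2 v (c.vle hv).1) (cml (hn (c.vle hv).1) hd)

/-- An odd subgroup normalized by a component centralizes it. -/
theorem cent_of_norm {K D : Subgroup G} (hK : CompIn ⊤ K) (ho : Odd 𝐨(D)) (hn : K ≤ 𝐍(D)) :
    D ≤ 𝐂(K) := by
  obtain ⟨T, hT⟩ := exists_isSyl Nat.prime_two K
  obtain ⟨Zh, z⟩ := h.ut hK hT
  obtain ⟨y, hy, hy'⟩ := z.exT
  obtain ⟨k, hk⟩ := pow_two_pow hT.pgrp hy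
  have b4 : D ≤ 𝐍(K) := fun d hd =>
    P18.Lo.mem_norm_of hK ho trivial (hT.le hy) hy' hk (cml (hn (hT.le hy)) hd)
  rcases (H2.isQuasisimple_subgroup_iff.1 hK.2).2.2 (D ⊓ K) inf_le_right
    (H1.le_normalizer_inf hn (le_norm_self K)) with c3 | c3
  · exact absurd (eq_one_of hk (odd_of_mem ho (c3.ge (hT.le hy)).1) ▸ one_mem _) hy'
  refine fun d hd u hu => (commutatorElement_eq_one_iff_mul_comm.1 ?_).symm
  have c1 : ⁅d, u⁆ ∈ D ⊓ K := ⟨cml (hn hu) hd, cmr (b4 hd) hu⟩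
  obtain ⟨j, hj⟩ := pow_two_pow (h.zc hK) ⟨c1.2, c3 c1⟩
  exact eq_one_of hj (odd_of_mem ho c1.1)

theorem memOd {a : G} (ha : a ∈ A) {D : Subgroup G} (ho : Odd 𝐨(D)) (hD : D ≤ 𝐂[a])
    (hn : 𝐂[a] ≤ 𝐍(D)) {x : G} (hx : x ∈ D) (hc : ∀ K, CompIn ⊤ K → ¬ A ≤ 𝐂(K) → x ∈ 𝐂(K)) :
    x = 1 := by
  have hP := pCoreOf_normal 2 (⊤ : Subgroup G)
  have pP := H2.isPGroup_pCoreOf 2 (⊤ : Subgroup G)
  have cop := H1.coprime_card_of_isPGroup pP (Nat.coprime_two_right.2 ho)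
  have a1 : D ≤ 𝐂(pCoreOf 2 ⊤) := H1.pxq_lemma (two_zp (k := 1) (h.el.2 a ha)) pP
    (le_top.trans hP.2) (le_top.trans hP.2)
    (cent_comm.1 (by rw [cent_zpowers]; exact hD)) cop (by
      rw [cent_zpowers]
      exact le_cent_of_norm_of_coprime (inf_le_right.trans hn)
        (H1.le_normalizer_inf (le_top.trans hP.2) (hD.trans (le_norm_self _)))
        (cop.coprime_dvd_right (FT.card_dvd_of_le inf_le_left)))
  refine (H1.inf_eq_bot_of_coprime' cop).le ⟨hx, h.mem_fit (a1 hx) fun K hK => ?_⟩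
  by_cases e : A ≤ 𝐂(K)
  · exact h.cent_of_norm hK ho ((mem_cent_iff_cent1.1 (e ha)).trans hn) hx
  · exact hc K hK e

/-- Generation by the normalizer of `A` and the components moved by `A`. -/
theorem gen {M : Subgroup G} (h1 : 𝐍(A) ≤ M) (h2 : ∀ K, CompIn ⊤ K → ¬ A ≤ 𝐂(K) → K ≤ M) :
    ⊤ ≤ M := by
  obtain ⟨S, hS, hA⟩ := h.syl
  have hE : H2.layerOf (⊤ : Subgroup G) ⊲ ⊤ := ⟨le_top, H2.le_normalizer_layerOf ⊤⟩
  have hP := pCoreOf_normal 2 (⊤ : Subgroup G)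
  rw [← (hS.inf_normal Nat.prime_two hE).frattini Nat.prime_two hE]
  refine sup_le ?_ ?_
  · rw [H2.layerOf_eq_sSup]
    refine sSup_le fun K hK => ?_
    by_cases e : A ≤ 𝐂(K)
    · exact ((cent_comm.1 e).trans (cent_le_norm A)).trans h1
    · exact h2 K hK e
  have a1 : S ≤ ⊤ ⊓ 𝐍(S ⊓ H2.layerOf ⊤) :=
    le_inf hS.le (H1.le_normalizer_inf (le_norm_self S) (hS.le.trans hE.2))
  have a2 : pCoreOf 2 ⊤ ⊔ S ⊓ H2.layerOf ⊤ ≤ S := sup_le (hS.pCoreOf_le Nat.prime_two) inf_le_left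
  have a3 : ⊤ ⊓ 𝐍(S ⊓ H2.layerOf ⊤) ≤ 𝐍(pCoreOf 2 ⊤ ⊔ S ⊓ H2.layerOf ⊤) :=
    H1.le_normalizer_sup (inf_le_left.trans hP.2) inf_le_right
  have sc := h.sc.scl hS.le hS.pgrp hA
  have a4 : 𝐂(pCoreOf 2 ⊤ ⊔ S ⊓ H2.layerOf ⊤) ≤ 𝐍(A) := fun y hy =>
    mem_norm_of_conj_le fun _ hx => by
      obtain ⟨a, ha, rfl⟩ := mem_conj'.1 hx
      refine sc a ha y trivial ?_
      have b1 := h.mem_fit (x := ⁅y, a⁆)
        (cml (norm_cent (hP.2 trivial)) (cent_anti le_sup_left hy)) fun K hK => by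
          have b2 : y ∈ 𝐂(S ⊓ K) :=
            cent_anti ((inf_le_inf_left S hK.le_layerOf).trans le_sup_right) hy
          obtain ⟨Zh, z⟩ := h.ut hK (syl_comp hS hK)
          obtain ⟨u, hu, hu'⟩ := z.exT
          have b3 := comp_norm hK trivial hu.2 (by rwa [← b2 u hu, mul_inv_cancel_right])
          obtain ⟨s, hs, c, hc, rfl⟩ := h.decA hS hA hK z ha
          have hs := z.zle hs
          have := cjm (norm_cent (le_norm_self K hs.2)) (cmr (norm_cent b3) hc.2)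
          convert this using 1
          simp only [commutatorElement_def]
          rw [← mul_assoc y, ← b2 s hs]; group
      simpa [commutatorElement_def] using mul_mem (hS.pCoreOf_le Nat.prime_two b1) (hA ha)
  intro x hx
  obtain ⟨m, hm, e⟩ := (sc.mono inf_le_left).ctrl (hS.of_le a1 inf_le_left) hA h.cc _ a2 x hx
    (by rwa [conj_eq_of_mem_norm (a3 hx)])
  have : m⁻¹ * x ∈ 𝐍(A) := a4 fun t ht => by
    calc t * (m⁻¹ * x) = m⁻¹ * (m * t * m⁻¹) * x := by group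
      _ = m⁻¹ * x * t := by rw [← e t ht]; group
  exact h1 (by simpa using mul_mem hm.2 this)

end Lo

end Cfsg.Agent.P21.LA
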