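/-
P21, chapter LA: the first half of the local analysis.
-/
import Cfsg.Agent.P21.LA0
import Cfsg.Agent.P21.Q
import Cfsg.Agent.P18.B4L

set_option autoImplicit false
set_option linter.unusedSectionVars false
set_option linter.style.haveILetI false

namespace Cfsg.Agent.P21

open Subgroup Cfsg Cfsg.Agent Cfsg.Agent.FT Cfsg.Agent.P14
open Cfsg.Agent.H2 (CompIn)
open Cfsg.Agent.P6 (Inv Od Qt pr)
open Cfsg.Agent.P7 (br Zc)
open scoped commutatorElement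

universe u

variable {G : Type u} [Group G] [Finite G] {𝒜 : Set G} {A S X : Subgroup G}

namespace LA

theorem one (el : IsElementaryAbelian 2 A) {a : G} (ha : a ∈ A) (ho : a ∈ Od X) : a = 1 :=
  P7.eq_one_of_two_odd (elemAb_isPGroup el) (P6.odd_Od X) ha ho

theorem inj (el : IsElementaryAbelian 2 A) {a b : X} (ha : (a : G) ∈ A) (hb : (b : G) ∈ A)
    (e : pr X a = pr X b) : (a : G) = b :=
  inv_mul_eq_one.1 (one el (mul_mem (inv_mem ha) hb) ((P6.pr_eq_iff a.2 b.2).1 e))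

theorem act_unbar (hA : A ≤ X) {K : Subgroup (Qt X)} (hK : CompIn ⊤ K) (h : ¬ br X A ≤ 𝐂(K)) :
    Act A X (H1.unbar X (Od X) K) :=
  ⟨cq_unbar hK, fun e => h (by
    have := ((cq_unbar hK).le_Z_iff hA).1 e
    rwa [br_unbar] at this)⟩

theorem act_br (hA : A ≤ X) {K : Subgroup G} (c : Act A X K) : ¬ br X A ≤ 𝐂(br X K) :=
  fun e => c.act ((c.le_Z_iff hA).2 e)

theorem cent_of_act (hA : A ≤ X) {x : X} (hc : ∀ K, Act A X K → (x : G) ∈ Zc X K)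
    (K : Subgroup (Qt X)) (hK : CompIn ⊤ K) (h : ¬ br X A ≤ 𝐂(K)) : pr X x ∈ 𝐂(K) := by
  have := ((cq_unbar hK).mem_Z_iff x.2).1 (hc _ (act_unbar hA hK h))
  rwa [br_unbar] at this

/-- Lifting the decomposition. -/
theorem dc_lift (el : IsElementaryAbelian 2 A) (hA : A ≤ X) {K : Subgroup G} (c : Cq X K)
    {V R : Subgroup (Qt X)} (d : Dc (br X A) (br X K) (br X A ⊓ 𝐂(br X K)) V R) :
    Dc A K (A ⊓ Zc X K) (A ⊓ H1.unbar X (Od X) V) (H1.unbar X (Od X) R ⊓ 𝐍(A)) := by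
  have pA := elemAb_isPGroup el
  have lift : ∀ v ∈ V, ∃ y : X, (y : G) ∈ A ⊓ H1.unbar X (Od X) V ∧ pr X y = v := fun v hv => by
    obtain ⟨y, hy, rfl⟩ := H1.mem_bar.1 (d.vA hv)
    exact ⟨y, ⟨hy, H1.coe_mem_unbar.2 hv⟩, rfl⟩
  have uK : ∀ U : Subgroup (Qt X), U ≤ br X K → H1.unbar X (Od X) U ≤ K := fun U hU =>
    (H1.unbar_mono hU).trans (H1.unbar_bar_of_le c.od c.le).le
  have rK := uK R (d.rle.trans (inf_le_left.trans inf_le_left))
  refine ⟨inf_le_inf_left _ (uK V d.vK), inf_le_left, fun a ha => ?_, fun v hv hb => ?_, ?_, ?_,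
    le_inf (le_inf (inf_le_left.trans rK) ((inf_le_inf_right _ rK).trans (c.sig_cent pA)))
      (H1.le_normalizer_inf inf_le_right (H1.le_normalizer_unbar
        (inf_le_left.trans (H1.unbar_le R)) ?_)), fun v hv v1 w hw w1 => ?_⟩
  · obtain ⟨v, hv, b, hb, e⟩ := d.dec _ (H1.qmk_mem_bar (y := ⟨a, hA ha⟩) ha)
    obtain ⟨v, hv', rfl⟩ := lift v hv
    obtain ⟨b, hb', rfl⟩ := H1.mem_bar.1 hb.1
    rw [← map_mul] at e
    exact ⟨v, hv', b, ⟨hb', (c.mem_Z_iff b.2).2 hb.2⟩, inj el (mul_mem hv'.1 hb') ha e⟩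
  · obtain ⟨hx, hv'⟩ := H1.mem_unbar.1 hv.2
    exact one el hv.1 (P6.pr_eq_one.1 (d.disj _ hv' ⟨H1.qmk_mem_bar hv.1, (c.mem_Z_iff hx).1 hb.2⟩))
  · refine d.four.trans ((card_le_of_le (fun v hv => ?_)).trans
      (Nat.le_of_dvd Nat.card_pos (H1.card_bar_dvd (Y := X) (N := Od X) _)))
    obtain ⟨y, hy, rfl⟩ := lift v hv
    exact H1.qmk_mem_bar hy
  · refine P6.odd_of_le inf_le_left ?_
    rw [H1.card_unbar (P7.Od_le X)]
    exact (P6.odd_Od X).mul d.odd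
  · exact ((H1.bar_mono inf_le_left).trans (H1.bar_unbar R).le).trans (d.rle.trans inf_le_right)
  · obtain ⟨hx, hv'⟩ := H1.mem_unbar.1 hv.2
    obtain ⟨hy, hw'⟩ := H1.mem_unbar.1 hw.2
    obtain ⟨σ, hσ, e⟩ := d.tr _ hv' (fun e => v1 (one el hv.1 (P6.pr_eq_one.1 e))) _ hw'
      fun e => w1 (one el hw.1 (P6.pr_eq_one.1 e))
    have h1 := d.rN hσ
    rw [P7.br_norm hA pA] at h1
    obtain ⟨n, hn, rfl⟩ := H1.mem_bar.1 h1
    rw [← map_inv, ← map_mul, ← map_mul] at e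
    exact ⟨n, ⟨H1.coe_mem_unbar.2 hσ, hn.2⟩, inj el (cjm hn.2 hv.1) hw.1 e⟩

end LA

open LA

theorem Gl.lo (h : Gl 𝒜 A S) (hX : X ≠ ⊤) (hA : A ≤ X) : Lo (ab 𝒜 X) (br X A) where
  od := H7.SC.od_br X
  el := ⟨H1.isMulCommutative_bar h.el.1, by
    rintro _ ⟨y, hy, rfl⟩
    rw [← map_pow, show y ^ 2 = 1 from Subtype.ext (h.el.2 y hy), map_one]⟩
  sc := P18.B4.sc_br h.el h.sc hA
  mem := by
    rintro _ ⟨y, hy, rfl⟩ e
    exact ⟨y, h.mem y hy fun k => e (by rw [show y = 1 from Subtype.ext k, map_one]), rfl⟩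
  ga := h.gq X
  ty := h.ty X hX

theorem Gl.IA_le (h : Gl 𝒜 A S) {M : Subgroup (Qt X)} (hM : ∀ x ∈ ab 𝒜 X, x ∈ M) :
    IA A X ≤ H1.unbar X (Od X) M := IA_le_iff.2 fun x hx g hg => by
  by_cases e : x = 1
  · exact e ▸ one_mem _
  have := h.ga.conj _ (h.mem _ hg (by simpa using e)) g⁻¹
  exact H1.mem_unbar.2 ⟨hx, hM _ ⟨⟨x, hx⟩, by simpa [mul_assoc] using this, rfl⟩⟩

theorem laStmt : LAStmt.{u} := by
  intro G _ _ 𝒜 A S h X hX hA
  have l := h.lo hX hA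
  have pA := elemAb_isPGroup h.el
  refine ⟨h.el, h.sc, hA, fun K c => c.norm_of_br (IA_le A X) ((H1.bar_le_iff (IA_le A X)).2
    (h.IA_le fun x hx => l.nrm c.comp hx)), fun K c => ?_, fun b hb hc x hx => ?_,
    fun M h0 h1 h2 => ?_, fun K c D hD ho hn => c.norm_of_br hD (l.oddN c.comp (act_br hA c)
      (odd_card_bar ho) (H1.bar_le_normalizer hn)), fun a ha D hD ho hn x hx hc => ?_⟩
  · obtain ⟨V, R, d, -⟩ := l.dc c.comp (act_br hA c)
    exact ⟨_, _, dc_lift h.el hA c.toCq d⟩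
  · obtain ⟨hx', e⟩ := H1.mem_unbar.1 (h.IA_le (M := 𝐂[pr X ⟨b, hA hb⟩]) (fun y hy =>
      l.o2 (H1.qmk_mem_bar hb) (fun K hK => by
        by_cases e : br X A ≤ 𝐂(K)
        · exact e (H1.qmk_mem_bar hb)
        · exact cent_of_act hA (x := ⟨b, hA hb⟩) hc K hK e) hy) hx)
    exact (P6.pr_comm_iff hx' (hA hb)).1 (mem_cent1.1 e).symm
  · have := l.gen (M := br X (X ⊓ M)) (by
      rw [P7.br_norm hA pA]
      exact H1.bar_mono (le_inf inf_le_left h2)) fun K hK e => by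
        rw [← br_unbar K]
        exact H1.bar_mono (le_inf (H1.unbar_le K) (h1 _ (act_unbar hA hK e)))
    rw [← H1.bar_top (Y := X) (N := Od X), H1.bar_le_bar_iff (P7.Od_le X) le_rfl inf_le_left] at this
    exact this.trans (sup_le inf_le_right h0)
  · have e : 𝐂[pr X ⟨a, hA ha⟩] = br X (X ⊓ 𝐂[a]) := by
      rw [← cent_zpowers, ← cent_zpowers, ← P7.br_cent (zpowers_le.2 (hA ha))
        (pA.to_le (zpowers_le.2 ha)), ← H1.bar_zpowers]
    exact (P6.pr_eq_one (y := ⟨x, (hD hx).1⟩)).1 (l.memOd (H1.qmk_mem_bar (y := ⟨a, hA ha⟩) ha)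
      (odd_card_bar ho) (e ▸ H1.bar_mono hD) (e ▸ H1.bar_le_normalizer hn) (H1.qmk_mem_bar hx)
      (cent_of_act hA hc))

end Cfsg.Agent.P21
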