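/-
P21, chapter LB: groups with trivial odd core.
-/
import Cfsg.Agent.P21.LA0
import Cfsg.Agent.P21.Q
import Cfsg.Agent.P14.B2

set_option autoImplicit false
set_option linter.unusedSectionVars false
set_option linter.style.haveILetI false

namespace Cfsg.Agent.P21.LBb

open Subgroup Cfsg Cfsg.Agent Cfsg.Agent.FT Cfsg.Agent.P14
open Cfsg.Agent.H2 (CompIn)
open Cfsg.Agent.P6 (Inv Od)
open Cfsg.Agent.P21.LA (UT ut_sz ut_ab ab_dec ab_sq ab_as ab_not)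
open scoped commutatorElement

universe u

variable {G : Type u} [Group G] [Finite G]

theorem ab_of {K T T' : Subgroup G} (z : AbT K T) (h : IsSyl 2 T' K) : AbT K T' := by
  obtain ⟨g, -, e⟩ := z.syl.exists_le_conj Nat.prime_two h.pgrp h.le
  exact ⟨z.simple, z.cen, z.gd, h, elemAb_of_le e (H5.elemAb_map _ z.el)⟩

/-- An invariant set with a noncentral element of `Zh` covers `Zh` modulo the centralizer. -/
theorem cov {K T Zh V : Subgroup G} (z : UT K T Zh) {v : G} (hv : v ∈ Zh) (hv' : v ∉ 𝐂(K))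
    (h : ∀ d ∈ K ⊓ 𝐍(T), d * v * d⁻¹ ∈ V) : ∀ y ∈ Zh, ∃ w ∈ V, w⁻¹ * y ∈ 𝐂(K) := fun y hy => by
  by_cases e : y ∈ 𝐂(K)
  · exact ⟨1, one_mem _, by simpa using e⟩
  obtain ⟨d, hd, -, e'⟩ := z.tr v hv hv' y hy e
  exact ⟨_, h d hd, e'⟩

theorem cov_le {K Zh V : Subgroup G} (h1 : Zh ≤ K) (h2 : V ≤ K)
    (h : ∀ y ∈ Zh, ∃ w ∈ V, w⁻¹ * y ∈ 𝐂(K)) : Zh ≤ V ⊔ K ⊓ 𝐂(K) := fun y hy => by
  obtain ⟨w, hw, e⟩ := h y hy
  have := mul_mem_sup hw (mem_inf.2 ⟨K.mul_mem (K.inv_mem (h2 hw)) (h1 hy), e⟩)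
  rwa [mul_inv_cancel_left] at this

/-- If `Zh` is central in `T`, then `T'` lies in every invariant supplement to the centre. -/
theorem der_le_of {K T Zh V : Subgroup G} {n r : ℕ} (z : SzT K T Zh n r) (v7 : V ≤ Zh)
    (v8 : Zh ≤ V ⊔ K ⊓ 𝐂(K)) (v9 : Zh ≤ 𝐂(T)) (nV : K ⊓ 𝐍(T) ≤ 𝐍(V)) : ⁅T, T⁆ ≤ V := by
  have v2 : V ≤ K := v7.trans (z.zle.trans z.le)
  by_contra e
  obtain ⟨J, j1, j2, j3⟩ := exists_two (z.syl.pgrp.to_le (sup_le z.der_le_zh v7 |>.trans z.zle))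
    (right_lt_sup.2 e)
  have j4 : J ≤ Zh := j2.trans (sup_le z.der_le_zh v7)
  have j5 : T ≤ 𝐍(J) := (cent_comm.1 (j4.trans v9)).trans (cent_le_norm J)
  have j7 : K ⊓ 𝐍(T) ≤ 𝐍(J) := by
    refine comm_le_left_iff.1 (le_trans ?_ j1)
    rw [commutator_comm]
    refine (commutator_mono le_rfl (j4.trans v8)).trans (H1.commutator_sup_le (le_norm_self V)
      ((inf_le_right.trans (cent_anti v2)).trans (cent_le_norm V)) (comm_le_right_iff.2 nV) ?_)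
    exact (comm_eq_bot_iff.2 (inf_le_left.trans (cent_comm.1 inf_le_right))).le.trans bot_le
  obtain ⟨m, hm⟩ := even_codim z.syl.pgrp j5
    (j3 ▸ relIndex_le_of_le_right le_sup_left (H2.relIndex_pos _ _).ne')
  have j8 : Zh ≤ H1.commStab T J := H1.le_commStab_iff.2 ⟨z.zle.trans j5,
    (comm_eq_bot_iff.2 (cent_comm.1 v9)).le.trans bot_le⟩
  rcases z.eq_or j8 (fun g hg => mem_norm_of_conj_le fun x hx => by
    obtain ⟨y, hy, rfl⟩ := mem_conj'.1 hx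
    refine ⟨mul_mem (mul_mem (j7 hg) hy.1) (inv_mem (j7 hg)), fun u hu => ?_⟩
    have := cjm (j7 hg) (hy.2 _ (cjm (inv_mem hg.2) hu))
    convert this using 1
    simp only [commutatorElement_def]; group) with e' | e'
  · rw [← inf_relIndex_left, le_antisymm e' (le_inf z.zle j8), z.cardT] at hm
    have := Nat.pow_right_injective le_rfl hm
    have := z.odd
    rw [Nat.odd_iff] at this
    omega
  · rw [relIndex_eq_one.2 (sup_le (H1.le_commStab_iff.1 e').2 j1)] at j3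
    omega

/-- Local balance. -/
def BalL (A K : Subgroup G) : Prop :=
  ∀ D : Subgroup G, Odd 𝐨(D) → A ≤ 𝐍(D) → ∀ a ∈ A, 𝐂[a] ≤ 𝐍(D) → D ≤ 𝐂(K)

/-- The local form of `LocB`. -/
structure LocL (A K : Subgroup G) : Prop where
  d2 : BalL A K ∨ 𝐨(A) = 4 * 𝐨((A ⊓ 𝐂(K) : Subgroup G))
  ty : (8 * 𝐨((A ⊓ 𝐂(K) : Subgroup G)) ≤ 𝐨(A) ∧
      ∀ u ∈ 𝐍(K) ⊓ 𝐍(A), Two u → ∀ a ∈ A, ⁅a, u⁆ ∈ 𝐂(K)) ∨
    (IsSyl 2 (A ⊓ K) K ∧ K ⊓ 𝐂(K) = ⊥ ∧
      ∀ s ∈ 𝐍(K) ⊓ 𝐂(A), Two s → ∃ v ∈ A ⊓ K, v * s ∈ 𝐂(K))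
  fix : ∀ τ ∈ K ⊓ 𝐍(A), Two τ → ∃ v ∈ A, v ∉ 𝐂(K) ∧ τ ∈ 𝐂[v]
  zz : ∀ S, IsSyl 2 S ⊤ → A ≤ S → S ⊓ K ≤ 𝐂(A) → A ⊓ K ⊓ 𝐂(K) = ⊥

section

variable {𝒜 : Set G} {A K : Subgroup G} (h : LA.Lo 𝒜 A) (hK : CompIn ⊤ K) (act : ¬ A ≤ 𝐂(K))
include h hK act

theorem exV : ∃ v ∈ A ⊓ K, v ∉ 𝐂(K) := by
  obtain ⟨V, R, d, -⟩ := h.dc hK act
  obtain ⟨v, hv, e⟩ := SetLike.not_le_iff_exists.1 d.not_le
  exact ⟨v, d.vle hv, fun k => e ⟨d.vA hv, k⟩⟩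

theorem covA {S Zh : Subgroup G} (hS : IsSyl 2 S ⊤) (hA : A ≤ S) (z : UT K (S ⊓ K) Zh) :
    ∀ y ∈ Zh, ∃ w ∈ A ⊓ K, w⁻¹ * y ∈ 𝐂(K) := by
  obtain ⟨v, hv, e⟩ := exV h hK act
  have vT : v ∈ S ⊓ K := ⟨hA hv.1, hv.2⟩
  exact cov z ((z.zh v).2 ⟨vT, h.sq hv.1 ▸ one_mem _⟩) e fun d hd =>
    ⟨h.sc.scl hS.le hS.pgrp hA v hv.1 d trivial (cjm hd.2 vT).1, (cjm hd.2 vT).2⟩

omit hK act in
theorem exS {u : G} (hu : u ∈ 𝐍(A)) (t : Two u) : ∃ S, IsSyl 2 S ⊤ ∧ A ≤ S ∧ u ∈ S := by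
  obtain ⟨S, hS, hl⟩ := exists_isSyl_ge Nat.prime_two
    (isPGroup_sup t.zp h.pg (zpowers_le.2 hu)) le_top
  exact ⟨S, hS, le_sup_right.trans hl, hl (mem_sup_left (mem_zpowers u))⟩

theorem loc_ab {T : Subgroup G} (z : AbT K T) : LocL A K := by
  have ns := H2.QS.not_isSolvable hK.2
  obtain ⟨S, hS, hA⟩ := h.syl
  have z1 := ab_of z (syl_comp hS hK)
  have e1 : S ⊓ K = A ⊓ K := le_antisymm (fun y hy => by
    obtain ⟨w, hw, e⟩ := covA h hK act hS hA (ut_ab z1 ns) y hy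
    have := z.cen.le ⟨K.mul_mem (K.inv_mem hw.2) hy.2, e⟩
    rwa [← inv_mul_eq_one.1 (mem_bot.1 this)]) (inf_le_inf_right K hA)
  rw [e1] at z1
  obtain ⟨V, R, d, -⟩ := h.dc hK act
  refine ⟨z.gd.d2.imp (fun bl D ho hn a ha hc => ?_) fun k => ?_,
    Or.inr ⟨z1.syl, z.cen, fun s hs ⟨k, hk⟩ => ?_⟩, fun τ hτ t => ?_,
    fun _ _ _ _ => by rw [inf_assoc, z.cen, inf_bot_eq]⟩
  · obtain ⟨v, hv, b, hb, rfl⟩ := d.dec a ha
    have c1 : K ⊓ 𝐂[v] ≤ 𝐍(D) := fun x hx => hc (mem_cent1_comm.1 (mul_mem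
      (mem_cent1_comm.1 hx.2) (mem_cent1.2 (hb.2 x hx.1))))
    by_cases e : v = 1
    · refine h.cent_of_norm hK ho fun x hx => c1 ⟨hx, ?_⟩
      rw [e]
      exact mem_cent1.2 (by simp)
    · exact bl v (d.vK hv) ⟨e, h.sq (d.vA hv)⟩ D ho (h.oddN hK act ho hn) c1
  · rw [d.card h.el]
    obtain ⟨n, hn⟩ := exists_card_eq_pow Nat.prime_two (h.pg.to_le d.vA)
    have h1 := FT.card_dvd_of_le d.vK
    have h2 := d.four
    rw [hn] at h1 h2 ⊢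
    have h3 : n ≤ 2 := not_lt.1 fun e => k.1 ((pow_dvd_pow 2 e).trans h1)
    have h4 : 2 ≤ n := (Nat.pow_le_pow_iff_right one_lt_two).1 h2
    rw [le_antisymm h3 h4]
    rfl
  · obtain ⟨v, hv, c, hc, rfl⟩ := ab_dec z1 ns hk hs.1 (cent_anti inf_le_left hs.2)
    exact ⟨v⁻¹, inv_mem hv, by rwa [inv_mul_cancel_left]⟩
  · obtain ⟨v, hv, e⟩ := exV h hK act
    have : τ ∈ A ⊓ K := zpowers_le.1 (z1.syl.le_of_norm Nat.prime_two t.zp (zpowers_le.2 hτ.1)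
      (H1.le_normalizer_inf (zpowers_le.2 hτ.2) (zpowers_le.2 (le_normalizer hτ.1))))
    exact ⟨v, hv.1, e, cent_le_cent1 hv.1 (h.cc this.1)⟩

theorem loc_sz (sz : ∀ T, IsSyl 2 T K → ∃ Zh n r, SzT K T Zh n r) : LocL A K := by
  have nK := h.le_norm hK
  have nT : ∀ S : Subgroup G, ∀ u ∈ S, u ∈ 𝐍(K) → u ∈ 𝐍((S ⊓ K : Subgroup G)) := fun S u a b =>
    H1.le_normalizer_inf (zpowers_le.2 (le_norm_self S a)) (zpowers_le.2 b) (mem_zpowers u)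
  refine ⟨Or.inl fun D ho hn _ _ _ => ?_, Or.inl ⟨?_, fun u hu t a ha => ?_⟩, fun τ hτ t => ?_,
    fun S hS hA hc => ?_⟩
  · obtain ⟨S, hS, hA⟩ := h.syl
    obtain ⟨Zh, n, r, z⟩ := sz _ (syl_comp hS hK)
    obtain ⟨V, R, d, -⟩ := h.dc hK act
    have DK := h.oddN hK act ho hn
    have pV := h.pg.to_le d.vA
    have oE : Odd 𝐨((D ⊓ K : Subgroup G)) := P6.odd_of_le inf_le_left ho
    obtain ⟨k, hk⟩ := exists_card_eq_pow Nat.prime_two pV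
    haveI := Fact.mk Nat.prime_two
    have e1 : D ⊓ K ≤ ⊥ := H1.le_of_forall_centralizer_le (elemAb_of_le d.vA h.el).1
      (H2.not_isCyclic_of_card (elemAb_of_le d.vA h.el)
        ((Nat.pow_le_pow_iff_right one_lt_two).1 (hk ▸ d.four)) hk)
      (H1.le_normalizer_inf (d.vA.trans hn) (d.vA.trans nK)) (P7.cop_two_odd pV oE)
      fun v hv v1 x hx => P7.eq_one_of_two_odd z.syl.pgrp oE (z.cent v ⟨hA (d.vA hv), d.vK hv⟩
        (fun e => v1 (d.disj v hv ⟨d.vA hv, e⟩)) x hx.1.2 (by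
          rw [commutatorElement_eq_one_iff_mul_comm.2 (mem_cent1.1 hx.2).symm]
          exact one_mem _)) hx.1
    refine fun x hx => z.oddAut x (DK hx) (odd_of_mem ho hx) fun y hy => ?_
    obtain ⟨w, hw, e⟩ := covA h hK act hS hA (ut_sz z) y hy
    have e2 : ⁅x, w⁆ = 1 := e1 ⟨cml (hn hw.1) hx, cmr (DK hx) hw.2⟩
    have := cjm (norm_cent (le_norm_self K hw.2)) (cmr (norm_cent (DK hx)) e)
    convert this using 1
    rw [← one_mul (w * _ * _), ← e2]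
    simp only [commutatorElement_def]; group
  · obtain ⟨S, hS, hA⟩ := h.syl
    obtain ⟨Zh, n, r, z⟩ := sz _ (syl_comp hS hK)
    have e1 : Zh ≤ A ⊔ 𝐂(K) := (cov_le (z.zle.trans z.le) inf_le_right
      (covA h hK act hS hA (ut_sz z))).trans (sup_le_sup inf_le_left inf_le_right)
    have e2 := relIndex_le_of_le_right (H := 𝐂(K)) e1 (H2.relIndex_pos _ _).ne'
    rw [H1.relIndex_sup_of_le_normalizer (nK.trans norm_cent), z.cardZ] at e2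
    rw [← H1.card_mul_relIndex (inf_le_left : A ⊓ 𝐂(K) ≤ A), inf_relIndex_left, mul_comm]
    exact Nat.mul_le_mul_left _ ((Nat.pow_le_pow_right two_pos z.three).trans e2)
  · obtain ⟨S, hS, hA, uS⟩ := exS h hu.2 t
    obtain ⟨Zh, n, r, z⟩ := sz _ (syl_comp hS hK)
    obtain ⟨k, hk⟩ := t
    obtain ⟨s, hs, c, hc, rfl⟩ := z.dec hk hu.1 (nT S u uS hu.1)
    obtain ⟨s', hs', c', hc', rfl⟩ := z.dec2 (h.sq ha) (nK ha) (nT S a (hA ha) (nK ha))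
    have e1 := (z.comm_mem hs hs' hc').2
    have e2 := cjm (norm_cent (le_norm_self K hs.2)) (cml (norm_cent (nK ha)) hc)
    have := inv_mem (mul_mem e2 e1)
    convert this using 1
    simp only [commutatorElement_def]; group
  · obtain ⟨S, hS, hA, uS⟩ := exS h hτ.2 t
    obtain ⟨Zh, n, r, z⟩ := sz _ (syl_comp hS hK)
    by_cases e : τ ∈ Zh
    · obtain ⟨v, hv, e'⟩ := exV h hK act
      exact ⟨v, hv.1, e', z.zh_cent (h.sq hv.1) (nK hv.1) (nT S v (hA hv.1) (nK hv.1)) e⟩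
    obtain ⟨w, hw, e'⟩ := covA h hK act hS hA (ut_sz z) _ (z.sq τ ⟨uS, hτ.1⟩)
    refine ⟨w, hw.1, fun k => e ((z.zh τ).2 ⟨⟨uS, hτ.1⟩, by simpa using mul_mem k e'⟩), ?_⟩
    have := mul_mem (mul_mem (self_mem_cent1 τ) (self_mem_cent1 τ))
      (inv_mem (mem_cent1.2 (e' τ hτ.1)))
    rw [mem_cent1_comm]
    convert this using 1
    group
  · obtain ⟨Zh, n, r, z⟩ := sz _ (syl_comp hS hK)
    have u := ut_sz z
    have cv := covA h hK act hS hA u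
    have TS : S ⊓ K ≤ S := inf_le_left
    have hT : A ⊓ K ≤ S ⊓ K := inf_le_inf_right K hA
    have a0 : S ⊓ K ⊔ S ⊓ 𝐂(K) ≤ S := sup_le inf_le_left inf_le_left
    have a1 : K ⊓ 𝐍((S ⊓ K : Subgroup G)) ≤ 𝐍(A) := (le_inf le_top (H1.le_normalizer_sup
      inf_le_right ((inf_le_left.trans (cent_comm.1 inf_le_right)).trans (cent_le_norm _)))).trans
      (h.sc.norm_le le_top (hS.pgrp.to_le a0) fun a ha => by
        obtain ⟨s, hs, c, hc, rfl⟩ := h.decA hS hA hK u ha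
        exact mul_mem_sup (z.zle hs) hc)
    generalize S ⊓ K = T at z u cv TS hT a1 hc
    have sT := z.syl.of_le (le_inf z.le (le_norm_self T)) (inf_le_left (b := 𝐍(T)))
    obtain ⟨D, d1, d2, -, d3⟩ := H1.exists_complement_of_coprime sT.le inf_le_right
      (H1.coprime_card_of_isPGroup sT.pgrp
        (Nat.coprime_two_right.2 (Nat.not_even_iff_odd.1 fun k => sT.ndvd k.two_dvd))).symm
    have cop : 𝐨(D).Coprime 𝐨(A) := H1.coprime_card_of_isPGroup h.pg (d3 ▸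
      Nat.coprime_two_right.2 (Nat.not_even_iff_odd.1 fun k => sT.ndvd k.two_dvd))
    have d4 := H1.centralizer_inf_commutator_eq_bot h.el.1 (d1.trans a1) cop
    have DK : D ≤ K := d1.trans inf_le_left
    have v1 : ⁅A, D⁆ ≤ A := comm_le_left_iff.2 (d1.trans a1)
    have v2 : ⁅A, D⁆ ≤ K := (commutator_mono nK DK).trans (comm_le_right_iff.2 le_rfl)
    have v3 : ∀ v ∈ ⁅A, D⁆, v ∈ 𝐂(K) → v = 1 := fun v hv e => d4.le ⟨cent_anti DK e, hv⟩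
    have v4 : ⁅A, D⁆ ≠ ⊥ := fun e => by
      have b1 : K ⊓ 𝐍(T) ≤ 𝐂(A) := d2.ge.trans (sup_le (cent_comm.1 (comm_eq_bot_iff.1 e)) hc)
      obtain ⟨v, hv, v'⟩ := exV h hK act
      have b2 := cov (V := zpowers v) u ((z.zh v).2 ⟨hT hv, h.sq hv.1 ▸ one_mem _⟩) v'
        fun d hd => by
          rw [← b1 hd v hv.1, mul_inv_cancel_right]
          exact mem_zpowers v
      have b3 : ∀ y ∈ Zh, y ∉ 𝐂(K) → v⁻¹ * y ∈ 𝐂(K) := fun y hy y' => by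
        obtain ⟨w, hw, e⟩ := b2 y hy
        rcases (P6.Inv.mem_zpowers_iff (t := v) ⟨fun k => v' (k ▸ one_mem _), h.sq hv.1⟩).1 hw
          with rfl | rfl
        · exact absurd (by simpa using e) y'
        · exact e
      obtain ⟨x, hx, hx', y, hy, hy', e⟩ := u.ex2
      exact e (by simpa [mul_assoc] using mul_mem (inv_mem (b3 x hx hx')) (b3 y hy hy'))
    have v5 : K ⊓ 𝐍(T) ≤ 𝐍(⁅A, D⁆) := d2.ge.trans (sup_le H1.le_normalizer_commutator_self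
      (hc.trans ((cent_anti v1).trans (cent_le_norm _))))
    generalize ⁅A, D⁆ = V at v1 v2 v3 v4 v5
    have v7 : V ≤ Zh := fun v hv => (z.zh v).2 ⟨hT ⟨v1 hv, v2 hv⟩, h.sq (v1 hv) ▸ one_mem _⟩
    obtain ⟨⟨v, hv⟩, v0⟩ := ne_bot_iff_exists_ne_one.1 v4
    have v8 := cov_le (z.zle.trans z.le) v2 (cov u (v7 hv)
      (fun e => v0 (Subtype.ext (v3 v hv e))) fun d hd => cjm (v5 hd) hv)
    have w1 := der_le_of z v7 v8 (v8.trans (sup_le (v1.trans (cent_comm.1 hc))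
      (inf_le_right.trans (cent_anti z.le)))) v5
    exact eq_bot_iff.2 fun x hx => v3 x (w1 (P14.C.ct_cent_le_der
      (H2.isQuasisimple_subgroup_iff.1 hK.2).1 z.syl ⟨hT hx.1, hx.2⟩)) hx.2

theorem loc : LocL A K := by
  by_cases e : ∃ T, AbT K T
  · exact e.elim fun _ z => loc_ab h hK act z
  · exact loc_sz h hK act fun T hT => (h.ty K T hK hT).resolve_right fun z => e ⟨T, z⟩

end

end Cfsg.Agent.P21.LBb
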