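/-
P21, chapter LB: the second half of the local analysis.
-/
import Cfsg.Agent.P21.LA
import Cfsg.Agent.P21.LB0

set_option autoImplicit false
set_option linter.unusedSectionVars false
set_option linter.style.haveILetI false

namespace Cfsg.Agent.P21

open Subgroup Cfsg Cfsg.Agent Cfsg.Agent.FT Cfsg.Agent.P14
open Cfsg.Agent.H2 (CompIn)
open Cfsg.Agent.P6 (Inv Od Qt pr)
open Cfsg.Agent.P7 (br Zc)
open scoped commutatorElement

universe u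

variable {G : Type u} [Group G] [Finite G] {𝒜 : Set G} {A S X K : Subgroup G}

namespace LBb

theorem card_br {U : Subgroup G} (hU : U ≤ X) (h2 : IsPGroup 2 U) : 𝐨(br X U) = 𝐨(U) :=
  card_bar_of_disj hU (eq_bot_iff.2 fun _ hv => P7.eq_one_of_two_odd h2 (P6.odd_Od X) hv.2 hv.1)

theorem br_Z (c : Cq X K) {U : Subgroup G} :
    br X (U ⊓ Zc X K) = br X U ⊓ 𝐂(br X K) := by
  refine le_antisymm (fun z hz => ?_) fun z hz => ?_
  · obtain ⟨⟨v, _⟩, h1, rfl⟩ := H1.mem_bar.1 hz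
    exact ⟨H1.qmk_mem_bar h1.1, (c.mem_Z_iff _).1 h1.2⟩
  · obtain ⟨⟨v, _⟩, h1, rfl⟩ := H1.mem_bar.1 hz.1
    exact H1.qmk_mem_bar ⟨h1, (c.mem_Z_iff _).2 hz.2⟩

theorem mem_norm_br {U : Subgroup G} {x : X} (h : (x : G) ∈ 𝐍(U)) : pr X x ∈ 𝐍(br X U) :=
  H1.bar_le_normalizer le_rfl (H1.qmk_mem_bar h)

theorem two_pr {x : G} (hx : x ∈ X) (t : Two x) : Two (pr X ⟨x, hx⟩) :=
  t.imp fun k e => by rw [← map_pow, show (⟨x, hx⟩ : X) ^ 2 ^ k = 1 from Subtype.ext e, map_one]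

end LBb

open LBb

theorem lbStmt : LBStmt.{u} := by
  intro G _ _ 𝒜 A S h X hX hA _
  have l := h.lo hX hA
  have pA := elemAb_isPGroup h.el
  have loc : ∀ K, Act A X K → LocL (br X A) (br X K) := fun K c =>
    LBb.loc l c.comp (LA.act_br hA c)
  have cA := card_br hA pA
  have cB : ∀ K, Act A X K → 𝐨((br X A ⊓ 𝐂(br X K) : Subgroup _)) =
      𝐨((A ⊓ Zc X K : Subgroup G)) := fun K c => by
    rw [← br_Z c.toCq, card_br (inf_le_left.trans hA) (pA.to_le inf_le_left)]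
  refine ⟨fun K c => (loc K c).d2.imp (fun b D hD ho hn a ha hc => ?_) fun e => by
      rwa [cA, cB K c] at e,
    fun K c => (loc K c).ty.imp (fun e0 => ⟨cA ▸ cB K c ▸ e0.1,
      fun u hu t a ha => ?_⟩) fun e0 => ⟨?_, fun x hx => ?_, fun s hs t => ?_⟩,
    fun K c τ hτ t => ?_, fun K c hc => ?_⟩
  · refine (c.le_Z_iff hD).2 (b _ (odd_card_bar ho) (H1.bar_le_normalizer hn) _
      (H1.qmk_mem_bar (y := ⟨a, hA ha⟩) ha) ?_)
    rw [← P7.KO.bar_cent (hA ha) (by rw [← pow_two]; exact h.el.2 a ha)]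
    exact H1.bar_le_normalizer hc
  · have := e0.2 (pr X ⟨u, hu.1.1⟩) ⟨mem_norm_br hu.1.2, mem_norm_br hu.2⟩ (two_pr _ t) _
      (H1.qmk_mem_bar (y := ⟨a, hA ha⟩) ha)
    rw [← map_commutatorElement] at this
    exact (c.mem_Z_iff (⁅(⟨a, hA ha⟩ : X), (⟨u, hu.1.1⟩ : X)⁆).2).2 this
  · have e := e0.1.ndvd
    rw [← c.br_inf, H1.relIndex_bar (P7.Od_le X) (inf_le_left.trans hA) c.le,
      sup_eq_left.2 c.od] at e
    exact (H7.SC.isSyl_sup_od (inf_le_left.trans hA) (pA.to_le inf_le_left)).trans Nat.prime_two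
      (sup_le inf_le_right c.od) e
  · exact (P6.pr_eq_one (y := ⟨x, c.le hx.1⟩)).1
      (e0.2.1.le ⟨(c.mem_iff _).2 hx.1, (c.mem_Z_iff _).1 hx.2⟩)
  · obtain ⟨v, hv, e⟩ := e0.2.2 (pr X ⟨s, hs.1.1⟩) ⟨mem_norm_br hs.1.2, by
      rw [P7.br_cent hA pA]
      exact H1.qmk_mem_bar ⟨hs.1.1, hs.2⟩⟩ (two_pr _ t)
    rw [← c.br_inf] at hv
    obtain ⟨y, hy, rfl⟩ := H1.mem_bar.1 hv
    rw [← map_mul] at e
    exact ⟨y, hy, (c.mem_Z_iff (y * ⟨s, hs.1.1⟩).2).2 e⟩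
  · obtain ⟨v, hv, e1, e2⟩ := (loc K c).fix (pr X ⟨τ, c.le hτ.1⟩)
      ⟨H1.qmk_mem_bar hτ.1, mem_norm_br hτ.2⟩ (two_pr _ t)
    obtain ⟨y, hy, rfl⟩ := H1.mem_bar.1 hv
    refine ⟨y, hy, fun k => e1 ((c.mem_Z_iff y.2).1 k), mem_cent1.2 ?_⟩
    exact commutatorElement_eq_one_iff_mul_comm.1 (LA.one h.el (cml hτ.2 hy)
      ((P6.pr_comm_iff y.2 (c.le hτ.1)).1 (mem_cent1.1 e2)))
  · obtain ⟨P, hP, hAP⟩ := exists_isSyl_ge Nat.prime_two pA hA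
    have e := (loc K c).zz _ (H7.SC.isSyl_br hP) (H1.bar_mono hAP) (by
      rw [← c.br_inf, P7.br_cent hA pA]
      exact H1.bar_mono fun x hx => ⟨hP.le hx.1, hc x
        ⟨hx.2, h.sc.le_norm le_top hP.pgrp hAP hx.1⟩ (Two.of_mem hP.pgrp hx.1)⟩)
    rw [← c.br_inf, ← br_Z c.toCq, H1.bar_eq_bot_iff (inf_le_left.trans (inf_le_left.trans hA))] at e
    exact eq_bot_iff.2 fun x hx => LA.one h.el hx.1.1 (e hx)

end Cfsg.Agent.P21
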