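/-
P21, chapter Z: the components.
-/
import Cfsg.Agent.P21.Defs

set_option autoImplicit false
set_option linter.unusedSectionVars false

namespace Cfsg.Agent.P21

open Subgroup Cfsg Cfsg.Agent Cfsg.Agent.FT Cfsg.Agent.P7
open Cfsg.Agent.P14 (cq cq_surj cq_eq_one cq_eq up dn up_dn up_le coe_mem_up coe_mem_norm_up)
open Cfsg.Agent.P6 (Inv)
open scoped commutatorElement

universe u

variable {G : Type u} [Group G] [Finite G]

namespace Zz

theorem not_comm {K : Subgroup G} (qs : IsQuasisimple K) :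
    ¬ IsMulCommutative (K ⧸ center K) := fun e => by
  have := H1.isSolvable_of_isMulCommutative (X := center K) inferInstance
  have := H1.isSolvable_of_isMulCommutative e
  exact H2.QS.not_isSolvable qs
    (Group.isSolvable_of_ker_le_range (center K).subtype (cq K) (by simp))

theorem gd {K : Subgroup G} (hs : IsSimpleGroup K) (ns : ¬ Group.IsSolvable K) {T : Subgroup G}
    (h : AS T K) : Gd K :=
  have na : ¬ IsMulCommutative K := fun e => ns (H1.isSolvable_of_isMulCommutative e)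
  gd_of k3All hs na (walter k3All hs na fun P hP => (isMulComm_map_iff K.subtype_injective).1
    (isMulComm_iff_le_cent.2 (h.comm_two (hP.map _) (map_subtype_le P))))

/-- In a simple group with abelian Sylow subgroup `S` the elements of odd order of `N(S)` are
transitive on `S^#`. -/
theorem tr (hs : IsSimpleGroup G) (na : ¬ IsMulCommutative G) {S : Subgroup G} (h : AS S ⊤) :
    4 ∣ 𝐨(S) ∧ ∀ a ∈ S, a ≠ 1 → ∀ b ∈ S, b ≠ 1 →
      ∃ r ∈ 𝐍(S), Odd (orderOf r) ∧ r * a * r⁻¹ = b := by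
  have g := gd topEquiv.isSimpleGroup (ns_top hs na) h
  refine ⟨KO.four_dvd_syl h.syl (KO.four_dvd (ns_top hs na)), fun a ha a1 b hb b1 => ?_⟩
  have sq := (as_of_sq g.sq h.syl).2
  obtain ⟨x, -, rfl⟩ := g.cj a trivial b trivial ⟨a1, sq a ha⟩ ⟨b1, sq b hb⟩
  obtain ⟨k, hk, e⟩ := h.fusion ha (mem_top x) hb
  obtain ⟨R, ho, hR, dec⟩ := h.exists_compl
  obtain ⟨r, hr, s, hs, rfl⟩ := dec k hk
  refine ⟨r, (hR hr).2, ho.of_dvd_nat (orderOf_dvd_card_of_mem hr), ?_⟩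
  rw [← e, mul_assoc r s, h.comm hs ha]
  group

theorem abelian {𝒜 : Set G} {K T : Subgroup G} (ga : GA 𝒜) (qs : IsQuasisimple K)
    (hZ : IsPGroup 2 (K ⊓ 𝐂(K) : Subgroup G)) (ab : Ab2 (K ⧸ center K)) (hT : IsSyl 2 T K) :
    T ≤ 𝐂(T) := by
  have hS : IsSyl 2 (dn K T) ⊤ := H7.SC.isSyl_map cq_surj ((isSyl_map_iff K.subtype_injective).1 (by
    rwa [subgroupOf_map_subtype, inf_eq_left.2 hT.le, ← MonoidHom.range_eq_map, range_subtype]))
  have ZT : K ⊓ 𝐂(K) ≤ T := hT.le_of_le_norm Nat.prime_two hZ inf_le_left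
    (hT.le.trans (H1.le_normalizer_inf (le_norm_self K) (H1.le_normalizer_centralizer (le_norm_self K))))
  obtain ⟨h4, h⟩ := tr qs.2 (not_comm qs) ⟨hS, isMulComm_iff_le_cent.1 (ab _ hS.pgrp)⟩
  have eT : up (dn K T) = T := by rw [up_dn hT.le, sup_eq_left.2 ZT]
  generalize dn K T = S at hS h4 h eT
  subst eT
  have lift : ∀ a : K, (a : G) ∈ up S → (a : G) ∉ 𝐂(K) → ∀ b : K, (b : G) ∈ up S →
      (b : G) ∉ 𝐂(K) → ∃ d : K, (d : G) ∈ 𝐍(up S) ∧ Odd (orderOf (d : G)) ∧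
        ((d : G) * a * (d : G)⁻¹)⁻¹ * b ∈ 𝐂(K) := fun a ha a1 b hb b1 => by
    obtain ⟨r, hr, o1, e⟩ := h _ (coe_mem_up.1 ha) (mt cq_eq_one.1 a1) _ (coe_mem_up.1 hb)
      (mt cq_eq_one.1 b1)
    obtain ⟨j, hj⟩ := exists_card_eq_pow Nat.prime_two hZ
    obtain ⟨x, hx, h1⟩ := H5.exists_lift_orderOf_eq (center K) r (by
      rw [← card_map_inj K.subtype_injective, H2.map_subtype_center, hj]
      exact (Nat.coprime_two_right.2 o1).pow_right j)
    obtain rfl : cq K x = r := hx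
    exact ⟨x, coe_mem_norm_up.2 hr, by rwa [orderOf_coe, h1],
      (cq_eq (v := x * a * x⁻¹)).1 (by simpa using e)⟩
  obtain ⟨a, ha, a1, b, hb, b1, ne⟩ : ∃ a ∈ S, a ≠ 1 ∧ ∃ b ∈ S, b ≠ 1 ∧ a ≠ b := by
    by_contra! c
    have h2 := Nat.le_of_dvd Nat.card_pos h4
    obtain ⟨a, ha, a1⟩ := (bot_or_exists_ne_one S).resolve_left fun e => by
      rw [e, card_bot] at h2; omega
    have h3 : (S : Set _) ⊆ {1, a} := fun x hx => by
      by_cases e : x = 1
      exacts [Or.inl e, Or.inr (c a ha a1 x hx e).symm]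
    have h5 := (Set.ncard_le_ncard h3).trans (Set.ncard_insert_le _ _)
    rw [Set.ncard_singleton, ← Nat.card_coe_set_eq] at h5
    exact absurd (h2.trans h5) (by norm_num)
  obtain ⟨a, rfl⟩ := cq_surj a
  obtain ⟨b, rfl⟩ := cq_surj b
  obtain ⟨d, hd, od, e⟩ := lift a (coe_mem_up.2 ha) (mt cq_eq_one.2 a1) b (coe_mem_up.2 hb)
    (mt cq_eq_one.2 b1)
  obtain ⟨α, hα, αT, α1⟩ : ∃ α ∈ 𝒜, α ∈ up S ∧ (d : G) ∉ 𝐂[α] := by
    by_contra! c
    rw [← mem_cent.1 (ga.odd _ hT.pgrp d hd od c) a (coe_mem_up.2 ha), mul_inv_cancel_right] at e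
    exact ne (cq_eq.2 e)
  have α2 : α ∉ 𝐂(K) := fun e => α1 (mem_cent1.2 (mem_cent.1 e d d.2).symm)
  have dec : ∀ t ∈ up S, ∃ β ∈ up S, (β = 1 ∨ β ∈ 𝒜) ∧ β⁻¹ * t ∈ 𝐂(K) := fun t ht => by
    by_cases e : t ∈ 𝐂(K)
    · exact ⟨1, one_mem _, Or.inl rfl, by simpa using e⟩
    obtain ⟨d, hd, -, e⟩ := lift ⟨α, up_le _ αT⟩ αT α2 ⟨t, up_le _ ht⟩ ht e
    exact ⟨_, (mem_normalizer_iff.1 hd α).1 αT, Or.inr (ga.conj α hα d), e⟩
  intro x hx
  refine mem_cent.2 fun y hy => ?_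
  obtain ⟨β, hβ, β1, e1⟩ := dec x hx
  obtain ⟨γ, hγ, γ1, e2⟩ := dec y hy
  have c1 : Commute γ β := by
    rcases β1 with rfl | β1
    · exact Commute.one_right _
    rcases γ1 with rfl | γ1
    · exact Commute.one_left _
    exact ga.two _ hT.pgrp γ γ1 β β1 hγ hβ
  have c2 : Commute x γ := by
    simpa using c1.symm.mul_left (Commute.symm (mem_cent.1 e1 γ (up_le _ hγ)))
  simpa using (c2.mul_right (mem_cent.1 e2 x (up_le _ hx))).symm.eq

end Zz

theorem zStmt : ZStmt.{u} := by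
  intro G _ _ 𝒜 K T ga qs hZ kn hT
  rcases kn with ab | h3
  · have h : AS T K := ⟨hT, Zz.abelian ga qs hZ ab hT⟩
    have h0 : K ⊓ 𝐂(K) = ⊥ := eq_bot_iff.2 fun z hz => by
      have h2 := pow_mem_der h.le ((H2.QS.commutator_eq qs).ge hz.1) hz.2
      rw [comm_eq_bot_iff.2 h.ab, mem_bot] at h2
      exact P6.eq_one_of_odd_of_mem hZ hz
        ((Nat.not_even_iff_odd.1 fun k => hT.ndvd (even_iff_two_dvd.1 k)).of_dvd_nat
          (orderOf_dvd_of_pow_eq_one h2))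
    have hs := H2.isSimpleGroup_of_isQuasisimple qs ((H2.center_eq_bot_iff_inf_centralizer K).2 h0)
    have g := Zz.gd hs (H2.QS.not_isSolvable qs) h
    exact Or.inr ⟨hs, h0, g, hT, h.isMulComm, fun a ha => by
      rw [sq, (as_of_sq g.sq hT).2 a ha]⟩
  refine Or.inl (P14.zStmt G K T qs hZ (fun e => ?_) (P14.kh_thm _) hT)
  have c1 : Nat.card (K ⧸ center K) = (K ⊓ 𝐂(K)).relIndex K := by
    rw [inf_relIndex_left, ← card_top, ← P14.relIndex_cent_up, P14.up_top]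
  rw [← H1.card_mul_relIndex (inf_le_left : K ⊓ 𝐂(K) ≤ K), ← c1] at e
  obtain ⟨k, hk⟩ := exists_card_eq_pow Nat.prime_two hZ
  refine (Nat.prime_three.dvd_mul.1 e).elim (fun e => ?_) h3
  exact absurd (Nat.prime_three.dvd_of_dvd_pow (hk ▸ e)) (by norm_num)

end Cfsg.Agent.P21
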