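/-
P21: chapter B.
-/
import Cfsg.Agent.P21.Ac
import Cfsg.Agent.P21.LA
import Cfsg.Agent.P21.LB
import Cfsg.Agent.P21.I
import Cfsg.Agent.P21.II
import Cfsg.Agent.P21.B1
import Cfsg.Agent.P21.B4
import Cfsg.Agent.P21.Z
import Cfsg.Agent.P21.CI

set_option autoImplicit false

namespace Cfsg.Agent.P21

universe u

theorem bAll : BStmt.{u} := bStmt laStmt lbStmt iStmt iiStmt b1Stmt b4Stmt acStmt

end Cfsg.Agent.P21
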