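/-
P21: chapter B delivers a subgroup `A` of order at least eight.
-/
import Cfsg.Agent.P21.B4
import Cfsg.Agent.P21.BS

set_option autoImplicit false
set_option linter.unusedSectionVars false

namespace Cfsg.Agent.P21

open Subgroup Cfsg Cfsg.Agent Cfsg.Agent.FT
open Cfsg.Agent.P18 (CHyp sqs)
open Cfsg.Agent.P6 (Inv Od)

universe u

variable {G : Type u} [Group G] [Finite G]

/-- Some involution in the coset of a foreign involution has its centralizer outside `M`. -/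
theorem Sg.foreign {A S M : Subgroup G} (h : Sg A S) (h0 : M ≠ ⊤) (h1 : 𝐍(A) ≤ M)
    (h2 : ∀ a ∈ A, a ≠ 1 → 𝐂[a] ≤ M) {t : G} (tc : t ∈ 𝐂(A)) (tt : t * t = 1) (tA : t ∉ A) :
    ∃ a ∈ A, ¬ 𝐂[a * t] ≤ M := by
  by_contra! k
  have ct : 𝐂[t] ≤ M := by simpa using k 1 (one_mem A)
  have it : Inv t := ⟨fun e => tA (e ▸ one_mem A), tt⟩
  obtain ⟨a, ha, a1⟩ := (bot_or_exists_ne_one A).resolve_left h.ne
  obtain ⟨g, -, hg⟩ := SetLike.not_le_iff_exists.1 (mt top_le_iff.1 h0)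
  have ib := (h.inv ha a1).conj g
  have bM : g * a * g⁻¹ ∉ M := fun e => hg (h.mem_of_conj h1 h2 ha a1 e)
  obtain ⟨P, hP, AP⟩ := exists_isSyl_ge Nat.prime_two h.pg (mem_cent_iff_cent1.1 tc)
  have key : ∀ x : G, x * a * x⁻¹ ∈ 𝐂[t] → ∃ y ∈ 𝐂[t], y * (x * a * x⁻¹) * y⁻¹ ∈ A := fun x hx => by
    obtain ⟨y, hy, e⟩ := hP.exists_conj_le Nat.prime_two ((h.inv ha a1).conj x).isPGroup
      (zpowers_le.2 hx)
    have := e (conj_mem_conj (mem_zpowers _) y)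
    rw [show y * (x * a * x⁻¹) * y⁻¹ = y * x * a * (y * x)⁻¹ by group] at this
    exact ⟨y, hy, by
      rw [show y * (x * a * x⁻¹) * y⁻¹ = y * x * a * (y * x)⁻¹ by group]
      exact h.sc P le_top hP.pgrp AP a ha _ trivial this⟩
  rcases Nat.even_or_odd (orderOf (t * (g * a * g⁻¹))) with e | e
  swap
  · obtain ⟨x, -, e⟩ := P6.exists_conj_of_odd ib it (by
      rw [← orderOf_inv, mul_inv_rev, it.inv_eq, ib.inv_eq]; exact e)
    have e' : x * g * a * (x * g)⁻¹ = t := by rw [← e]; group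
    obtain ⟨y, hy, e⟩ := key (x * g) (e' ▸ self_mem_cent1 t)
    exact tA (by rwa [e', mem_cent1_iff_conj.1 hy] at e)
  obtain ⟨n, k1, k2, k3, k4⟩ := L.exists_invol_commute_of_even tt ib.sq e
  generalize hb : g * a * g⁻¹ = b at ib bM k1 k2 k3 k4
  have i1 := fun j : ℕ => P6.inverts_of_mem_zpowers (x := t * b) ib.sq
    (by rw [mul_assoc, mul_assoc, ib.sq, mul_one, mul_inv_rev, ib.inv_eq, it.inv_eq])
    (pow_mem (mem_zpowers _) j)
  have cM := ct (mem_cent1.2 k3.symm)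
  rcases Nat.even_or_odd' n with ⟨j, rfl | rfl⟩
  · have e1 : b * (t * b) ^ (2 * j) = ((t * b) ^ j)⁻¹ * g * a * (((t * b) ^ j)⁻¹ * g)⁻¹ := by
      calc _ = b * (t * b) ^ j * b * b * (t * b) ^ j := by
            rw [mul_assoc _ b b, ib.sq, mul_one, two_mul, pow_add, mul_assoc]
        _ = _ := by rw [i1, ← hb]; group
    generalize (t * b) ^ (2 * j) = c at k1 k2 k3 k4 cM e1
    obtain ⟨w, -, hw⟩ := h.syl.exists_conj_le Nat.prime_two (Q := zpowers b ⊔ zpowers c)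
      (isPGroup_sup ib.isPGroup (Inv.isPGroup ⟨k1, k2⟩) (zpowers_le.2 (cent_le_norm _
        (by rw [cent_zpowers]; exact mem_cent1.2 k4)))) le_top
    have w1 := h.scl a ha (w * g) trivial (by
      have := hw (conj_mem_conj (mem_sup_left (mem_zpowers b)) w)
      rw [← hb] at this
      convert this using 1; group)
    have w2 := h.scl a ha (w * (((t * b) ^ j)⁻¹ * g)) trivial (by
      have := hw (conj_mem_conj (mul_mem (mem_sup_left (mem_zpowers b))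
        (mem_sup_right (mem_zpowers c))) w)
      rw [e1] at this
      convert this using 1; group)
    have w3 : w * c * w⁻¹ ∈ A := by
      have := mul_mem (inv_mem w1) w2
      convert this using 1
      rw [eq_inv_mul_of_mul_eq e1, ← hb]; group
    have w4 := h.mem_of_conj h1 h2 w3 (by simpa using k1) (g := w⁻¹) (by simpa [mul_assoc] using cM)
    have w5 := h2 _ w3 (by simpa using k1)
    rw [cent1_conj, conj_le_iff, conj_eq_of_mem w4] at w5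
    exact bM (w5 (mem_cent1.2 k4))
  · have e1 : t * (t * b) ^ (2 * j + 1) = ((t * b) ^ j)⁻¹ * g * a * (((t * b) ^ j)⁻¹ * g)⁻¹ := by
      calc _ = b * (t * b) ^ j * b * b * (t * b) ^ j := by
            rw [mul_assoc _ b b, ib.sq, mul_one, pow_succ', mul_assoc t b, it.mul_cancel_left,
              two_mul, pow_add, mul_assoc]
        _ = _ := by rw [i1, ← hb]; group
    generalize (t * b) ^ (2 * j + 1) = c at k1 k2 k3 k4 cM e1
    obtain ⟨y, hy, e2⟩ := key _ (e1 ▸ mul_mem (self_mem_cent1 t) (mem_cent1.2 k3.symm))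
    have e3 := k _ e2
    have e4 : y * (t * c) * y⁻¹ * t = y * c * y⁻¹ := by
      nth_rw 2 [← mem_cent1_iff_conj.1 hy]
      rw [conj_mul, ← k3.eq, it.mul_cancel_right]
    rw [← e1, e4, cent1_conj, conj_le_iff, conj_eq_of_mem (inv_mem (ct hy))] at e3
    exact bM (e3 (mem_cent1.2 k4))

/-- Four-groups: the signalizer case does not occur. -/
theorem b4_of {𝒜 : Set G} {A S W : Subgroup G} (h : Gx 𝒜 A S) (c4 : 𝐨(A) = 4) (cen : S ≤ 𝐂(A))
    (hs : A ≤ sqs S) (c : CHyp A W) : Ab2 G ∨ ∃ S' Z W Q d, Ac 𝒜 A S' Z W Q d := by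
  have f4 := h.sg.f4 c4
  by_cases e : ∀ t ∈ S, t * t = 1 → t ∈ A
  · exact Or.inl (B4.ab2 h.toGl f4 cen e)
  push Not at e
  obtain ⟨t, ht, tt, tA⟩ := e
  have tc := cen ht
  obtain ⟨a, ha, k⟩ := h.sg.foreign c.ne le_sup_right c.cent tc tt tA
  have c1 := mul_mem (h.sg.cc ha) tc
  have n1 : a * t ∉ A := by rwa [mul_mem_cancel_left ha]
  have AC := mem_cent_iff_cent1.1 c1
  refine Or.inr (B4.exists_ac h f4 (fun T hT hA a ha =>
    P18.BS.transfer (hT.of_le (P18.B4.two_le_cent f4 h.sc hT.pgrp hA) le_top) (hA ha)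
      (cent_comm.1 le_rfl ha) (P18.BS.sqs_mono cen (hs ha)) (h.sg.sq ha)) (e0 := a * t)
    ⟨?_, n1, c1, by_contra fun na => k ((B4.b2 h _ (h.sg.cent_ne (a := a * t)
      fun e => n1 (e ▸ one_mem A)) AC
      na).trans (sup_le ?_ (inf_le_right.trans le_sup_right)))⟩)
  · rw [(show Commute t a from (tc a ha).symm).mul_mul_mul_comm, h.sg.sq ha, tt, one_mul]
  · exact H1.le_of_forall_centralizer_le h.el.1
      (IsElem.not_isCyclic (p := 2) (n := 2) Nat.prime_two ⟨h.el, c4⟩ le_rfl)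
      (AC.trans (P7.le_norm_Od _))
      (H1.coprime_card_of_isPGroup h.sg.pg (Nat.coprime_two_right.2 (P6.odd_Od _))).symm
      fun b hb b1 => inf_le_right.trans (c.cent b hb b1)

/-- Chapter B with `|A| ≥ 8`. -/
def B8Stmt : Prop := ∀ (G : Type u) [Group G] [Finite G] (𝒜 : Set G), Amb 𝒜 →
  (∃ A S W : Subgroup G, Gl 𝒜 A S ∧ CHyp A W ∧ 8 ≤ 𝐨(A)) ∨ Ab2 G

/-- Chapter C with `|A| ≥ 8`. -/
def C8Stmt : Prop := ∀ (G : Type u) [Group G] [Finite G] (𝒜 : Set G), CI G 𝒜 →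
  KI.{u} (Nat.card G) → ∀ A S W : Subgroup G, Gl 𝒜 A S → CHyp A W → 8 ≤ 𝐨(A) → Kn G

theorem b8Stmt (hA : LAStmt.{u}) (hB : LBStmt.{u}) (h1 : IStmt.{u}) (h2 : IIStmt.{u})
    (h3 : B1Stmt.{u}) (h5 : AcStmt.{u}) : B8Stmt.{u} := by
  intro G _ _ 𝒜 h
  obtain ⟨S, hS, -⟩ := exists_isSyl_ge Nat.prime_two (IsPGroup.of_bot (p := 2) (G := G)) le_top
  by_cases hall : ∀ A, Gl 𝒜 A S → Good A S
  · exact Or.inr (BS.ab2 h hS hall)
  push Not at hall
  obtain ⟨A, g, hn⟩ := hall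
  have x := g.gx hA hB pumpStmt
  have nb : ∀ a K, ¬ Bk A a K := fun a K b => by
    obtain ⟨a, K, b⟩ := exists_mb b
    refine h1 G 𝒜 A S x a K b fun y hy e => hn (h2 G 𝒜 A S x a K b y hy e)
  by_cases h8 : 8 ≤ 𝐨(A)
  · exact Or.inl ((h3 G 𝒜 A S x nb h8).elim fun W k => ⟨A, S, W, g, k, h8⟩)
  have c4 : 𝐨(A) = 4 := by
    have := g.sg.four
    obtain ⟨k, hk⟩ := exists_card_eq_pow Nat.prime_two g.sg.pg
    rw [hk] at h8 this ⊢
    have h6 : k < 3 := (Nat.pow_lt_pow_iff_right one_lt_two).1 (show 2 ^ k < 2 ^ 3 by omega)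
    interval_cases k <;> simp_all
  have cen := g.sg.cen4 c4
  have hs := g.le_sqs cen fun e => hn ⟨cen, e⟩
  have k : Ab2 G ∨ ∃ S' Z W Q d, Ac 𝒜 A S' Z W Q d :=
    (b4Stmt G 𝒜 A S x nb c4 cen hs).elim (fun ⟨_, k⟩ => b4_of x c4 cen hs k) id
  exact Or.inr (k.resolve_right fun ⟨S', Z, W, Q, d, k⟩ => h5 G 𝒜 A S' Z W Q d k)

theorem cStmt_of (hB : B8Stmt.{u}) (hC : C8Stmt.{u}) : CStmt.{u} :=
  fun G _ _ 𝒜 ci kh _ _ _ g _ => (hB G 𝒜 g.toAmb).elim
    (fun ⟨A, S, W, g, c, h8⟩ => hC G 𝒜 ci kh A S W g c h8) Or.inl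

theorem bStmt_of (hB : B8Stmt.{u}) : BStmt.{u} := fun G _ _ 𝒜 h =>
  (hB G 𝒜 h).imp_left fun ⟨A, S, W, g, c, _⟩ => ⟨A, S, W, g, c⟩

end Cfsg.Agent.P21
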