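/-
P21, chapter C: interface (port of `P18/C0`; the proper subgroups are of type `SL₂(2 ^ n)` or
`Sz(2 ^ n)`).
-/
import Cfsg.Agent.P21.Defs
import Cfsg.Agent.P14.C

set_option autoImplicit false
set_option linter.unusedSectionVars false

namespace Cfsg.Agent.P14.C

open Subgroup Cfsg Cfsg.Agent Cfsg.Agent.FT MulAction Cfsg.Agent.P6
open scoped commutatorElement

universe u v

variable {G : Type u} [Group G] [Finite G] [ICl G]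

/-- The Sylow 2-subgroup of `L` at the point `γ`. -/
structure BXp (Ω : Type v) [MulAction G Ω] (N L : Subgroup G) (q e : ℕ) (γ : Ω)
    (T : Subgroup G) : Prop where
  syl : IsSyl 2 T L
  le : T ≤ stabilizer G γ
  card : 𝐨(T) = q ^ e
  norm : N ⊓ stabilizer G γ ≤ 𝐍((T ⊔ Od N : Subgroup G))
  tr : ∀ δ ∈ Fx Ω N, δ ≠ γ → ∀ ε ∈ Fx Ω N, ε ≠ γ → ∃ t ∈ T, t • δ = ε
  free : ∀ t ∈ T, ∀ δ ∈ Fx Ω N, δ ≠ γ → t • δ = δ → t = 1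
  cardI : {t : G | t ∈ T ∧ t * t = 1}.ncard = q
  cen : ∀ t ∈ T, t * t = 1 → t ∈ 𝐂(T)

/-- `L / O(N)` is `SL₂(2 ^ n)` (`e = 1`) or `Sz(2 ^ n)` (`e = 2`) in the natural action on
`Fx Ω N`. -/
structure BXd (Ω : Type v) [MulAction G Ω] (N L : Subgroup G) (n e : ℕ) : Prop where
  normal : L ⊲ N
  od : Od N ≤ L
  mem : ∀ a ∈ N, In a → a ∈ L
  inv : ∀ t ∈ L, Inv t → In t
  ty : e = 1 ∧ 2 ≤ n ∨ e = 2 ∧ Odd n ∧ 3 ≤ n
  card : (Fx Ω N).ncard = (2 ^ n) ^ e + 1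
  fix3 : ∀ x ∈ L, ∀ α ∈ Fx Ω N, ∀ β ∈ Fx Ω N, ∀ γ ∈ Fx Ω N, α ≠ β → α ≠ γ → β ≠ γ →
    x • α = α → x • β = β → x • γ = γ → x ∈ Od N
  pt : ∀ γ ∈ Fx Ω N, ∃ T, BXp Ω N L (2 ^ n) e γ T
  real : ∀ Y ≤ L, Odd 𝐨(Y) → ∃ c ∈ N, In c ∧ ∀ k ∈ Y, c * k * c = k⁻¹ → k ∈ Od N
  aut : ∀ x ∈ N, ∀ γ ∈ Fx Ω N, ∀ δ ∈ Fx Ω N, γ ≠ δ → x • γ = γ → x • δ = δ →
    (∀ a ∈ N, In a → a • γ = γ → ⁅x, a⁆ ∈ Od N) → ∀ y ∈ L, ⁅x, y⁆ ∈ Od N

/-- What the induction gives for a proper subgroup `N`. -/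
def BX (Ω : Type v) [MulAction G Ω] (N : Subgroup G) : Prop := ∃ L n e, BXd Ω N L n e

/-- The strongly embedded class inside the class `𝒜` of a minimal counterexample. -/
structure Pse (𝒜 : Set G) (Ω : Type v) [MulAction G Ω] : Prop extends SE G Ω where
  amb : P21.Amb 𝒜
  sub : ∀ a : G, In a → a ∈ 𝒜
  two : Nontrivial Ω
  cm : ∀ (a b : G) (α : Ω), In a → In b → a • α = α → b • α = α → ⁅a, b⁆ ∈ Od (stabilizer G α)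

/-- The simple group of chapter C (`|A| ≥ 8`). -/
structure Pin0 (𝒜 : Set G) (Ω : Type v) [MulAction G Ω] : Prop extends Pse 𝒜 Ω where
  pt : ∀ α : Ω, ∃ A, Pt (stabilizer G α) A

/-- The same, with the structure of the proper subgroups. -/
structure Pin (𝒜 : Set G) (Ω : Type v) [MulAction G Ω] : Prop extends Pin0 𝒜 Ω where
  ih : ∀ N : Subgroup G, N ≠ ⊤ → Rk2 N → (Fx Ω N).Nontrivial → BX Ω N

/-- The hypothesis of step (D). -/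
structure Pc (𝒜 : Set G) (Ω : Type v) [MulAction G Ω] : Prop extends Pin 𝒜 Ω where
  comm : IComm G Ω
  tr2 : ∀ α β γ : Ω, α ≠ β → α ≠ γ → ∃ g ∈ stabilizer G α, g • β = γ
  l1 : ∀ r : ℕ, r.Prime → r ≠ 2 → ∀ X : Subgroup G, IsPGroup r X → (Fx Ω 𝐂(X)).Nonempty →
    ∀ δ : Ω, X ≤ stabilizer G δ → δ ∈ Fx Ω 𝐂(X)
  l2 : (∀ t : G, Inv t → In t) → ∀ r : ℕ, r.Prime → r ≠ 2 → ∀ X : Subgroup G, IsPGroup r X →
    Fx Ω 𝐂(X) = ∅ → ∀ δ ε ζ : Ω, X ≤ stabilizer G δ → X ≤ stabilizer G ε →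
    X ≤ stabilizer G ζ → δ ≠ ε → δ ≠ ζ → ε = ζ

/-- Piece BX: the proper subgroups. -/
def BXStmt : Prop := ∀ (G : Type u) [Group G] [Finite G] [ICl G] (𝒜 : Set G) (Ω : Type u)
  [MulAction G Ω], Pse 𝒜 Ω → ∀ N : Subgroup G, N ≠ ⊤ → Rk2 N → (Fx Ω N).Nontrivial → BX Ω N

/-- Piece W: the odd cores at two points. -/
def CWStmt : Prop := ∀ (G : Type u) [Group G] [Finite G] [ICl G] (𝒜 : Set G) (Ω : Type u)
  [MulAction G Ω], Pin 𝒜 Ω →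
  (∀ (α : Ω) (M : Subgroup G) (g : G), stabilizer G α ≤ M → g ∈ M → g • α ≠ α → M = ⊤) →
  ∀ α β : Ω, α ≠ β → Od (stabilizer G α) ≤ Cb (stabilizer G β) →
  Od (stabilizer G β) ≤ Cb (stabilizer G α) → Od (stabilizer G α) = ⊥

/-- Piece B: a Sylow subgroup of a point stabilizer fixes no second point. -/
def CBStmt : Prop := ∀ (G : Type u) [Group G] [Finite G] [ICl G] (𝒜 : Set G) (Ω : Type u)
  [MulAction G Ω], Pin 𝒜 Ω →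
  (∀ (α : Ω) (M : Subgroup G) (g : G), stabilizer G α ≤ M → g ∈ M → g • α ≠ α → M = ⊤) →
  ∀ p : ℕ, p.Prime → p ≠ 2 → ¬ NW G Ω p →
  ∀ (R : Subgroup G) (α β : Ω), α ≠ β → R ≤ stabilizer G β → IsSyl p R (stabilizer G α) → False

/-- Piece M: double transitivity. -/
def CMStmt : Prop := ∀ (G : Type u) [Group G] [Finite G] [ICl G] (𝒜 : Set G) (Ω : Type u)
  [MulAction G Ω], Pin 𝒜 Ω → Pc 𝒜 Ω

/-- Step (D) and the endgame. -/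
def CDStmt : Prop := ∀ (G : Type u) [Group G] [Finite G] [ICl G] (𝒜 : Set G) (Ω : Type u)
  [MulAction G Ω], P21.CI G 𝒜 → P21.KI.{u} (Nat.card G) → Pc 𝒜 Ω → P21.Kn G

/-- The setup. -/
def CSStmt : Prop := ∀ (G : Type u) [Group G] [Finite G] (𝒜 : Set G) (A S W : Subgroup G),
  P21.Gl 𝒜 A S → P18.CHyp A W → 8 ≤ 𝐨(A) → ∃ _ : ICl G, Pin0 𝒜 (G ⧸ (W ⊔ 𝐍(A)))

/-- The case of a four-group. -/
def C4Stmt : Prop := ∀ (G : Type u) [Group G] [Finite G] (𝒜 : Set G), P21.CI G 𝒜 →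
  P21.KI.{u} (Nat.card G) → ∀ A S W : Subgroup G, P21.Gl 𝒜 A S → P18.CHyp A W → 𝐨(A) = 4 →
  P21.Kn G

theorem cStmt_of (hS : CSStmt.{u}) (h4 : C4Stmt.{u}) (hX : BXStmt.{u}) (hM : CMStmt.{u})
    (hD : CDStmt.{u}) : P21.CStmt.{u} := by
  intro G _ _ 𝒜 ci ki A S W g h
  by_cases e : 𝐨(A) = 4
  · exact h4 G 𝒜 ci ki A S W g h e
  have h8 : 8 ≤ 𝐨(A) := by
    obtain ⟨k, hk⟩ := exists_card_eq_pow Nat.prime_two (elemAb_isPGroup h.el)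
    have h4 := h.four
    rw [hk] at h4 e ⊢
    rcases k with _ | _ | _ | k
    · omega
    · omega
    · omega
    · exact Nat.pow_le_pow_right two_pos (by omega : 3 ≤ k + 1 + 1 + 1)
  obtain ⟨_, p⟩ := hS G 𝒜 A S W g h h8
  exact hD G 𝒜 _ ci ki (hM G 𝒜 _ ⟨p, hX G 𝒜 _ p.toPse⟩)

end Cfsg.Agent.P14.C
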