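/-
P21, chapter C, piece BT: groups with trivial odd core.
-/
import Cfsg.Agent.P21.LA0
import Cfsg.Agent.P14.CT

set_option autoImplicit false
set_option linter.unusedSectionVars false

namespace Cfsg.Agent.P14.C

open Subgroup Cfsg Cfsg.Agent Cfsg.Agent.FT MulAction Cfsg.Agent.P6
open Cfsg.Agent.H2 (CompIn SnIn)
open Cfsg.Agent.P21 (AbT Ty)
open scoped commutatorElement

universe u v

variable {G : Type u} [Group G] [Finite G] [ICl G] {Ω : Type v} [MulAction G Ω]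

/-- `K` is `L₂(2 ^ n)` (`e = 1`) or `Sz(2 ^ n)` (`e = 2`) and `T` is a Sylow 2-subgroup. -/
structure Zt4 {G : Type u} [Group G] (K T : Subgroup G) (n e : ℕ) : Prop where
  syl : IsSyl 2 T K
  ty : e = 1 ∧ 2 ≤ n ∨ e = 2 ∧ Odd n ∧ 3 ≤ n
  cardI : {t : G | t ∈ T ∧ t * t = 1}.ncard = 2 ^ n
  cardT : 𝐨(T) = (2 ^ n) ^ e
  cardK : 𝐨(K) = (2 ^ n) ^ e * (2 ^ n - 1) * ((2 ^ n) ^ e + 1)
  cen : ∀ t ∈ T, t * t = 1 → t ∈ 𝐂(T)
  tr : ∀ x ∈ T, Inv x → ∀ y ∈ T, Inv y → ∃ d ∈ K ⊓ 𝐍(T), d * x * d⁻¹ = y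
  cent : ∀ s ∈ T, s ≠ 1 → K ⊓ 𝐂[s] ≤ T
  ti : ∀ s ∈ T, s ≠ 1 → ∀ g ∈ K, g * s * g⁻¹ ∈ T → g ∈ 𝐍(T)

omit [ICl G] in
theorem zt4_sz {K T Zh : Subgroup G} {n r : ℕ} (z : SzT K T Zh n r) (h0 : K ⊓ 𝐂(K) = ⊥) :
    Zt4 K T n 2 := by
  have e1 : ∀ x ∈ K, x ∈ 𝐂(K) → x = 1 := fun x a b => h0.le ⟨a, b⟩
  have nc : ∀ x ∈ T, x ≠ 1 → x ∉ 𝐂(K) := fun x a b c => b (e1 x (z.le a) c)
  have zh : ∀ x, x ∈ Zh ↔ x ∈ T ∧ x * x = 1 := fun x => by
    rw [z.zh]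
    exact and_congr_right fun hx => ⟨e1 _ (z.le (mul_mem hx hx)), fun e => e ▸ one_mem _⟩
  have ri : ∀ U ≤ K, 𝐂(K).relIndex U = 𝐨(U) := fun U hU => by
    rw [← inf_relIndex_right, show 𝐂(K) ⊓ U = ⊥ from
      eq_bot_iff.2 fun x hx => mem_bot.2 (e1 x (hU hx.2) hx.1), relIndex_bot_left]
  have cZ : 𝐨(Zh) = 2 ^ n := ri Zh (z.zle.trans z.le) ▸ z.cardZ
  refine ⟨z.syl, Or.inr ⟨rfl, z.odd, z.three⟩, ?_, ?_, ri K le_rfl ▸ z.cardK,
    fun x hx xx t ht => commutatorElement_eq_one_iff_mul_comm.1 (e1 _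
      (z.le (cmr (le_normalizer ht) hx)) (z.cen (commutator_mem_commutator ht ((zh x).2 ⟨hx, xx⟩)))),
    fun x hx ix y hy iy => ?_, fun s hs s1 g hg => z.cent s hs (nc s hs s1) g hg.1 (by
      rw [commutatorElement_eq_one_iff_mul_comm.2 (mem_cent1.1 hg.2).symm]; exact one_mem _),
    fun s hs s1 => z.ti s hs (nc s hs s1)⟩
  · rw [← cZ, ← SetLike.coe_sort_coe, Nat.card_coe_set_eq]
    exact congrArg _ (Set.ext fun x => (zh x).symm)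
  · rw [← H1.card_mul_relIndex z.zle, cZ, z.cardT, pow_two]
  · obtain ⟨d, hd, -, e⟩ := z.trZ x ((zh x).2 ⟨hx, ix.sq⟩) (nc x hx ix.ne) y ((zh y).2 ⟨hy, iy.sq⟩)
      (nc y hy iy.ne)
    exact ⟨d, hd, inv_mul_eq_one.1 (e1 _ (z.le (mul_mem (inv_mem (cjm hd.2 hx)) hy)) e)⟩

omit [ICl G] in
theorem zt4_ab {K T : Subgroup G} (z : AbT K T) (ns : ¬ Group.IsSolvable K) (he : P7.Eac K)
    {b c : G} (hb : Inv b) (bT : b ∈ T) (hc : Inv c) (cK : c ∈ K) (bc : b * c ≠ c * b) :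
    ∃ n, Zt4 K T n 1 := by
  have a := P21.LA.ab_as z
  have u := P21.LA.ut_ab z ns
  have sq := fun x (hx : x ∈ T) => P21.LA.ab_sq z hx
  have ce : ∀ s ∈ T, s ≠ 1 → K ⊓ 𝐂[s] = T := fun s hs s1 =>
    z.syl.eq_of_le Nat.prime_two (le_inf a.le (a.ab.trans (cent_le_cent1 hs))) inf_le_left
      fun x => ⟨1, Subtype.ext (by
        rw [pow_one, pow_two]; exact he s (a.le hs) ⟨s1, sq s hs⟩ x x.2.1 x.2.2)⟩
  have he' : L.EAC K := fun t x t1 tt k => Subtype.ext (he t t.2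
    ⟨fun e => t1 (Subtype.ext e), congrArg Subtype.val tt⟩ x x.2
      (mem_cent1.2 (congrArg Subtype.val k.eq)))
  have c1 : Nat.card (centralizer ({(⟨b, a.le bT⟩ : K)} : Set K)) = 𝐨(T) := by
    refine Eq.trans ?_ (congrArg (fun X : Subgroup G => 𝐨(X)) (ce b bT hb.ne))
    rw [inf_comm, ← subgroupOf_map_subtype, card_map_of_injective K.subtype_injective]
    exact congrArg (fun X : Subgroup K => 𝐨(X)) (Subgroup.ext fun x => by
      rw [mem_subgroupOf, mem_cent1, mem_cent1, Subtype.ext_iff]; rfl)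
  obtain ⟨x, hx, x1, y, hy, y1, xy⟩ := u.ex2
  obtain ⟨n, h1, h2, h3, -⟩ := he'.exists_galoisField (t := ⟨b, a.le bT⟩) (u := ⟨c, cK⟩)
    (fun e => hb.ne (congrArg Subtype.val e)) (Subtype.ext hb.sq) (Subtype.ext hc.sq)
    (fun e => bc (congrArg Subtype.val e.eq)) (c1 ▸ lt_of_lt_of_le (by decide)
      (P21.LA.four_le z.syl.pgrp hx hy (fun e => x1 (e ▸ one_mem _)) (fun e => y1 (e ▸ one_mem _))
        fun e => xy (by simp [e])))
  rw [c1] at h2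
  refine ⟨n, z.syl, Or.inl ⟨rfl, h1⟩, ?_, by rw [pow_one, h2], by rw [pow_one, h3],
    fun t ht _ => a.ab ht, fun x hx ix y hy iy => ?_, fun s hs s1 => (ce s hs s1).le,
    fun s hs s1 g hg e => conj_eq_self_iff.1 ?_⟩
  · rw [← h2, ← SetLike.coe_sort_coe, Nat.card_coe_set_eq]
    exact congrArg _ (Set.ext fun x => ⟨(·.1), fun h => ⟨h, sq x h⟩⟩)
  · obtain ⟨d, hd, -, e⟩ := u.tr x hx ((P21.LA.ab_not z (a.le hx)).2 ix.ne) y hy
      ((P21.LA.ab_not z (a.le hy)).2 iy.ne)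
    exact ⟨d, hd, inv_mul_eq_one.1 (z.cen.le ⟨a.le (mul_mem (inv_mem (cjm hd.2 hx)) hy), e⟩)⟩
  · refine Eq.trans ?_ (ce _ e (by simpa using s1))
    rw [cent1_conj, ← ce s hs s1, conj_inf, conj_eq_of_mem hg]

namespace Zt4

omit [ICl G]

variable {K T : Subgroup G} {n e : ℕ} (z : Zt4 K T n e)
include z

theorem le : T ≤ K := z.syl.le

theorem two_le : 2 ≤ n := by have := z.ty; omega

theorem relIndex_eq {b : G} (hb : Inv b) (bT : b ∈ T) : T.relIndex (K ⊓ 𝐍(T)) = 2 ^ n - 1 := by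
  have b1 : 𝐂[b] ⊓ (K ⊓ 𝐍(T)) = T := le_antisymm
    (fun x hx => z.cent b bT hb.ne ⟨hx.2.1, hx.1⟩)
    (le_inf (mem_cent_iff_cent1.1 (z.cen b bT hb.sq)) (le_inf z.le (le_norm_self T)))
  rw [← z.cardI, ← Set.ncard_sdiff_singleton_of_mem
    (show (1 : G) ∈ {t : G | t ∈ T ∧ t * t = 1} from ⟨one_mem T, mul_one 1⟩)]
  nth_rw 1 [← b1]
  rw [inf_relIndex_right, ← ncard_class]
  congr 1
  ext y
  exact ⟨fun ⟨d, hd, e⟩ => e ▸ ⟨⟨cjm hd.2 bT, (hb.conj d).sq⟩, (hb.conj d).ne⟩,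
    fun hy => z.tr b bT hb y hy.1.1 ⟨hy.2, hy.1.2⟩⟩

theorem card_norm {b : G} (hb : Inv b) (bT : b ∈ T) :
    𝐨((K ⊓ 𝐍(T) : Subgroup G)) = (2 ^ n) ^ e * (2 ^ n - 1) := by
  rw [← H1.card_mul_relIndex (le_inf z.le (le_norm_self T)), z.cardT, z.relIndex_eq hb bT]

theorem mem_of_two {x : G} {k : ℕ} (h0 : x ^ 2 ^ k = 1) (h1 : x ∈ K ⊓ 𝐍(T)) : x ∈ T :=
  zpowers_le.1 (z.syl.le_of_norm Nat.prime_two (two_zp h0) (zpowers_le.2 h1.1) (zpowers_le.2 h1.2))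

/-- The normalizer of `T` is a maximal subgroup of `K`. -/
theorem max {b : G} (hb : Inv b) (bT : b ∈ T) {M : Subgroup G} (h1 : K ⊓ 𝐍(T) ≤ M) {x : G}
    (hx : x ∈ K ⊓ M) (hn : x ∉ 𝐍(T)) : K ≤ M := by
  have a1 := P2.ncard_bruhat (B := K ⊓ 𝐍(T)) (Q := T) (t := x) (le_inf z.le (le_norm_self T))
    (fun k => hn k.2) fun u hu y hy k => by
      by_contra y1
      obtain ⟨j, hj⟩ := pow_two_pow z.syl.pgrp hy
      refine hn (z.ti y hy y1 x hx.1 (z.mem_of_two (k := j) (by rw [conj_pow, hj]; simp) ?_))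
      rw [show x * y * x⁻¹ = u⁻¹ * (u * x * y) * x⁻¹ by group, k, mul_inv_cancel_right]
      exact inv_mem hu
  rw [z.card_norm hb bT, z.cardT, ← z.cardK, ← SetLike.coe_sort_coe, Nat.card_coe_set_eq] at a1
  have a2 : {g | g ∈ K ⊓ 𝐍(T) ∨ ∃ u ∈ K ⊓ 𝐍(T), ∃ y ∈ T, g = u * x * y} ⊆ (K ⊓ M : Subgroup G) := by
    rintro _ (hg | ⟨u, hu, y, hy, rfl⟩)
    · exact ⟨hg.1, h1 hg⟩
    · exact mul_mem (mul_mem (⟨hu.1, h1 hu⟩ : u ∈ K ⊓ M) hx)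
        ⟨z.le hy, h1 ⟨z.le hy, le_normalizer hy⟩⟩
  exact fun g hg => (a2 ((Set.eq_of_subset_of_ncard_le (fun y hy => (a2 hy).1) a1.ge
    (Set.toFinite _)).ge hg)).2

end Zt4

/-- The situation in `N / O(N)`. -/
structure Co4 (G : Type u) (Ω : Type v) [Group G] [Finite G] [ICl G] [MulAction G Ω] : Prop
    extends SE G Ω where
  od : Od (⊤ : Subgroup G) = ⊥
  two : (Fx Ω (⊤ : Subgroup G)).Nontrivial
  ty : Ty G

namespace Co4

variable (h : Co4 G Ω)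
include h

theorem conj {a b : G} (ha : In a) (hb : In b) : ∃ g, g * a * g⁻¹ = b :=
  (h.toSE.exists_conj h.two ha hb (mem_top _) (mem_top _)).imp fun _ e => e.2

theorem other (δ : Ω) : ∃ b : G, In b ∧ b • δ ≠ δ := by
  obtain ⟨α, ⟨a, -, ha, ea⟩, β, ⟨b, -, hb, eb⟩, hne⟩ := h.two
  by_contra hc
  push Not at hc
  exact hne ((h.uniq ha ea (hc a ha)).trans (h.uniq hb eb (hc b hb)).symm)

theorem not_mem_core {a : G} (ha : In a) : a ∉ pCoreOf 2 (⊤ : Subgroup G) := fun hm => by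
  obtain ⟨δ, e⟩ := h.ex ha
  obtain ⟨b, hb, e'⟩ := h.other δ
  obtain ⟨g, rfl⟩ := h.conj ha hb
  exact e' (h.toSE.fix_of_commute ha e (ha.comm_of_two hb (H2.isPGroup_pCoreOf 2 ⊤) hm
    (cjm ((pCoreOf_normal 2 ⊤).2 (mem_top g)) hm)))

theorem mem_cent_core {a : G} (ha : In a) : a ∈ 𝐂(pCoreOf 2 (⊤ : Subgroup G)) := fun x hx => by
  obtain ⟨S, hS, hA⟩ := exists_isSyl_ge (M := ⊤) Nat.prime_two ha.isPGroup le_top
  have aS := hA (mem_zpowers a)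
  have xS := hS.pCoreOf_le Nat.prime_two hx
  by_contra hn
  refine h.not_mem_core (ha.mul (ha.conj x) (fun e => hn (eq_mul_inv_iff_mul_eq.1 e).symm)
    (ha.comm_of_two (ha.conj x) hS.pgrp aS (cjm (le_normalizer xS) aS))) ?_
  have := cmr ((pCoreOf_normal 2 ⊤).2 (mem_top a)) hx
  rwa [commutatorElement_def, ha.inv_eq, mul_assoc, mul_assoc, ← mul_assoc x] at this

theorem fit : fittingOf (⊤ : Subgroup G) = pCoreOf 2 ⊤ := fittingOf_eq_pCoreOf Nat.prime_two h.od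

theorem ex_comp {a : G} (ha : In a) : ∃ K, CompIn ⊤ K ∧ a ∉ 𝐂(K) := by
  by_contra hc
  push Not at hc
  refine h.not_mem_core ha ?_
  have h1 := h.mem_cent_core ha
  rw [← h.fit] at h1 ⊢
  refine H2.inf_centralizer_fstarOf_le_fittingOf ⊤ ⟨mem_top _, ?_⟩
  rw [H2.fstarOf_eq, cent_sup, H2.layerOf_eq_sSup]
  exact ⟨mem_cent_iff_cent1.2 (sSup_le fun K hK => mem_cent_iff_cent1.1 (hc K hK)), h1⟩

theorem ex_in {a : G} (ha : In a) {Y : Subgroup G} (hY : SnIn ⊤ Y) (hn : a ∈ 𝐍(Y))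
    (hc : a ∉ 𝐂(Y)) : ∃ b ∈ Y, In b := by
  by_contra hb
  push Not at hb
  have hn' : zpowers a ≤ 𝐍(Y) := zpowers_le.2 hn
  have key : ∀ c ∈ Y ⊔ zpowers a, In c → c * a ∈ Y := fun c hc ic => by
    obtain ⟨y, hy, z, hz, rfl⟩ := (mem_sup_of_norm hn').1 hc
    rcases ha.toInv.mem_zpowers_iff.1 hz with rfl | rfl
    · exact absurd ic (hb _ (by simpa using hy))
    · rwa [mul_assoc, ha.sq, mul_one]
  have nr : ¬ Rk2 (Y ⊔ zpowers a) := by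
    rintro ⟨b, h1, c, h2, ib, ic, hne, hcm⟩
    refine hb _ ?_ (ib.mul ic hne hcm)
    have := mul_mem (key b h1 ib) (inv_mem (key c h2 ic))
    rwa [mul_inv_rev, mul_assoc, mul_inv_cancel_left, ic.inv_eq] at this
  refine hc fun y hy => commutatorElement_eq_one_iff_mul_comm.1 ?_
  have h1 := comm_mem_Od nr (mem_sup_right (mem_zpowers a)) ha (mem_sup_left hy)
  have h2 : Od (Y ⊔ zpowers a) ⊓ Y ≤ Od ⊤ :=
    ((SnIn.of_normal inf_le_right (H1.le_normalizer_inf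
      (le_sup_left.trans (Od_normal _).2) (le_norm_self Y))).trans hY).le_pPrimeCoreOf
      (Nat.coprime_two_right.2 ((odd_Od _).of_dvd_nat (FT.card_dvd_of_le inf_le_left)))
  exact mem_bot.1 (h.od ▸ h2 ⟨h1, cml hn hy⟩)

theorem not_mem_cent {a : G} (ha : In a) {K : Subgroup G} (hK : CompIn ⊤ K) (h1 : a ∈ K) :
    a ∉ 𝐂(K) := fun e => h.not_mem_core ha (h.fit ▸ hK.inf_centralizer_le_fittingOf ⟨h1, e⟩)

theorem ex_mem : ∃ K, CompIn (⊤ : Subgroup G) K ∧ ∃ b ∈ K, In b := by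
  obtain ⟨α, -⟩ := h.two.nonempty
  obtain ⟨a, ha, -⟩ := h.other α
  obtain ⟨K, hK, hc⟩ := h.ex_comp ha
  have n := H2.le_normalizer_layerOf (⊤ : Subgroup G)
  obtain ⟨b, h1, hb⟩ := h.ex_in ha (H2.snIn_layerOf ⊤) (n (mem_top a))
    fun e => hc (cent_anti hK.le_layerOf e)
  obtain ⟨g, rfl⟩ := h.conj hb ha
  exact ⟨K, hK, h.ex_in ha hK.1 (hK.layerOf_le_normalizer (cjm (n (mem_top g)) h1)) hc⟩

theorem normal {K : Subgroup G} (hK : CompIn ⊤ K) {b : G} (hb : In b) (h1 : b ∈ K) (g : G) :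
    g ∈ 𝐍(K) := by
  have key : ∀ {J J' : Subgroup G} {a c : G} {δ : Ω}, CompIn ⊤ J → CompIn ⊤ J' → In a → a ∈ J →
      c ∈ J' → a • δ = δ → c • δ ≠ δ → J' = J := fun hJ hJ' ha aJ cJ e e' => by
    by_contra hn
    exact e' (h.toSE.fix_of_commute ha e (hJ'.le_centralizer_of_ne hJ hn cJ _ aJ))
  obtain ⟨δ, e⟩ := h.ex hb
  have c1 := comp_conj hK (mem_top g)
  refine conj_eq_self_iff.1 ?_
  by_cases e' : (g * b * g⁻¹) • δ = δ
  · obtain ⟨c, hc, e2⟩ := h.other δ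
    obtain ⟨x, rfl⟩ := h.conj hb hc
    have c2 := comp_conj hK (mem_top x)
    exact (key c1 c2 (hb.conj g) (conj_mem_conj h1 g) (conj_mem_conj h1 x) e' e2).symm.trans
      (key hK c2 hb h1 (conj_mem_conj h1 x) e e2)
  · exact key hK c1 hb h1 (conj_mem_conj h1 g) e e'

theorem ex_normal : ∃ K, CompIn (⊤ : Subgroup G) K ∧ ⊤ ≤ 𝐍(K) ∧ ∀ a, In a → a ∈ K := by
  obtain ⟨K, hK, b, h1, hb⟩ := h.ex_mem
  refine ⟨K, hK, fun g _ => h.normal hK hb h1 g, fun a ha => ?_⟩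
  obtain ⟨g, rfl⟩ := h.conj hb ha
  exact cjm (h.normal hK hb h1 g) h1

/-- The component has trivial centre. -/
theorem cent_eq_bot {K T Zh : Subgroup G} {n r : ℕ} (hK : CompIn ⊤ K) (z : SzT K T Zh n r) {b : G}
    (hb : In b) (h1 : b ∈ T) : K ⊓ 𝐂(K) = ⊥ ∧ ∀ y ∈ Zh, y = 1 ∨ In y := by
  have BT : ctB z.syl.pgrp ≤ T := fun x hx => hx.1
  have b0 : ∀ x ∈ ctB z.syl.pgrp, x ∈ 𝐂(K) → x = 1 := fun x hx e =>
    hx.2.resolve_right fun hi => h.not_mem_cent hi hK (z.le hx.1) e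
  have b1 : ctB z.syl.pgrp ≤ Zh := fun x hx => (z.zh x).2 ⟨hx.1, by
    rcases hx.2 with rfl | hi
    · simp
    · rw [hi.sq]; exact one_mem _⟩
  have b2 : 𝐍(T) ≤ 𝐍(ctB z.syl.pgrp) := fun d hd => mem_norm_of_conj_le fun x hx => by
    obtain ⟨y, hy, rfl⟩ := mem_conj'.1 hx
    exact ⟨cjm hd hy.1, hy.2.imp (fun e => by simp [e]) fun hi => hi.conj d⟩
  have b3 : Zh ≤ ctB z.syl.pgrp ⊔ K ⊓ 𝐂(K) := fun y hy => by
    by_cases e : y ∈ 𝐂(K)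
    · exact mem_sup_right ⟨z.le (z.zle hy), e⟩
    have hB : b ∈ ctB z.syl.pgrp := ⟨h1, Or.inr hb⟩
    obtain ⟨d, hd, -, e'⟩ := z.trZ b (b1 hB) (h.not_mem_cent hb hK (z.le h1)) y hy e
    rw [← mul_inv_cancel_left (d * b * d⁻¹) y]
    exact mul_mem (mem_sup_left (cjm (b2 hd.2) hB)) (mem_sup_right
      ⟨z.le (mul_mem (inv_mem (cjm hd.2 h1)) (z.zle hy)), e'⟩)
  have b4 : ctB z.syl.pgrp ≤ 𝐂(T) := fun x hx t ht =>
    commutatorElement_eq_one_iff_mul_comm.1 (b0 _ (cmr (b2 (le_normalizer ht)) hx)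
      (z.cen (commutator_mem_commutator ht (b1 hx))))
  have b5 : ∀ x ∈ ctB z.syl.pgrp, x = 1 ∨ In x := fun x hx => hx.2
  generalize ctB z.syl.pgrp = B at BT b0 b1 b2 b3 b4 b5
  suffices e : K ⊓ 𝐂(K) = ⊥ from ⟨e, fun y hy => b5 y (by simpa [e] using b3 hy)⟩
  have v9 : Zh ≤ 𝐂(T) := b3.trans (sup_le b4 (inf_le_right.trans (cent_anti z.le)))
  suffices w1 : ⁅T, T⁆ ≤ B from eq_bot_iff.2 fun x hx => b0 x
    (w1 (ct_cent_le_der (H2.isQuasisimple_subgroup_iff.1 z.qs).1 z.syl ⟨z.zle (z.cle hx), hx.2⟩))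
    hx.2
  by_contra e
  obtain ⟨J, j1, j2, j3⟩ := exists_two (z.syl.pgrp.to_le (sup_le z.der_le_zh b1 |>.trans z.zle))
    (right_lt_sup.2 e)
  have j4 : J ≤ Zh := j2.trans (sup_le z.der_le_zh b1)
  have j5 : T ≤ 𝐍(J) := (cent_comm.1 (j4.trans v9)).trans (cent_le_norm J)
  have j7 : K ⊓ 𝐍(T) ≤ 𝐍(J) := by
    refine comm_le_left_iff.1 (le_trans ?_ j1)
    rw [commutator_comm]
    refine (commutator_mono le_rfl (j4.trans b3)).trans (H1.commutator_sup_le (le_norm_self B)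
      ((inf_le_right.trans (cent_anti (BT.trans z.le))).trans (cent_le_norm B))
      (comm_le_right_iff.2 (inf_le_right.trans b2)) ?_)
    exact (comm_eq_bot_iff.2 (inf_le_left.trans (cent_comm.1 inf_le_right))).le.trans bot_le
  obtain ⟨m, hm⟩ := even_codim z.syl.pgrp j5
    (j3 ▸ relIndex_le_of_le_right le_sup_left (H2.relIndex_pos _ _).ne')
  have j8 : Zh ≤ H1.commStab T J := H1.le_commStab_iff.2 ⟨z.zle.trans j5,
    (comm_eq_bot_iff.2 (cent_comm.1 v9)).le.trans bot_le⟩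
  rcases z.eq_or j8 (fun g hg => mem_norm_of_conj_le fun x hx => by
    obtain ⟨y, hy, rfl⟩ := mem_conj'.1 hx
    refine ⟨mul_mem (mul_mem (j7 hg) hy.1) (inv_mem (j7 hg)), fun u hu => ?_⟩
    have := cjm (j7 hg) (hy.2 _ (cjm (inv_mem hg.2) hu))
    convert this using 1
    simp only [commutatorElement_def]; group) with e' | e'
  · rw [← inf_relIndex_left, le_antisymm e' (le_inf z.zle j8), z.cardT] at hm
    have := Nat.pow_right_injective le_rfl hm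
    have := z.odd
    rw [Nat.odd_iff] at this
    omega
  · rw [relIndex_eq_one.2 (sup_le (H1.le_commStab_iff.1 e').2 j1)] at j3
    omega

/-- The component that contains the class is of type `L₂(2 ^ n)` or `Sz(2 ^ n)`. -/
theorem zt {K T : Subgroup G} (hK : CompIn ⊤ K) (h2 : ∀ a, In a → a ∈ K) (hT : IsSyl 2 T K)
    {b : G} (hb : In b) (bT : b ∈ T) : ∃ n e, Zt4 K T n e := by
  rcases h.ty K T hK hT with ⟨Zh, n, r, z⟩ | z
  · exact ⟨n, 2, zt4_sz z (h.cent_eq_bot hK z hb bT).1⟩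
  obtain ⟨γ, e⟩ := h.ex hb
  obtain ⟨c, hc, e'⟩ := h.other γ
  refine (zt4_ab z (H2.QS.not_isSolvable hK.2) (z.gd.d1.resolve_right fun k => e' ?_) hb bT hc
    (h2 c hc) fun k => e' (h.toSE.fix_of_commute hb e k)).imp fun _ k => ⟨1, k⟩
  refine sup_le (inf_le_right.trans (h.toSE.cent1_le hb e)) (fun d hd => ?_)
    (k T hT b bT hb.ne (h2 c hc))
  exact h.toSE.smul_eq_of_conj hb e
    (h.toSE.fix_of_commute hb e ((P21.LA.ab_as z).comm bT (cjm hd.2 bT)))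

end Co4

end Cfsg.Agent.P14.C
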