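/-
P21, chapter C, piece BT: the action of the component, and the passage to `N / O(N)`.
-/
import Cfsg.Agent.P21.CT1
import Cfsg.Agent.P14.C1

set_option autoImplicit false
set_option linter.unusedSectionVars false

namespace Cfsg.Agent.P14.C

open Subgroup Cfsg Cfsg.Agent Cfsg.Agent.FT MulAction Cfsg.Agent.P6
open Cfsg.Agent.H1 (qmk unbar)
open Cfsg.Agent.H2 (CompIn)
open Cfsg.Agent.H7.SC (od br od_le od_inf)
open scoped commutatorElement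

universe u v

variable {G : Type u} [Group G] [Finite G] [ICl G] {Ω : Type v} [MulAction G Ω]

/-- The Sylow 2-subgroup of `L` at the point `γ`. -/
structure BTp4 (Ω : Type v) [MulAction G Ω] (N L : Subgroup G) (n e : ℕ) (γ : Ω) (T : Subgroup G) :
    Prop where
  syl : IsSyl 2 T L
  le : T ≤ stabilizer G γ
  card : 𝐨(T) = (2 ^ n) ^ e
  norm : N ⊓ stabilizer G γ ≤ 𝐍((T ⊔ Od N : Subgroup G))
  tr : ∀ δ ∈ Fx Ω N, δ ≠ γ → ∀ ε ∈ Fx Ω N, ε ≠ γ → ∃ t ∈ T, t • δ = ε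
  free : ∀ t ∈ T, ∀ δ ∈ Fx Ω N, δ ≠ γ → t • δ = δ → t = 1
  cardI : {t : G | t ∈ T ∧ t * t = 1}.ncard = 2 ^ n
  cen : ∀ t ∈ T, t * t = 1 → t ∈ 𝐂(T)

/-- `L / O(N)` is `L₂(2 ^ n)` (`e = 1`) or `Sz(2 ^ n)` (`e = 2`) acting on `Fx Ω N` in the
natural way. -/
structure BTd4 (Ω : Type v) [MulAction G Ω] (N L : Subgroup G) (n e : ℕ) : Prop where
  normal : L ⊲ N
  od : Od N ≤ L
  mem : ∀ a ∈ N, In a → a ∈ L
  inv : ∀ t ∈ L, Inv t → In t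
  ty : e = 1 ∧ 2 ≤ n ∨ e = 2 ∧ Odd n ∧ 3 ≤ n
  card : (Fx Ω N).ncard = (2 ^ n) ^ e + 1
  fix3 : ∀ x ∈ L, ∀ α ∈ Fx Ω N, ∀ β ∈ Fx Ω N, ∀ γ ∈ Fx Ω N, α ≠ β → α ≠ γ → β ≠ γ →
    x • α = α → x • β = β → x • γ = γ → x ∈ Od N
  pt : ∀ γ ∈ Fx Ω N, ∃ T, BTp4 Ω N L n e γ T
  idx : (Od N).relIndex L = (2 ^ n) ^ e * (2 ^ n - 1) * ((2 ^ n) ^ e + 1)

/-- What the induction gives for a proper subgroup `N`. -/
def BT4 (Ω : Type v) [MulAction G Ω] (N : Subgroup G) : Prop := ∃ L n e, BTd4 Ω N L n e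

/-- The normal component `K` and its Sylow subgroup `T` at the point `γ`. -/
structure Pk4 (K T : Subgroup G) (n e : ℕ) (b : G) (γ : Ω) : Prop where
  co : Co4 G Ω
  nrm : ⊤ ≤ 𝐍(K)
  mem : ∀ a, In a → a ∈ K
  z : Zt4 K T n e
  hb : In b
  bT : b ∈ T
  fix : b • γ = γ

theorem Co4.exists_pk (h : Co4 G Ω) {K : Subgroup G} (hK : CompIn ⊤ K) (h1 : ⊤ ≤ 𝐍(K))
    (h2 : ∀ a, In a → a ∈ K) {γ : Ω} (hγ : γ ∈ Fx Ω (⊤ : Subgroup G)) :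
    ∃ T n e b, Pk4 K T n e b γ := by
  obtain ⟨b, -, hb, e⟩ := hγ
  obtain ⟨T, hT, h3⟩ := exists_isSyl_ge Nat.prime_two hb.isPGroup (zpowers_le.2 (h2 b hb))
  obtain ⟨n, r, z⟩ := h.zt hK h2 hT hb (h3 (mem_zpowers b))
  exact ⟨T, n, r, b, h, h1, h2, z, hb, h3 (mem_zpowers b), e⟩

namespace Pk4

variable {K T : Subgroup G} {n e : ℕ} {b : G} {γ : Ω} (h : Pk4 K T n e b γ)
include h

theorem inv {t : G} (h1 : t ∈ K) (ht : Inv t) : In t := by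
  obtain ⟨g, -, k⟩ := h.z.syl.exists_conj_le Nat.prime_two ht.isPGroup (zpowers_le.2 h1)
  obtain ⟨d, -, k'⟩ := h.z.tr b h.bT h.hb _ (k (conj_mem_conj (mem_zpowers t) g)) (ht.conj g)
  have : In (g * t * g⁻¹) := k' ▸ h.hb.conj d
  simpa [mul_assoc] using this.conj' g

theorem norm_le : 𝐍(T) ≤ stabilizer G γ := fun d hd =>
  h.co.toSE.smul_eq_of_conj h.hb h.fix
    (h.co.toSE.fix_of_commute h.hb h.fix (h.z.cen b h.bT h.hb.sq _ (cjm hd h.bT)).symm)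

theorem le : T ≤ stabilizer G γ := (le_norm_self T).trans h.norm_le

theorem trans {δ : Ω} (hδ : δ ∈ Fx Ω (⊤ : Subgroup G)) : ∃ g ∈ K, g • γ = δ := by
  obtain ⟨a, -, ha, e⟩ := hδ
  exact h.co.toSE.exists_smul_Fx ⟨b, h.mem b h.hb, h.hb, h.fix⟩ ⟨a, h.mem a ha, ha, e⟩

theorem inf_le : K ⊓ stabilizer G γ ≤ 𝐍(T) := fun x hx => by_contra fun hn => by
  obtain ⟨a, ha, e'⟩ := h.co.other γ
  exact e' (h.z.max h.hb h.bT (inf_le_right.trans h.norm_le) hx hn (h.mem a ha))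

theorem mem_T {x : G} {k : ℕ} (h0 : x ^ 2 ^ k = 1) (h1 : x ∈ K) (h2 : x • γ = γ) : x ∈ T :=
  h.z.mem_of_two h0 ⟨h1, h.inf_le ⟨h1, h2⟩⟩

theorem stab_le : stabilizer G γ ≤ 𝐍(T) := fun g hg => mem_norm_of_conj_le fun x hx => by
  obtain ⟨y, hy, rfl⟩ := mem_conj'.1 hx
  obtain ⟨k, hk⟩ := pow_two_pow h.z.syl.pgrp hy
  exact h.mem_T (k := k) (by rw [conj_pow, hk]; simp) (cjm (h.nrm (mem_top g)) (h.z.le hy))
    (conj_fix' (h.le hy) hg)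

theorem free {t : G} (ht : t ∈ T) {δ : Ω} (hδ : δ ∈ Fx Ω (⊤ : Subgroup G)) (hne : δ ≠ γ)
    (e : t • δ = δ) : t = 1 := by
  by_contra t1
  obtain ⟨g, hg, rfl⟩ := h.trans hδ
  obtain ⟨k, hk⟩ := pow_two_pow h.z.syl.pgrp ht
  have := h.z.ti t ht t1 g⁻¹ (inv_mem hg) (h.mem_T (k := k)
    (by rw [conj_pow, hk]; simp) (cjm (le_normalizer (inv_mem hg)) (h.z.le ht))
    (by simpa using conj_fix (g := g⁻¹) e))
  exact hne (h.norm_le (inv_mem_iff.1 this))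

theorem card : (Fx Ω (⊤ : Subgroup G)).ncard = (2 ^ n) ^ e + 1 := by
  have a1 : (Fx Ω (⊤ : Subgroup G)).ncard = (K ⊓ 𝐍(T)).relIndex K := by
    rw [show K ⊓ 𝐍(T) = K ⊓ stabilizer G γ from le_antisymm (inf_le_inf_left K h.norm_le)
      (inf_le_inf_left K h.stab_le), inf_relIndex_left, ← ncard_orbit]
    congr 1
    ext δ
    exact ⟨h.trans, fun ⟨g, _, e⟩ => e ▸ smul_mem_Fx' (mem_top g) ⟨b, mem_top b, h.hb, h.fix⟩⟩
  have a3 := h.z.cardK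
  rw [← H1.card_mul_relIndex (inf_le_left : K ⊓ 𝐍(T) ≤ K), h.z.card_norm h.hb h.bT, ← a1] at a3
  have := Nat.pow_le_pow_right two_pos h.z.two_le
  exact Nat.eq_of_mul_eq_mul_left (Nat.mul_pos (by positivity) (by omega)) a3

theorem tr {δ ε : Ω} (hδ : δ ∈ Fx Ω (⊤ : Subgroup G)) (h1 : δ ≠ γ)
    (hε : ε ∈ Fx Ω (⊤ : Subgroup G)) (h2 : ε ≠ γ) : ∃ t ∈ T, t • δ = ε := by
  have a1 : {c | ∃ t ∈ T, t • δ = c} ⊆ Fx Ω (⊤ : Subgroup G) \ {γ} := by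
    rintro _ ⟨t, ht, rfl⟩
    exact ⟨smul_mem_Fx' (mem_top t) hδ, fun e => h1 (smul_left_cancel t
      ((e : t • δ = γ).trans (h.le ht).symm))⟩
  refine (Set.eq_of_subset_of_ncard_le a1 ?_ ((Set.finite_of_ncard_ne_zero
    (by rw [h.card]; omega)).subset Set.sdiff_subset)).ge ⟨hε, h2⟩
  rw [Set.ncard_sdiff_singleton_of_mem (s := Fx Ω (⊤ : Subgroup G)) ⟨b, mem_top b, h.hb, h.fix⟩,
    h.card, ncard_orbit, ← inf_relIndex_right, show stabilizer G δ ⊓ T = ⊥ from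
      eq_bot_iff.2 fun x hx => mem_bot.2 (h.free hx.2 hδ h1 hx.1),
    relIndex_bot_left, h.z.cardT, Nat.add_sub_cancel]

theorem fix3 {x : G} (hx : x ∈ K) {δ ε : Ω} (hδ : δ ∈ Fx Ω (⊤ : Subgroup G))
    (hε : ε ∈ Fx Ω (⊤ : Subgroup G)) (h1 : γ ≠ δ) (h2 : γ ≠ ε) (h3 : δ ≠ ε) (e1 : x • γ = γ)
    (e2 : x • δ = δ) (e3 : x • ε = ε) : x = 1 := by
  obtain ⟨t, ht, rfl⟩ := h.tr hδ h1.symm hε h2.symm
  have t1 : t ≠ 1 := fun e => h3 (by rw [e, one_smul])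
  have a1 := h.free (mul_mem (inv_mem ht) (cjm (h.stab_le e1) ht)) hδ h1.symm (by
    rw [mul_smul, mul_smul, mul_smul, inv_smul_eq_iff.2 e2.symm, e3, inv_smul_smul])
  exact h.free (h.z.cent t ht t1 ⟨hx, mem_cent1_iff_conj.2 (inv_mul_eq_one.1 a1).symm⟩) hδ h1.symm e2

theorem btp : BTp4 Ω ⊤ K n e γ T where
  syl := h.z.syl
  le := h.le
  card := h.z.cardT
  norm := by rw [h.co.od, sup_bot_eq]; exact inf_le_right.trans h.stab_le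
  tr _ a b _ c d := h.tr a b c d
  free _ a _ b c d := h.free a b c d
  cardI := h.z.cardI
  cen := h.z.cen

end Pk4

omit [ICl G] in
/-- The parameters do not depend on the Sylow subgroup. -/
theorem Zt4.uniq {K T T' : Subgroup G} {n e n' e' : ℕ} (z : Zt4 K T n e) (z' : Zt4 K T' n' e') :
    n = n' ∧ e = e' := by
  obtain ⟨g, -, rfl⟩ := z'.syl.exists_conj_eq Nat.prime_two z.syl
  have a1 := z'.cardI
  rw [← Set.ncard_congr (s := {t : G | t ∈ T ∧ t * t = 1})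
    (t := {t : G | t ∈ T ^ᵍ g ∧ t * t = 1}) (fun t _ => g * t * g⁻¹)
    (fun t ht => ⟨conj_mem_conj ht.1 g, P4.conj_sq ht.2 g⟩) (fun _ _ _ _ k => by simpa using k)
    (fun t ht => ⟨g⁻¹ * t * g, ⟨mem_conj.1 ht.1, by simpa using P4.conj_sq ht.2 g⁻¹⟩, by group⟩),
    z.cardI] at a1
  obtain rfl := Nat.pow_right_injective le_rfl a1
  exact ⟨rfl, Nat.pow_right_injective
    ((Nat.le_succ 2).trans ((Nat.le_succ 3).trans (Nat.pow_le_pow_right two_pos z.two_le)))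
    (z.cardT.symm.trans ((card_conj T g).symm.trans z'.cardT))⟩

theorem Co4.bt (h : Co4 G Ω) : BT4 Ω (⊤ : Subgroup G) := by
  obtain ⟨K, hK, h1, h2⟩ := h.ex_normal
  obtain ⟨α, hα⟩ := h.two.nonempty
  obtain ⟨T, n, r, b, p⟩ := h.exists_pk hK h1 h2 hα
  refine ⟨K, n, r, ⟨le_top, h1⟩, h.od.le.trans bot_le, fun a _ => h2 a, fun t => p.inv, p.z.ty,
    p.card, fun x hx γ hγ δ hδ ε hε a1 a2 a3 e1 e2 e3 => ?_, fun γ hγ => ?_,
    by rw [h.od, relIndex_bot_left, p.z.cardK]⟩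
  all_goals obtain ⟨T', n', r', b', p'⟩ := h.exists_pk hK h1 h2 hγ
  · rw [p'.fix3 hx hδ hε a1 a2 a3 e1 e2 e3]
    exact one_mem _
  · obtain ⟨rfl, rfl⟩ := p.z.uniq p'.z
    exact ⟨T', p'.btp⟩

variable {N : Subgroup G}

namespace Cv

variable [ICl (CtQ N)] {Ω' : Type v} [MulAction (CtQ N) Ω'] {ι : Ω' → Ω} (c : Cv N ι)
include c

theorem btp4 {K P : Subgroup (CtQ N)} {n e0 : ℕ} {x : Ω'} (h : BTp4 Ω' ⊤ K n e0 x P) :
    ∃ T, BTp4 Ω N (unbar N (od N) K) n e0 (ι x) T := by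
  obtain ⟨T, hT⟩ := exists_isSyl Nat.prime_two (unbar N (od N) P)
  obtain ⟨e1, e2⟩ := ct_syl h.syl.pgrp hT
  have TN := hT.le.trans (H1.unbar_le P)
  have a1 : ∀ t (ht : t ∈ T), qmk N (od N) ⟨t, TN ht⟩ ∈ P := fun t ht => e1 ▸ H1.qmk_mem_bar ht
  have a2 : ∀ t (ht : t ∈ T), qmk N (od N) ⟨t, TN ht⟩ = 1 → t = 1 := fun t ht e =>
    (od_inf hT.pgrp).le ⟨H1.qmk_eq_one_iff.1 e, ht⟩
  have a3 : ∀ t (ht : t ∈ T), t * t = 1 →
      qmk N (od N) ⟨t, TN ht⟩ * qmk N (od N) ⟨t, TN ht⟩ = 1 := fun t ht e => by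
    rw [← map_mul, ← map_one (qmk N (od N))]
    exact congrArg _ (Subtype.ext e)
  refine ⟨T, hT.trans Nat.prime_two (H1.unbar_mono h.syl.le) ?_,
    fun t ht => c.smul_iff.1 (h.le (a1 t ht)), ?_, ?_, fun δ hδ d1 ε hε d2 => ?_,
    fun t ht δ hδ d1 e => ?_, ?_, fun t ht e s hs => ?_⟩
  · have := h.syl.ndvd
    rwa [← H1.bar_unbar P, ← H1.bar_unbar K, H1.relIndex_bar (od_le N) (H1.unbar_le _)
      (H1.unbar_le _), sup_eq_left.2 (H1.le_unbar (od_le N) P),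
      sup_eq_left.2 (H1.le_unbar (od_le N) K)] at this
  · rw [← h.card, ← e1, H1.card_bar TN, ← inf_relIndex_right, od_inf hT.pgrp, relIndex_bot_left]
  · rw [← e2]
    refine H1.le_normalizer_unbar inf_le_left ?_
    rintro _ ⟨g, hg, rfl⟩
    have := h.norm ⟨mem_top _, c.smul_iff.2 hg.2⟩
    rwa [show Od (⊤ : Subgroup (CtQ N)) = ⊥ from H7.SC.od_br N, sup_bot_eq] at this
  · obtain ⟨y, rfl⟩ := (c.range _).1 hδ
    obtain ⟨z, rfl⟩ := (c.range _).1 hε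
    obtain ⟨t, ht, e⟩ := h.tr y (c.mem_Fx y) (fun e => d1 (congrArg ι e)) z (c.mem_Fx z)
      fun e => d2 (congrArg ι e)
    obtain ⟨s, hs, rfl⟩ := e1.ge ht
    exact ⟨s, hs, c.smul_iff.1 e⟩
  · obtain ⟨y, rfl⟩ := (c.range _).1 hδ
    exact a2 t ht (h.free _ (a1 t ht) y (c.mem_Fx y) (fun e => d1 (congrArg ι e)) (c.smul_iff.2 e))
  · rw [← h.cardI]
    refine Set.ncard_congr (fun t ht => qmk N (od N) ⟨t, TN ht.1⟩)
      (fun t ht => ⟨a1 t ht.1, a3 t ht.1 ht.2⟩) (fun s t hs ht e => ?_) fun z hz => ?_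
    · refine inv_mul_eq_one.1 (a2 _ (mul_mem (inv_mem hs.1) ht.1) ?_)
      rw [← inv_mul_eq_one, ← map_inv, ← map_mul] at e
      exact e
    · obtain ⟨t, ht, rfl⟩ := e1.ge hz.1
      exact ⟨t, ⟨ht, a2 _ (mul_mem ht ht) (by rw [← hz.2, ← map_mul]; rfl)⟩, rfl⟩
  · refine commutatorElement_eq_one_iff_mul_comm.1 (a2 _ (cmr (le_normalizer hs) ht) ?_)
    rw [← commutatorElement_eq_one_iff_mul_comm.2 (h.cen _ (a1 t ht) (a3 t ht e) _ (a1 s hs)),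
      ← map_commutatorElement]
    rfl

theorem bt4 (h : BT4 Ω' (⊤ : Subgroup (CtQ N))) : BT4 Ω N := by
  obtain ⟨K, n, e0, h⟩ := h
  refine ⟨unbar N (od N) K, n, e0,
    ⟨H1.unbar_le K, H1.le_normalizer_unbar le_rfl (le_top.trans h.normal.2)⟩,
    H1.le_unbar (od_le N) K, fun a aN ha => H1.mem_unbar.2
      ⟨aN, h.mem _ (mem_top _) ((c.cl _).2 ⟨⟨a, aN⟩, ha, rfl⟩)⟩, fun t ht hi => ?_, h.ty,
    ?_, fun g hg α hα β hβ γ hγ d1 d2 d3 e1 e2 e3 => ?_, fun γ hγ => ?_, ?_⟩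
  · obtain ⟨tN, ht⟩ := H1.mem_unbar.1 ht
    obtain ⟨a, ha, e⟩ := (c.cl _).1 (h.inv _ ht (ct_inv hi))
    obtain ⟨y, -, rfl⟩ := exists_conj_of_odd ha.toInv hi (odd_orderOf_of_mem (odd_Od N)
      ((H1.qmk_eq_one_iff (y := a * ⟨t, tN⟩)).1 (by rw [map_mul, ← e, (ct_inv ha.toInv).sq])))
    exact ha.conj y
  · rw [← h.card, ← Set.ncard_image_of_injective _ c.inj]
    congr 1
    ext α
    exact (c.range α).trans ⟨fun ⟨x, e⟩ => ⟨x, c.mem_Fx x, e⟩, fun ⟨x, _, e⟩ => ⟨x, e⟩⟩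
  · obtain ⟨gN, hg⟩ := H1.mem_unbar.1 hg
    obtain ⟨x, rfl⟩ := (c.range _).1 hα
    obtain ⟨y, rfl⟩ := (c.range _).1 hβ
    obtain ⟨z, rfl⟩ := (c.range _).1 hγ
    exact H1.qmk_eq_one_iff.1 ((H7.SC.od_br N).le (h.fix3 _ hg x (c.mem_Fx x) y (c.mem_Fx y) z
      (c.mem_Fx z) (fun e => d1 (congrArg ι e)) (fun e => d2 (congrArg ι e))
      (fun e => d3 (congrArg ι e)) (c.smul_iff.2 e1) (c.smul_iff.2 e2) (c.smul_iff.2 e3)))
  · obtain ⟨x, rfl⟩ := (c.range _).1 hγ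
    obtain ⟨P, hP⟩ := h.pt x (c.mem_Fx x)
    exact c.btp4 hP
  · rw [← h.idx, show Od (⊤ : Subgroup (CtQ N)) = ⊥ from H7.SC.od_br N, relIndex_bot_left,
      ← H1.card_bar (H1.unbar_le K), H1.bar_unbar]

end Cv

theorem SE.bt4 (h : SE G Ω) (ty : P21.Ty (Qt N)) (h1 : Rk2 N) (h2 : (Fx Ω N).Nontrivial) :
    BT4 Ω N := by
  have hker : (od N).subgroupOf N ≤ (toPermHom N (ctSub Ω N)).ker := fun x hx =>
    Equiv.ext fun δ => Subtype.ext (h.le_stab_of_rk2 h1 (odd_Od N) (Od_normal N).2 δ.2 hx)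
  let _ : MulAction (CtQ N) (ctSub Ω N) :=
    MulAction.compHom _ (QuotientGroup.lift _ (toPermHom N (ctSub Ω N)) hker)
  let _ := ctCl N
  have c : Cv N (fun x : ctSub Ω N => (x : Ω)) :=
    ⟨fun z => ⟨fun e => e.mem, fun e => In.of_mem e⟩, Subtype.val_injective,
      fun α => ⟨fun e => ⟨⟨α, e⟩, rfl⟩, fun ⟨x, e⟩ => e ▸ x.2⟩, fun _ _ => rfl⟩
  obtain ⟨α, hα, β, hβ, hne⟩ := h2
  exact c.bt4 (Co4.bt ⟨c.se h, H7.SC.od_br N,
    ⟨⟨α, hα⟩, c.mem_Fx _, ⟨β, hβ⟩, c.mem_Fx _, fun e => hne (congrArg Subtype.val e)⟩, ty⟩)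

namespace BTd4

variable {L : Subgroup G} {n e0 : ℕ} (hN : BTd4 Ω N L n e0)
include hN

theorem two_le : 2 ≤ n := by have := hN.ty; omega

theorem nontrivial : (Fx Ω N).Nontrivial := by
  rw [← Set.one_lt_ncard_iff_nontrivial_and_finite.trans (and_iff_left ?_)]
  · rw [hN.card]
    have := Nat.pos_of_ne_zero (pow_ne_zero e0 (pow_ne_zero n two_ne_zero))
    omega
  · exact Set.finite_of_ncard_ne_zero (by rw [hN.card]; omega)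

theorem rk2 : Rk2 N := by
  obtain ⟨γ, hγ⟩ := hN.nontrivial.nonempty
  obtain ⟨T, hT⟩ := hN.pt γ hγ
  have h1 : 2 < {t : G | t ∈ T ∧ t * t = 1}.ncard := by
    rw [hT.cardI]
    have := Nat.pow_le_pow_right two_pos hN.two_le
    omega
  have h2 : 1 < ({t : G | t ∈ T ∧ t * t = 1} \ {1}).ncard := by
    rw [Set.ncard_sdiff_singleton_of_mem (show (1 : G) ∈ {t : G | t ∈ T ∧ t * t = 1} from
      ⟨one_mem T, mul_one 1⟩)]
    omega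
  obtain ⟨a, ha, b, hb, hab⟩ := (Set.one_lt_ncard (Set.toFinite _)).1 h2
  exact ⟨a, hN.normal.1 (hT.syl.le ha.1.1), b, hN.normal.1 (hT.syl.le hb.1.1),
    hN.inv a (hT.syl.le ha.1.1) ⟨ha.2, ha.1.2⟩, hN.inv b (hT.syl.le hb.1.1) ⟨hb.2, hb.1.2⟩, hab,
    mem_cent.1 (hT.cen b hb.1.1 hb.1.2) a ha.1.1⟩

theorem od_fix (h : SE G Ω) {δ : Ω} (hδ : δ ∈ Fx Ω N) : Od N ≤ stabilizer G δ :=
  h.le_stab_of_rk2 hN.rk2 (odd_Od N) (Od_normal N).2 hδ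

/-- An odd order subgroup of a point stabilizer of `N` fixes a second point. -/
theorem exists_fixed (h : SE G Ω) {γ : Ω} (hγ : γ ∈ Fx Ω N) {P : Subgroup G} (hP : Odd 𝐨(P))
    (hPN : P ≤ N) (hPγ : P ≤ stabilizer G γ) : ∃ ε ∈ Fx Ω N, ε ≠ γ ∧ P ≤ stabilizer G ε := by
  have : Finite (fxSub Ω N) := (h.finite_Fx N).to_subtype
  obtain ⟨ω, hω, hne⟩ := hN.nontrivial.exists_ne γ
  obtain ⟨T, hT⟩ := hN.pt γ hγ
  have hTN : T ≤ N := hT.syl.le.trans hN.normal.1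
  have hodd : Odd 𝐨((P.subgroupOf N).map (fxHom Ω N)) :=
    hP.of_dvd_nat ((Subgroup.card_map_dvd _ _).trans (H2.card_subgroupOf_of_le hPN).dvd)
  have hE : IsPGroup 2 ((T.subgroupOf N).map (fxHom Ω N)) :=
    (hT.syl.pgrp.of_injective (subgroupOfEquivOfLe hTN).toMonoidHom
      (subgroupOfEquivOfLe hTN).injective).map _
  obtain ⟨k, hk⟩ := exists_card_eq_pow Nat.prime_two hE
  obtain ⟨g, hg, e⟩ := H1.glauberman_exists_fixed (A := (P.subgroupOf N).map (fxHom Ω N))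
    (G := (T.subgroupOf N).map (fxHom Ω N)) (Ω := fxSub Ω N) (by
      rintro _ ⟨x, hx, rfl⟩
      refine mem_norm_of_conj_le fun y hy => ?_
      obtain ⟨_, ⟨t, ht, rfl⟩, rfl⟩ := mem_conj'.1 hy
      have h1 := (mem_normalizer_iff.1 (hT.norm ⟨x.2, hPγ hx⟩) _).1
        (mem_sup_left ht : (t : G) ∈ T ⊔ Od N)
      rw [sup_comm] at h1
      obtain ⟨o, ho, s, hs, e⟩ := (mem_sup_of_norm (hTN.trans (Od_normal N).2)).1 h1
      refine ⟨⟨s, hTN hs⟩, hs, ?_⟩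
      rw [← map_inv, ← map_mul, ← map_mul, fxHom_eq_iff]
      intro δ hδ
      rw [show ((x * t * x⁻¹ : N) : G) = o * s from e.symm, mul_smul]
      exact (hN.od_fix h (smul_mem_Fx' (hTN hs) hδ) ho).symm)
    (by rw [hk]; exact (Nat.coprime_two_right.2 hodd).pow_right k)
    (Or.inr (isSolvable_of_isNilpotent (isNilpotent_of_isPGroup Nat.prime_two hE))) ⟨ω, hω⟩ (by
      rintro _ ⟨x, hx, rfl⟩
      obtain ⟨t, ht, e2⟩ := hT.tr ω hω hne _ (smul_mem_Fx' x.2 hω)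
        (fun e3 => hne (smul_left_cancel (x : G) (e3.trans (hPγ hx).symm)))
      exact ⟨fxHom Ω N ⟨t, hTN ht⟩, ⟨⟨t, hTN ht⟩, ht, rfl⟩, Subtype.ext e2.symm⟩)
  obtain ⟨t, ht, rfl⟩ := hg
  refine ⟨(t : G) • ω, smul_mem_Fx' t.2 hω, fun e2 => hne ?_, fun x hx => ?_⟩
  · exact smul_left_cancel (t : G) (e2.trans (hT.le ht).symm)
  · exact congrArg Subtype.val (e (fxHom Ω N ⟨x, hPN hx⟩) ⟨⟨x, hPN hx⟩, hx, rfl⟩)

/-- A subgroup fixing three points centralizes a member of the class modulo `O(N)`. -/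
theorem exists_cent (h : SE G Ω) {X : Subgroup G} (hX : X ≤ N) {α β γ : Ω} (hα : α ∈ Fx Ω N)
    (hβ : β ∈ Fx Ω N) (hγ : γ ∈ Fx Ω N) (n1 : α ≠ β) (n2 : α ≠ γ) (n3 : β ≠ γ)
    (e1 : X ≤ stabilizer G α) (e2 : X ≤ stabilizer G β) (e3 : X ≤ stabilizer G γ) :
    ∃ a ∈ N, In a ∧ a • α = α ∧ ∀ x ∈ X, ⁅x, a⁆ ∈ Od N := by
  obtain ⟨T, hT⟩ := hN.pt α hα
  have hTN : T ≤ N := hT.syl.le.trans hN.normal.1
  obtain ⟨t, ht, et⟩ := hT.tr β hβ n1.symm γ hγ n2.symm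
  have t1 : t ≠ 1 := fun e => n3 (by rw [← et, e, one_smul])
  have key : ∀ x ∈ X, ⁅x, t⁆ ∈ Od N := fun x hx => by
    have h1 := (mem_normalizer_iff.1 (hT.norm ⟨hX hx, e1 hx⟩) _).1
      (mem_sup_left ht : t ∈ T ⊔ Od N)
    rw [sup_comm] at h1
    obtain ⟨o, ho, s, hs, e⟩ := (mem_sup_of_norm (hTN.trans (Od_normal N).2)).1 h1
    have h2 : s • β = γ := by
      have := conj_smul_smul x t β
      rwa [e2 hx, et, e3 hx, ← e, mul_smul, hN.od_fix h (smul_mem_Fx' (hTN hs) hβ) ho] at this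
    have h3 : t⁻¹ * s = 1 := hT.free _ (mul_mem (inv_mem ht) hs) β hβ n1.symm (by
      rw [mul_smul, h2, ← et, inv_smul_smul])
    rw [commutatorElement_def, ← e, ← inv_mul_eq_one.1 h3, mul_inv_cancel_right]
    exact ho
  obtain ⟨z, hz, hzp⟩ := exists_prime_pow_mem t1
  have hzT : z ∈ T := (zpowers_le.2 ht) hz
  have hzi : Inv z := inv_of_orderOf (orderOf_eq_of_prime_of_mem Nat.prime_two hT.syl.pgrp hzT hzp)
  refine ⟨z, hTN hzT, hN.inv z (hT.syl.le hzT) hzi, hT.le hzT, fun x hx => ?_⟩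
  rw [← pr_comm_iff (hX hx) (hTN hzT)]
  obtain ⟨k, rfl⟩ := mem_powers_iff_mem_zpowers.2 hz
  have := (show Commute _ _ from (pr_comm_iff (hX hx) (hTN ht)).2 (key x hx)).pow_right k
  rw [← map_pow] at this
  exact this

end BTd4

end Cfsg.Agent.P14.C
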