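/-
P21, chapter C: basic facts on `Pin0` (port of `P18/C2`), and the setup.
-/
import Cfsg.Agent.P21.C0
import Cfsg.Agent.P21.CT
import Cfsg.Agent.P18.CS

set_option autoImplicit false
set_option linter.unusedSectionVars false

namespace Cfsg.Agent.P14.C

open Subgroup Cfsg Cfsg.Agent Cfsg.Agent.FT MulAction Cfsg.Agent.P6
open scoped commutatorElement

universe u v

variable {G : Type u} [Group G] [Finite G] [ICl G] {Ω : Type v} [MulAction G Ω] {𝒜 : Set G}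

namespace Pin0

variable (h : Pin0 𝒜 Ω)
include h

theorem se : SE G Ω := h.toSE

theorem simple : IsSimpleGroup G := h.amb.sim

theorem ih (N : Subgroup G) (hN : N ≠ ⊤) (hk : Rk2 N) (hF : (Fx Ω N).Nontrivial) : BT4 Ω N :=
  h.toSE.bt4 (h.amb.ty N hN) hk hF

theorem all (α : Ω) : ∃ a : G, In a ∧ a • α = α := by
  obtain ⟨A, hA⟩ := h.pt α
  obtain ⟨a, ha, -, -, hi, -⟩ := hA.rk2
  exact ⟨a, hi, hA.le ha⟩

theorem rk2_stab (α : Ω) : Rk2 (stabilizer G α) := by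
  obtain ⟨A, hA⟩ := h.pt α
  exact hA.rk2.mono hA.le

theorem rk2 : Rk2 (⊤ : Subgroup G) := by
  obtain ⟨α, -⟩ := h.two
  exact (h.rk2_stab α).mono le_top

theorem mem_Fx_top (α : Ω) : α ∈ Fx Ω (⊤ : Subgroup G) := by
  obtain ⟨a, h1, h2⟩ := h.all α
  exact ⟨a, mem_top a, h1, h2⟩

theorem trans (α β : Ω) : ∃ g : G, g • α = β := by
  obtain ⟨g, -, e⟩ := h.toSE.exists_smul_Fx (h.mem_Fx_top α) (h.mem_Fx_top β)
  exact ⟨g, e⟩

theorem exists_J {α β : Ω} (hne : α ≠ β) : ∃ u : G, In u ∧ u • α = β := by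
  obtain ⟨u, -, e⟩ := h.toSE.exists_swap_Fx (h.mem_Fx_top α) (h.mem_Fx_top β) hne
  exact ⟨u, e⟩

theorem isConj {a b : G} (ha : In a) (hb : In b) : ∃ g : G, g * a * g⁻¹ = b := by
  have := h.two
  obtain ⟨α, β, hne⟩ := exists_pair_ne Ω
  obtain ⟨g, -, e⟩ := h.toSE.exists_conj ⟨α, h.mem_Fx_top α, β, h.mem_Fx_top β, hne⟩ ha hb
    (mem_top a) (mem_top b)
  exact ⟨g, e⟩

theorem exists_conj_D {a b : G} {α β : Ω} (ha : In a) (hb : In b) (ea : a • α = α)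
    (eb : b • α = α) (hne : α ≠ β) : ∃ d ∈ St2 G α β, d * a * d⁻¹ = b := by
  obtain ⟨d, hd, e⟩ := h.toSE.exists_conj_St2 ha hb ea eb hne (mem_top a) (mem_top b)
    (h.mem_Fx_top β)
  exact ⟨d, hd.2, e⟩

theorem stab_ne_top (α : Ω) : stabilizer G α ≠ ⊤ := fun e => by
  have := h.two
  obtain ⟨β, hne⟩ := exists_ne α
  obtain ⟨g, rfl⟩ := h.trans α β
  exact hne (mem_stabilizer_iff.1 (e ▸ mem_top g))

theorem norm_ne_top {X : Subgroup G} (h1 : X ≠ ⊥) (h2 : X ≠ ⊤) : 𝐍(X) ≠ ⊤ := fun e => by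
  have := h.simple
  rcases (normal_iff_top_le.2 e.ge : X.Normal).eq_bot_or_eq_top with h3 | h3
  · exact h1 h3
  · exact h2 h3

theorem norm_ne_top_of_le {X : Subgroup G} (h1 : X ≠ ⊥) {α : Ω} (h2 : X ≤ stabilizer G α) :
    𝐍(X) ≠ ⊤ :=
  h.norm_ne_top h1 fun e => h.stab_ne_top α (top_le_iff.1 (e ▸ h2))

theorem norm_ne_top_of_odd {X : Subgroup G} (h1 : X ≠ ⊥) (h2 : Odd 𝐨(X)) : 𝐍(X) ≠ ⊤ :=
  h.norm_ne_top h1 fun e => by
    obtain ⟨a, -, -, -, ha, -⟩ := h.rk2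
    exact ha.not_mem_of_odd h2 (e ▸ mem_top a)

theorem ncard_Iv_eq (α β : Ω) : (Iv G α).ncard = (Iv G β).ncard := by
  obtain ⟨g, rfl⟩ := h.trans α β
  exact (SE.ncard_Iv_smul g α).symm

theorem ncard_Iv {a : G} {α β : Ω} (ha : In a) (ea : a • α = α) (hne : α ≠ β) :
    (Iv G α).ncard = 𝐂[a].relIndex (St2 G α β) := by
  simpa using h.toSE.ncard_Iv ha ea hne (mem_top a) (h.mem_Fx_top β)

theorem ncard_Jv {α β : Ω} (hne : α ≠ β) (γ : Ω) : (Jv G α β).ncard = (Iv G γ).ncard := by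
  rw [h.ncard_Iv_eq γ β]
  simpa using h.toSE.ncard_Jv_eq_Iv hne (h.mem_Fx_top α)

theorem ncard_Iv' {u : G} {α β : Ω} (hu : In u) (eu : u • α = β) (hne : α ≠ β) (γ : Ω) :
    (Iv G γ).ncard = 𝐂[u].relIndex (St2 G α β) := by
  rw [← h.ncard_Jv hne γ]
  simpa using h.toSE.ncard_Jv hu eu hne (mem_top u)

theorem eq_one_of_fix {x : G} (hx : ∀ β : Ω, x • β = β) : x = 1 := by
  have := h.simple
  rcases (MonoidHom.normal_ker (toPermHom G Ω)).eq_bot_or_eq_top with e | e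
  · exact mem_bot.1 (e ▸ (MonoidHom.mem_ker.2 (Equiv.ext hx) : x ∈ (toPermHom G Ω).ker))
  · obtain ⟨α, -⟩ := h.two
    refine absurd (eq_top_iff.2 fun g _ => ?_) (h.stab_ne_top α)
    exact congrArg (fun σ : Equiv.Perm Ω => σ α) (MonoidHom.mem_ker.1 (e ▸ mem_top g))

theorem finite : Finite Ω := by
  have := h.se.finite_Fx (⊤ : Subgroup G)
  rw [Set.eq_univ_of_forall h.mem_Fx_top] at this
  exact Set.finite_univ_iff.1 this

theorem exists_conj_Od {a b : G} {α β : Ω} (ha : In a) (hb : In b) (ea : a • α = α)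
    (eb : b • α = α) (hne : α ≠ β) : ∃ d ∈ Od (St2 G α β), d * a * d⁻¹ = b := by
  simpa using h.se.exists_conj_Od ha hb ea eb hne (mem_top a) (mem_top b) (h.mem_Fx_top β)

/-- A Sylow subgroup of a two point stabilizer is normalized by a swapping involution. -/
theorem exists_swap_norm {r : ℕ} (hr : r.Prime) (h2 : r ≠ 2) {X : Subgroup G} {δ ε : Ω}
    (hne : δ ≠ ε) (hX : IsSyl r X (St2 G δ ε)) : ∃ v ∈ 𝐍(X), In v ∧ v • δ = ε := by
  obtain ⟨u, hu, eu⟩ := h.exists_J hne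
  obtain ⟨v, hv, e⟩ := h.se.exists_swap_norm hr h2 (N := ⊤) (X := X) hne hu eu (mem_top u)
    (by rwa [top_inf_eq])
  exact ⟨v, hv.2, e⟩

theorem comm_mem_of_odd {x a : G} {α : Ω} (hx : x • α = α) (ea : a • α = α) (ha : In a)
    (ho : Odd (orderOf ⁅x, a⁆)) : ⁅x, a⁆ ∈ Od (stabilizer G α) := by
  obtain ⟨A, hA⟩ := h.pt α
  exact hA.comm_mem_of_odd hx ea ha ho

theorem mem_Od_of_inv {x a : G} {α : Ω} (hx : x • α = α) (ea : a • α = α) (ha : In a)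
    (ho : Odd (orderOf x)) (hi : a * x * a = x⁻¹) : x ∈ Od (stabilizer G α) := by
  obtain ⟨A, hA⟩ := h.pt α
  exact hA.mem_Od_of_inv hx ea ha ho hi

theorem comm_mem {a b : G} {α : Ω} (ha : In a) (hb : In b) (ea : a • α = α) (eb : b • α = α) :
    ⁅a, b⁆ ∈ Od (stabilizer G α) := by
  obtain ⟨A, hA⟩ := h.pt α
  exact hA.comm_mem ha hb ea eb

theorem iComm_of_nw (hnw : ∀ r : ℕ, r.Prime → r ≠ 2 → NW G Ω r) : IComm G Ω := by
  intro a b α ha hb ea eb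
  have hm := h.comm_mem ha hb ea eb
  by_contra hne
  obtain ⟨y, hy, hp⟩ := exists_prime_pow_mem (x := ⁅a, b⁆)
    fun e => hne (commutatorElement_eq_one_iff_mul_comm.1 e)
  have hyW := (zpowers_le.2 hm) hy
  refine hnw _ hp (fun e => ?_) y a α rfl ha ea ((Od_normal _).1 hyW)
    (inverts_of_mem_zpowers ha.sq ?_ hy)
  · exact (inv_of_orderOf e).not_mem_of_odd (odd_Od _) hyW
  · rw [commutatorElement_inv, commutatorElement_def, commutatorElement_def, ha.inv_eq, hb.inv_eq,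
      ← mul_assoc, ← mul_assoc, ha.mul_cancel_left]

theorem dvd_w {p : ℕ} (hp : p.Prime) (hp2 : p ≠ 2) (hnw : ¬ NW G Ω p) {a : G} {α : Ω}
    (ha : In a) (ea : a • α = α) : p ∣ 𝐂[a].relIndex (Od (stabilizer G α)) := by
  unfold NW at hnw
  push Not at hnw
  obtain ⟨x, b, β, hx, hb, eb, ex, hi⟩ := hnw
  obtain ⟨g, rfl⟩ := h.isConj hb ha
  obtain rfl := h.toSE.smul_eq_of_conj hb eb ea
  have ho : orderOf (g * x * g⁻¹) = p := by
    rw [← hx]; exact (MulAut.conj g).orderOf_eq x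
  have hi' : g * b * g⁻¹ * (g * x * g⁻¹) * (g * b * g⁻¹) = (g * x * g⁻¹)⁻¹ := by
    calc _ = g * (b * x * b) * g⁻¹ := by group
      _ = _ := by rw [hi]; group
  exact dvd_of_inverted hp (odd_Od _) ha.toInv ((Od_normal _).2 ea)
    (h.mem_Od_of_inv (conj_fix ex) ea ha (ho ▸ hp.odd_of_ne_two hp2) hi') ho hi'

theorem not_cent_of_syl {p : ℕ} (hp : p.Prime) (hp2 : p ≠ 2) (hnw : ¬ NW G Ω p) {δ : Ω}
    {T : Subgroup G} (hT : IsSyl p T (Od (stabilizer G δ))) {c : G} (hc : In c)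
    (ec : c • δ = δ) : c ∉ 𝐂(T) := fun hm =>
  hT.ndvd ((h.dvd_w hp hp2 hnw hc ec).trans
    (relIndex_dvd_of_le_left _ (mem_cent_iff_cent1.1 hm)))

theorem ncard_Iv_stab {a : G} {α : Ω} (ha : In a) (ea : a • α = α) :
    (Iv G α).ncard = 𝐂[a].relIndex (stabilizer G α) := by
  have := h.two
  obtain ⟨β, hne⟩ := exists_ne α
  rw [← ncard_class]
  congr 1
  ext c
  constructor
  · rintro ⟨hc, ec⟩
    obtain ⟨d, hd, e⟩ := h.exists_conj_D ha hc ea ec hne.symm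
    exact ⟨d, hd.1, e⟩
  · rintro ⟨y, hy, rfl⟩
    exact ⟨ha.conj y, conj_fix' ea hy⟩

theorem dvd_m {p : ℕ} (hp : p.Prime) (hp2 : p ≠ 2) (hnw : ¬ NW G Ω p) (α : Ω) :
    p ∣ (Iv G α).ncard := by
  obtain ⟨a, ha, ea⟩ := h.all α
  rw [h.ncard_Iv_stab ha ea]
  by_contra hd
  obtain ⟨P, hP⟩ := exists_isSyl hp (𝐂[a] ⊓ stabilizer G α)
  have h1 := (hP.trans hp inf_le_right (by rwa [inf_relIndex_right])).inf_normal hp (Od_normal _)
  exact h.not_cent_of_syl hp hp2 hnw h1 ha ea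
    (mem_cent_iff_cent1.2 ((inf_le_left.trans hP.le).trans inf_le_left))

theorem exists_pt_norm {p : ℕ} (hp : p.Prime) {δ : Ω} {T : Subgroup G}
    (hT : IsSyl p T (Od (stabilizer G δ))) : ∃ B, Pt (stabilizer G δ) B ∧ B ≤ 𝐍(T) := by
  obtain ⟨A, hA⟩ := h.pt δ
  exact hA.exists_norm hp hT

/-- The uniqueness lemma: a `p'`-group normalized by a Sylow `p`-subgroup of `O(G_δ)` fixes `δ`. -/
theorem le_stab_of_syl {p : ℕ} (hp : p.Prime) (hp2 : p ≠ 2) (hnw : ¬ NW G Ω p) {δ : Ω}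
    {T : Subgroup G} (hT : IsSyl p T (Od (stabilizer G δ))) {X : Subgroup G}
    (hX : 𝐨(X).Coprime p) (hTX : T ≤ 𝐍(X)) : X ≤ stabilizer G δ := by
  obtain ⟨B, hB, hBT⟩ := h.exists_pt_norm hp hT
  obtain ⟨n, hn, e⟩ := hB.card
  exact h.se.le_stab_of_rank3 hp hp2 hT.pgrp ⟨hB.el, e⟩ hn hB.le hBT hB.mem
    (fun a ha hi => h.not_cent_of_syl hp hp2 hnw hT hi (hB.le ha)) hX hTX

theorem syl_ne_bot {p : ℕ} (hp : p.Prime) (hp2 : p ≠ 2) (hnw : ¬ NW G Ω p) {δ : Ω}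
    {T : Subgroup G} (hT : IsSyl p T (Od (stabilizer G δ))) : T ≠ ⊥ := by
  obtain ⟨a, ha, ea⟩ := h.all δ
  rintro rfl
  exact h.not_cent_of_syl hp hp2 hnw hT ha ea (by rw [cent_bot]; exact mem_top a)

end Pin0

theorem csStmt : CSStmt.{u} := by
  intro G _ _ 𝒜 A S W g h h8
  have c : C4 A (W ⊔ 𝐍(A)) := ⟨h.el, h.sc, h.ne, le_sup_right, h.cent⟩
  let _ := c.icl
  have pt : ∀ α : G ⧸ (W ⊔ 𝐍(A)), ∃ B, Pt (stabilizer G α) B := fun α => by
    induction α using QuotientGroup.induction_on with | H g => ?_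
    rw [stab_mk]
    exact ⟨_, Pt.conj (A := A) ⟨h.el, h8, fun a ha a1 => ⟨⟨a1, c.sq ha⟩, mem_clA ha a1⟩,
      fun a ha hc => c.mem_of (c.two_sup ha.sq (elemAb_isPGroup h.el) hc) le_sup_right
        ha.mem (mem_sup_left (mem_zpowers a)), c.le, sup_le_sup (le_Od ⟨le_sup_left,
          sup_le (le_norm_self W) h.nrm⟩ h.odd) (le_inf le_sup_right le_rfl)⟩ g⟩
  refine ⟨inferInstance, ⟨c.se, g.toAmb, fun a ha => ?_, nontrivial_quot h.ne,
    fun a b α ha hb ea eb => (pt α).elim fun _ k => k.comm_mem ha hb ea eb⟩, pt⟩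
  obtain ⟨b, hb, b1, k, rfl⟩ := ha.mem
  exact g.ga.conj b (g.mem b hb b1) k

end Cfsg.Agent.P14.C
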