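/-
P21, chapter C: the class commutes at a point, double transitivity (port of `P18/C5`).
-/
import Cfsg.Agent.P21.C4

set_option autoImplicit false
set_option linter.unusedSectionVars false

namespace Cfsg.Agent.P14.C

open Subgroup Cfsg Cfsg.Agent Cfsg.Agent.FT MulAction Cfsg.Agent.P6
open scoped commutatorElement

universe u v

/-- A prime divisor of `2 ^ n - 1` that does not divide `n`. -/
theorem exists_prime_ndvd {n : ℕ} (hn : 2 ≤ n) :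
    ∃ l : ℕ, l.Prime ∧ l ≠ 2 ∧ l ∣ 2 ^ n - 1 ∧ ¬ l ∣ n := by
  have hne : n.primeFactors.Nonempty := Nat.nonempty_primeFactors.2 hn
  obtain ⟨hs, hsn, -⟩ := Nat.mem_primeFactors.1 (n.primeFactors.max'_mem hne)
  have hm : ∀ p : ℕ, p.Prime → p ∣ n → p ≤ n.primeFactors.max' hne := fun p hp h =>
    Finset.le_max' _ _ (Nat.mem_primeFactors.2 ⟨hp, h, by omega⟩)
  generalize n.primeFactors.max' hne = s at hs hsn hm
  have h4 : 2 ^ 2 ≤ 2 ^ s := Nat.pow_le_pow_right two_pos hs.two_le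
  obtain ⟨l, hl, hd⟩ := Nat.exists_prime_and_dvd (show 2 ^ s - 1 ≠ 1 by omega)
  have l2 : l ≠ 2 := by
    rintro rfl
    have := dvd_pow_self 2 hs.ne_zero
    omega
  refine ⟨l, hl, l2, hd.trans (Nat.pow_sub_one_dvd_pow_sub_one 2 hsn), fun k => ?_⟩
  have := Fact.mk hl
  have h1 : (2 : ZMod l) ^ s = 1 := by
    rw [← ZMod.natCast_eq_zero_iff, Nat.cast_sub Nat.one_le_two_pow, sub_eq_zero] at hd
    simpa using hd
  have h2 : (2 : ZMod l) ≠ 0 := fun e => l2 ((Nat.prime_dvd_prime_iff_eq hl Nat.prime_two).1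
    ((ZMod.natCast_eq_zero_iff 2 l).1 (by simpa using e)))
  have h3 := ZMod.orderOf_dvd_card_sub_one h2
  rcases (Nat.dvd_prime hs).1 (orderOf_dvd_of_pow_eq_one h1) with e | e
  · rw [orderOf_eq_one_iff, ← one_add_one_eq_two, add_eq_left] at e
    exact one_ne_zero e
  · have := Nat.le_of_dvd (by have := hl.two_le; omega) (e ▸ h3)
    have := hm l hl k
    have := hl.two_le
    omega

variable {G : Type u} [Group G] [Finite G] [ICl G] {Ω : Type v} [MulAction G Ω]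

/-- An `l`-group that lies in a transitive group of odd order, `l` prime to the rank. -/
theorem Pt.card_dvd4 {H A : Subgroup G} (h : Pt H A) {n l : ℕ} (hl : l.Prime) (hn : ¬ l ∣ n)
    (cA : 𝐨(A) = 2 ^ n) {D : Subgroup G} (hD : D ≤ H) (ho : Odd 𝐨(D))
    (ht : ∀ a ∈ H, ∀ b ∈ H, In a → In b → ∃ d ∈ D, d * a * d⁻¹ = b) {X : Subgroup G}
    (hX : IsPGroup l X) (hXD : X ≤ D) (hc : X ⊓ Cb H = ⊥) : 𝐨(X) ∣ 𝐨(A) - 1 := by
  rw [← h.card_bar, ← card_bar_of_disj (N := Od H) (hXD.trans hD) (eq_bot_iff.2 fun x hx =>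
    hc.le ⟨hx.2, Od_le_Cb H hx.1⟩)]
  refine SemiReg.card_dvd (semiReg_iff.2 ?_) (le_top.trans h.norm_bar)
  rintro _ ⟨x, hx, rfl⟩ x1 k hk e
  by_contra k1
  have h1 := (h.gl1 hD ho ht).card_eq_pow (R := zpowers (H1.qmk H (Od H) x))
    (zpowers_le.2 (H1.qmk_mem_bar (hXD hx))) hk k1 (zpowers_le.2 (mem_cent1.2 e.symm))
  obtain ⟨j, hj⟩ := exists_card_eq_pow Nat.prime_two ((elemAb_isPGroup h.elem_bar).to_le
    (inf_le_left (b := 𝐂(zpowers (H1.qmk H (Od H) x)))))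
  rw [h.card_bar, cA, hj, ← pow_mul] at h1
  obtain ⟨i, hi⟩ := hX ⟨x, hx⟩
  have h2 : orderOf (H1.qmk H (Od H) x) ∣ l ^ i := orderOf_dvd_of_pow_eq_one (by
    rw [← map_pow, show x ^ l ^ i = 1 from
      Subtype.ext (by simpa using congrArg Subtype.val hi), map_one])
  obtain ⟨m, -, hm⟩ := (Nat.dvd_prime_pow hl).1 ((relIndex_dvd_card' 𝐂(H1.bar H (Od H) A)
    (zpowers (H1.qmk H (Od H) x))).trans ((Nat.card_zpowers _).dvd.trans h2))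
  rcases m with _ | m
  · have : (x : G) = 1 := mem_bot.1 (hc.le ⟨hx, (h.mem_Cb_iff x.2).2
      (relIndex_eq_one.1 hm (mem_zpowers _))⟩)
    exact x1 (by rw [show x = 1 from Subtype.ext this, map_one])
  · rw [Nat.pow_right_injective le_rfl h1, hm] at hn
    exact hn ((dvd_pow_self l m.succ_ne_zero).mul_left j)

/-- Case B. -/
def CB4 : Prop := ∀ (G : Type u) [Group G] [Finite G] [ICl G] (𝒜 : Set G) (Ω : Type u)
  [MulAction G Ω], Pin0 𝒜 Ω →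
  (∀ (α : Ω) (M : Subgroup G) (g : G), stabilizer G α ≤ M → g ∈ M → g • α ≠ α → M = ⊤) →
  ∀ p : ℕ, p.Prime → p ≠ 2 → ¬ NW G Ω p →
  ∀ (R : Subgroup G) (α β : Ω), α ≠ β → R ≤ stabilizer G β → IsSyl p R (stabilizer G α) → False

namespace Pin0

variable {𝒜 : Set G} (h : Pin0 𝒜 Ω)
include h

/-- (T1) -/
theorem T1 {r : ℕ} (hr : r.Prime) (h2 : r ≠ 2) (hnw : NW G Ω r) {X : Subgroup G}
    (hX : IsPGroup r X) (h1 : Fx Ω 𝐂(X) = ∅) {δ ε ζ : Ω} (hδ : X ≤ stabilizer G δ)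
    (hε : X ≤ stabilizer G ε) (hζ : X ≤ stabilizer G ζ) (n1 : δ ≠ ε) (n2 : δ ≠ ζ)
    (hc : X ⊓ Cb (stabilizer G δ) ≠ ⊥) : ε = ζ := by
  by_contra n3
  have hW := Od_normal (stabilizer G δ)
  have hX0 : IsPGroup r (X ⊓ Cb (stabilizer G δ) : Subgroup G) := hX.to_le inf_le_left
  have hXn : X ≤ 𝐍((X ⊓ Cb (stabilizer G δ) : Subgroup G)) :=
    H1.le_normalizer_inf (le_norm_self X) (hδ.trans (Cb_normal _).2)
  have lift : ∀ a : G, In a → a • δ = δ → ∃ o ∈ Od (stabilizer G δ),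
      o * a * o⁻¹ ∈ 𝐂((X ⊓ Cb (stabilizer G δ) : Subgroup G)) := fun a ha ea =>
    hnw.cent_lift hr hX0 (odd_Od _) ha ea hW.1 (hW.2 ea) ((inf_le_left.trans hδ).trans hW.2)
      fun x hx => hx.2.2 a ea ha
  obtain ⟨a, ea, b, eb, ha, hb, hab, hcm⟩ := h.rk2_stab δ
  obtain ⟨o, ho, ao⟩ := lift a ha ea
  obtain ⟨w, hw, bw⟩ := lift b hb eb
  obtain ⟨A, hA⟩ := h.pt δ
  have hrk : Rk2 𝐂((X ⊓ Cb (stabilizer G δ) : Subgroup G)) :=
    hA.rk2_of_not_mem (ha.conj o) (hb.conj w) (conj_fix' ea (hW.1 ho)) (conj_fix' eb (hW.1 hw))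
      (fun k => (ha.mul hb hab hcm).not_mem_of_odd (odd_Od (stabilizer G δ)) (by
        have k1 := mul_mem (mul_mem (inv_mem ho) k) hw
        have k2 := (mem_normalizer_iff.1 (hW.2 (inv_mem ea)) _).1 (mul_mem (inv_mem hw) ho)
        have k3 := mul_mem k2 k1
        rw [← ha.inv_eq]
        convert k3 using 1
        group)) ao bw
  have hF : ∀ γ : Ω, X ≤ stabilizer G γ → γ ∈ Fx Ω 𝐍((X ⊓ Cb (stabilizer G δ) : Subgroup G)) :=
    fun γ hγ => Fx_mono (cent_le_norm _) (h.L1 hr h2 hnw hX0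
      ⟨δ, _, ao, ha.conj o, conj_fix' ea (hW.1 ho)⟩ (inf_le_left.trans hγ))
  obtain ⟨L, n, e0, hbt⟩ := h.ih _ (h.norm_ne_top_of_le hc (inf_le_left.trans hδ))
    (hrk.mono (cent_le_norm _)) ⟨δ, hF δ hδ, ε, hF ε hε, n1⟩
  obtain ⟨c, hcN, hci, ec, k⟩ := hbt.exists_cent h.se hXn (hF δ hδ) (hF ε hε) (hF ζ hζ) n1 n2 n3
    hδ hε hζ
  have hO := hbt.od_fix h.se (hF δ hδ)
  obtain ⟨y, hy, e⟩ := hnw.cent_lift hr hX (odd_Od _) hci ec hO ((Od_normal _).2 hcN)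
    (hXn.trans (Od_normal _).2) k
  have : δ ∈ Fx Ω 𝐂(X) := ⟨_, e, hci.conj y, conj_fix' ec (hO hy)⟩
  rw [h1] at this
  exact this

theorem syl_fix {α : Ω} {A : Subgroup G} (hA : Pt (stabilizer G α) A) {n l : ℕ} (hl : l.Prime)
    (l2 : l ≠ 2) (hd : l ∣ 2 ^ n - 1) (ho : ¬ l ∣ n)
    (cA : 𝐨(A) = 2 ^ n) (hnw : NW G Ω l) {β : Ω} (hne : α ≠ β) {R : Subgroup G}
    (hR : IsSyl l R (St2 G α β)) {γ : Ω} (n1 : α ≠ γ) (hγ : R ≤ stabilizer G γ) : γ = β := by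
  by_contra n2
  have hRα : R ≤ stabilizer G α := hR.le.trans inf_le_left
  have hRβ : R ≤ stabilizer G β := hR.le.trans inf_le_right
  have hq := h.sub_one_dvd hA
  have hF : Fx Ω 𝐂(R) = ∅ := by
    by_contra hc
    obtain ⟨a, haR, ha, ea⟩ := h.L1 hl l2 hnw hR.pgrp (Set.nonempty_iff_ne_empty.2 hc) hRα
    rw [h.ncard_Iv ha ea hne, cA] at hq
    exact hR.ndvd ((hd.trans hq).trans (relIndex_dvd_of_le_left _ (mem_cent_iff_cent1.1 haR)))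
  obtain ⟨X, ⟨hX, hRX, δ, ε, ζ, hδ, hε, hζ, m1, m2, m3⟩, hmax⟩ := exists_max_card
    (P := fun X : Subgroup G => IsPGroup l X ∧ R ≤ X ∧
      ∃ δ ε ζ : Ω, X ≤ stabilizer G δ ∧ X ≤ stabilizer G ε ∧ X ≤ stabilizer G ζ ∧
        δ ≠ ε ∧ δ ≠ ζ ∧ ε ≠ ζ) ⟨R, hR.pgrp, le_rfl, α, γ, β, hRα, hγ, hRβ, n1, hne, n2⟩
  have h1 : Fx Ω 𝐂(X) = ∅ := Set.eq_empty_of_subset_empty (hF ▸ Fx_mono (cent_anti hRX))
  rcases hRX.eq_or_lt with rfl | hlt
  · obtain ⟨v, hvN, hv, -⟩ := h.exists_swap_norm hl l2 hne hR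
    refine m3 (h.L2' hl l2 hnw hX h1 (fun Y hlt hY α β γ k1 k2 k3 k4 k5 => ?_) hv hvN hδ hε hζ
      m1 m2)
    by_contra k6
    have := hmax Y ⟨hY, hlt.le, α, β, γ, k1, k2, k3, k4, k5, k6⟩
    have := H1.card_lt_of_lt hlt
    omega
  · refine m3 (h.T1 hl l2 hnw hX h1 hδ hε hζ m1 m2 fun hc => ?_)
    obtain ⟨g, rfl⟩ := h.trans α δ
    have hB := hA.conj g
    rw [← stabilizer_smul'] at hB
    have k1 := hB.card_dvd4 hl ho ((card_conj A g).trans cA) (D := X ⊔ Od (St2 G (g • α) ε))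
      (sup_le hδ ((Od_normal _).1.trans inf_le_left))
      (odd_sup (odd_of_isPGroup hl l2 hX) (odd_Od _) ((le_inf hδ hε).trans (Od_normal _).2))
      (fun a ea b eb ha hb => (h.exists_conj_Od ha hb ea eb m1).imp fun _ k =>
        ⟨mem_sup_right k.1, k.2⟩) hX le_sup_left hc
    rw [card_conj] at k1
    obtain ⟨a, ha, ea⟩ := h.all α
    rw [h.ncard_Iv ha ea hne] at hq
    have k2 : 𝐨(X) ∣ 𝐨(St2 G α β) := (k1.trans hq).trans (relIndex_dvd_card' _ _)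
    obtain ⟨i, hi⟩ := exists_card_eq_pow hl hX
    have k3 : 𝐨(X) ≤ 𝐨(R) := by
      rw [hR.card_eq_pow_factorization hl, hi]
      exact Nat.pow_le_pow_right hl.pos
        ((hl.pow_dvd_iff_le_factorization (card_ne_zero _)).1 (hi ▸ k2))
    have := H1.card_lt_of_lt hlt
    omega

theorem tr2_of_nw {α : Ω} {A : Subgroup G} (hA : Pt (stabilizer G α) A) {n l : ℕ} (hl : l.Prime)
    (l2 : l ≠ 2) (hd : l ∣ 2 ^ n - 1) (ho : ¬ l ∣ n)
    (cA : 𝐨(A) = 2 ^ n) (hnw : NW G Ω l) {β γ : Ω} (h1 : α ≠ β) (h2 : α ≠ γ) :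
    ∃ g ∈ stabilizer G α, g • β = γ := by
  have key : ∀ β : Ω, α ≠ β → ∀ P, IsSyl l P (St2 G α β) → IsSyl l P (stabilizer G α) := by
    intro β hne P hP
    by_contra hn
    obtain ⟨Y, lt, hY, hn, hp⟩ := exists_gt_of_not_isSyl hl hP.pgrp (hP.le.trans inf_le_left) hn
    refine lt.ne' (hP.eq_of_le hl lt.le (le_inf hY fun y hy => ?_) hp)
    refine h.syl_fix hA hl l2 hd ho cA hnw hne hP (fun e => hne ?_)
      (le_stab_smul (hn hy) (hP.le.trans inf_le_right))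
    exact smul_left_cancel y ((hY hy).trans e)
  obtain ⟨P, hP⟩ := exists_isSyl hl (St2 G α β)
  obtain ⟨P', hP'⟩ := exists_isSyl hl (St2 G α γ)
  obtain ⟨g, hg, e⟩ := (key γ h2 P' hP').exists_conj_eq hl (key β h1 P hP)
  refine ⟨g, hg, h.syl_fix hA hl l2 hd ho cA hnw h2 hP'
    (fun e => h1 (smul_left_cancel g (hg.trans e))) ?_⟩
  rw [← e, stabilizer_smul']
  exact conj_mono (hP.le.trans inf_le_right) g

theorem exists_syl {p : ℕ} (hp : p.Prime) (hp2 : p ≠ 2) (hnw : ¬ NW G Ω p) {n : ℕ}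
    (hn : ∀ (α : Ω) (A : Subgroup G), Pt (stabilizer G α) A → 𝐨(A) = 2 ^ n)
    (hch : (∃ i, n = p ^ i) → ∀ r : ℕ, r.Prime → r ≠ 2 → r ≠ p → NW G Ω r) :
    ∃ (R : Subgroup G) (α β : Ω), α ≠ β ∧ R ≤ stabilizer G β ∧ IsSyl p R (stabilizer G α) := by
  have := h.two
  obtain ⟨α0, β0, hne0⟩ := exists_pair_ne Ω
  obtain ⟨R, ⟨hR, α, β, hne, hRD⟩, hmax⟩ := exists_max_card
    (P := fun R : Subgroup G => IsPGroup p R ∧ ∃ α β : Ω, α ≠ β ∧ R ≤ St2 G α β)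
    ⟨⊥, IsPGroup.of_bot, α0, β0, hne0, bot_le⟩
  obtain ⟨A, hA⟩ := h.pt α
  exact ⟨R, α, β, hne, hRD.trans inf_le_right, h.caseA hp hp2 hnw hA
    (fun ⟨i, hi⟩ => hch ⟨i, Nat.pow_right_injective le_rfl ((hn α A hA).symm.trans hi)⟩) hne hR hRD
    fun δ ε hn X hX hXD => hmax X ⟨hX, δ, ε, hn, hXD⟩⟩

theorem exists_n : ∃ n, 3 ≤ n ∧
    ∀ (α : Ω) (A : Subgroup G), Pt (stabilizer G α) A → 𝐨(A) = 2 ^ n := by
  obtain ⟨α, -⟩ := h.two
  obtain ⟨A, hA⟩ := h.pt α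
  obtain ⟨n, h2, h3⟩ := hA.card
  refine ⟨n, h2, fun β B hB => ?_⟩
  obtain ⟨g, rfl⟩ := h.trans α β
  have hA' := hA.conj g
  rw [← stabilizer_smul'] at hA'
  have key : ∀ A B : Subgroup G, Pt (stabilizer G (g • α)) A → Pt (stabilizer G (g • α)) B →
      H1.bar (stabilizer G (g • α)) (Od (stabilizer G (g • α))) A ≤
        H1.bar (stabilizer G (g • α)) (Od (stabilizer G (g • α))) B := by
    intro A B hA hB z hz
    by_cases z1 : z = 1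
    · rw [z1]; exact one_mem _
    obtain ⟨a, haH, -, ha, rfl⟩ := hA.exists_lift hz z1
    exact hB.mem_bar ha haH
  rw [← hB.card_bar, le_antisymm (key _ _ hB hA') (key _ _ hA' hB), hA'.card_bar, card_conj, h3]

theorem iComm_of (hB : ∀ p : ℕ, p.Prime → p ≠ 2 → ¬ NW G Ω p → ∀ (R : Subgroup G) (α β : Ω),
    α ≠ β → R ≤ stabilizer G β → IsSyl p R (stabilizer G α) → False) : IComm G Ω := by
  by_contra hc
  obtain ⟨n, h3, hn⟩ := h.exists_n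
  obtain ⟨p, hp, hp2, hnw, hch⟩ : ∃ p : ℕ, p.Prime ∧ p ≠ 2 ∧ ¬ NW G Ω p ∧
      ((∃ i, n = p ^ i) → ∀ r : ℕ, r.Prime → r ≠ 2 → r ≠ p → NW G Ω r) := by
    obtain ⟨r, hr, hr2, hnr⟩ : ∃ r : ℕ, r.Prime ∧ r ≠ 2 ∧ ¬ NW G Ω r := by
      by_contra h2
      push Not at h2
      exact hc (h.iComm_of_nw h2)
    by_contra h2
    push Not at h2
    obtain ⟨⟨i, hi⟩, s, hs, hs2, hsr, hns⟩ := h2 r hr hr2 hnr
    obtain ⟨⟨j, hj⟩, -⟩ := h2 s hs hs2 hns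
    have h4 : j ≠ 0 := by rintro rfl; rw [pow_zero] at hj; omega
    exact hsr ((Nat.prime_dvd_prime_iff_eq hs hr).1
      (hs.dvd_of_dvd_pow (hi ▸ hj ▸ dvd_pow_self s h4)))
  obtain ⟨R, α, β, hne, hRβ, hR⟩ := h.exists_syl hp hp2 hnw hn hch
  exact hB p hp hp2 hnw R α β hne hRβ hR

theorem tr2_of (hc : IComm G Ω) (α β γ : Ω) (h1 : α ≠ β) (h2 : α ≠ γ) :
    ∃ g ∈ stabilizer G α, g • β = γ := by
  obtain ⟨n, h3, hA⟩ := h.exists_n
  obtain ⟨l, hl, l2, hd, ho⟩ := exists_prime_ndvd (n := n) (by omega)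
  obtain ⟨A, hP⟩ := h.pt α
  exact h.tr2_of_nw hP hl l2 hd ho (hA α A hP) (hc.nw hl l2) h1 h2

end Pin0

theorem Pin0.iComm (hB : CB4.{u}) {Ω : Type u} [MulAction G Ω] {𝒜 : Set G} (h : Pin0 𝒜 Ω) :
    IComm G Ω :=
  h.iComm_of (hB G 𝒜 Ω h fun _ _ _ k1 k2 k3 => h.eq_top k1 k2 k3)

theorem Pin0.tr2 (hB : CB4.{u}) {Ω : Type u} [MulAction G Ω] {𝒜 : Set G} (h : Pin0 𝒜 Ω) :
    ∀ α β γ : Ω, α ≠ β → α ≠ γ → ∃ g ∈ stabilizer G α, g • β = γ := h.tr2_of (h.iComm hB)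

end Cfsg.Agent.P14.C
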