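/-
P21, chapter C, step (D): interface and basics.
-/
import Cfsg.Agent.P21.C2
import Cfsg.Agent.P21.CI
import Cfsg.Agent.P21.A0
import Cfsg.Agent.P21.Z
import Cfsg.Agent.P21.LA0
import Cfsg.Agent.P14.E1a

set_option autoImplicit false
set_option linter.unusedSectionVars false

namespace Cfsg.Agent.P14.C

open Subgroup Cfsg Cfsg.Agent Cfsg.Agent.FT MulAction
open Cfsg.Agent.P6 (St2 Od Inv)
open scoped commutatorElement

universe u

variable {G : Type u} [Group G] [Finite G] [ICl G]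

/-- The hypothesis of step (D). -/
structure Md (𝒜 : Set G) (Ω : Type u) [MulAction G Ω] : Prop extends Pin0 𝒜 Ω where
  ci : P21.CI G 𝒜
  ki : P21.KI.{u} (Nat.card G)
  comm : IComm G Ω
  tr2 : ∀ α β γ : Ω, α ≠ β → α ≠ γ → ∃ g ∈ stabilizer G α, g • β = γ
  l1 : ∀ r : ℕ, r.Prime → r ≠ 2 → ∀ X : Subgroup G, IsPGroup r X → (Fx Ω 𝐂(X)).Nonempty →
    ∀ δ : Ω, X ≤ stabilizer G δ → δ ∈ Fx Ω 𝐂(X)
  l2 : (∀ t : G, Inv t → In t) → ∀ r : ℕ, r.Prime → r ≠ 2 → ∀ X : Subgroup G, IsPGroup r X →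
    Fx Ω 𝐂(X) = ∅ → ∀ δ ε ζ : Ω, X ≤ stabilizer G δ → X ≤ stabilizer G ε →
    X ≤ stabilizer G ζ → δ ≠ ε → δ ≠ ζ → ε = ζ

/-- `Md`, and the involutions of a two point stabilizer centralize `A`. -/
structure Md1 (𝒜 : Set G) (Ω : Type u) [MulAction G Ω] : Prop extends Md 𝒜 Ω where
  f1 : ∀ {α β : Ω}, α ≠ β → ∀ {z : G}, Inv z → z ∈ St2 G α β → z ∈ 𝐂(Ac G α)

variable {Ω : Type u} [MulAction G Ω]

namespace Md

variable {𝒜 : Set G} (h : Md 𝒜 Ω)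
include h

theorem se : SE G Ω := h.toSE

theorem ga : P21.GA 𝒜 := h.amb.ga

theorem finite : Finite Ω := h.toPin0.finite

theorem exA (α : Ω) : IsElementaryAbelian 2 (Ac G α) ∧ 8 ≤ 𝐨(Ac G α) ∧
    ∀ a, a ∈ Ac G α ↔ a = 1 ∨ In a ∧ a • α = α := by
  obtain ⟨A, hA⟩ := h.pt α
  have m : ∀ a, a ∈ A ↔ a = 1 ∨ In a ∧ a • α = α := fun a => by
    refine ⟨fun ha => ?_, ?_⟩
    · by_cases a1 : a = 1
      · exact Or.inl a1
      · exact Or.inr ⟨hA.mem a ha a1, hA.le ha⟩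
    · rintro (rfl | ⟨h1, h2⟩)
      · exact one_mem _
      · refine hA.max a h1 (mem_cent.2 fun b hb => ?_)
        by_cases b1 : b = 1
        · rw [b1, one_mul, mul_one]
        · exact h.comm b a α (hA.mem b hb b1) h1 (hA.le hb) h2
  have e : Ac G α = A := le_antisymm ((closure_le _).2 fun a ha => (m a).2 (Or.inr ha))
    fun a ha => ((m a).1 ha).elim (fun e => e ▸ one_mem _) fun e => subset_closure e
  rw [e]
  exact ⟨hA.el, hA.eight, m⟩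

theorem elem (α : Ω) : IsElementaryAbelian 2 (Ac G α) := (h.exA α).1

theorem eight (α : Ω) : 8 ≤ 𝐨(Ac G α) := (h.exA α).2.1

theorem mem_Ac {α : Ω} {a : G} : a ∈ Ac G α ↔ a = 1 ∨ In a ∧ a • α = α := (h.exA α).2.2 a

theorem mem {α : Ω} {a : G} (ha : In a) (e : a • α = α) : a ∈ Ac G α := h.mem_Ac.2 (Or.inr ⟨ha, e⟩)

theorem inn {α : Ω} {a : G} (ha : a ∈ Ac G α) (h1 : a ≠ 1) : In a :=
  ((h.mem_Ac.1 ha).resolve_left h1).1

theorem fix {α : Ω} {a : G} (ha : a ∈ Ac G α) : a • α = α :=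
  (h.mem_Ac.1 ha).elim (fun e => by rw [e, one_smul]) And.right

theorem norm_A (α : Ω) : stabilizer G α ≤ 𝐍(Ac G α) := fun g hg => mem_norm_of_conj_le (by
  rintro _ ⟨a, ha, rfl⟩
  by_cases a1 : a = 1
  · simp [a1]
  · exact h.mem ((h.inn ha a1).conj g) (P6.conj_fix' (h.fix ha) hg))

theorem ncard_Iv (α : Ω) (N : Subgroup G) :
    (Iv G α ∩ N).ncard = 𝐨((Ac G α ⊓ N : Subgroup G)) - 1 := by
  rw [← ncard_sharp]
  congr 1
  ext a
  exact ⟨fun ha => ⟨⟨h.mem ha.1.1 ha.1.2, ha.2⟩, ha.1.1.ne⟩,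
    fun ha => ⟨⟨h.inn ha.1.1 ha.2, h.fix ha.1.1⟩, ha.1.2⟩⟩

theorem exists_A (α : Ω) : ∃ a ∈ Ac G α, a ≠ 1 :=
  (bot_or_exists_ne_one _).resolve_left fun e => by
    have := h.eight α
    rw [e, card_bot] at this
    omega

theorem mem_Fx {N : Subgroup G} {α : Ω} (hN : Ac G α ≤ N) : α ∈ Fx Ω N := by
  obtain ⟨a, ha, a1⟩ := h.exists_A α
  exact ⟨a, hN ha, h.inn ha a1, h.fix ha⟩

theorem rk2 {N : Subgroup G} {α : Ω} (hN : Ac G α ≤ N) : Rk2 N := by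
  obtain ⟨a, ha, b, hb, h1, h2, h3, h4⟩ := P6.rk2_of_two_lt (A := Ac G α) (fun a ha => by
    rw [← pow_two, (h.elem α).2 a ha]) (lt_of_lt_of_le (by norm_num) (h.eight α))
  exact ⟨a, hN ha, b, hN hb, h.inn ha h1.ne, h.inn hb h2.ne, h3, h4⟩

theorem card_eq (α β : Ω) : 𝐨(Ac G α) = 𝐨(Ac G β) := by
  obtain ⟨g, -, rfl⟩ := h.se.exists_smul_Fx (h.mem_Fx (α := α) le_top) (h.mem_Fx (α := β) le_top)
  have e1 := SE.ncard_Iv_smul g α
  have e2 := h.ncard_Iv α ⊤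
  have e3 := h.ncard_Iv (g • α) ⊤
  rw [inf_top_eq, coe_top, Set.inter_univ] at e2 e3
  have := h.eight α
  have := h.eight (g • α)
  omega

theorem pg (α : Ω) : IsPGroup 2 (Ac G α) := elemAb_isPGroup (h.elem α)

theorem sq {α : Ω} {a : G} (ha : a ∈ Ac G α) : a * a = 1 := by
  rw [← pow_two, (h.elem α).2 a ha]

theorem cc (α : Ω) : Ac G α ≤ 𝐂(Ac G α) := isMulComm_iff_le_cent.1 (h.elem α).1

theorem A_le (α : Ω) : Ac G α ≤ stabilizer G α := fun _ ha => h.fix ha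

theorem norm_le (α : Ω) : 𝐍(Ac G α) ≤ stabilizer G α := fun g hg => by
  obtain ⟨a, ha, a1⟩ := h.exists_A α
  exact h.se.smul_eq_of_conj (h.inn ha a1) (h.fix ha) (h.fix ((mem_normalizer_iff.1 hg a).1 ha))

theorem C_le (α : Ω) : 𝐂(Ac G α) ≤ stabilizer G α := (cent_le_norm _).trans (h.norm_le α)

theorem norm_C (α : Ω) : stabilizer G α ≤ 𝐍(𝐂(Ac G α)) :=
  H1.le_normalizer_centralizer (h.norm_A α)

theorem card_A (α : Ω) : ∃ n, 3 ≤ n ∧ 𝐨(Ac G α) = 2 ^ n := by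
  obtain ⟨n, e⟩ := exists_card_eq_pow Nat.prime_two (h.pg α)
  have h8 := h.eight α
  rw [e] at h8
  exact ⟨n, (Nat.pow_le_pow_iff_right one_lt_two).1 h8, e⟩

theorem A_smul (g : G) (α : Ω) : Ac G (g • α) = Ac G α ^ᵍ g := by
  refine (eq_of_le_of_card_ge ?_ (by rw [card_conj, h.card_eq])).symm
  rintro _ ⟨a, ha, rfl⟩
  by_cases a1 : a = 1
  · simp [a1]
  · exact h.mem ((h.inn ha a1).conj g) (by
      show (g * a * g⁻¹) • g • α = g • α
      rw [P6.conj_smul_smul, h.fix ha])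

/-- A Sylow 2-subgroup of a point stabilizer is a Sylow 2-subgroup of `G`. -/
theorem odd_card : Odd (Nat.card Ω) := by
  have := h.finite
  obtain ⟨α, -⟩ := h.two
  obtain ⟨a, ia, ea⟩ := h.toPin0.all α
  have e := P6.ncard_modEq_fixed Nat.prime_two ia.isPGroup (Set.toFinite (Set.univ : Set Ω))
    (fun _ _ _ _ => trivial)
  rw [show {s ∈ (Set.univ : Set Ω) | ∀ x ∈ zpowers a, x • s = s} = {α} from
    Set.eq_singleton_iff_unique_mem.2 ⟨⟨trivial, zpowers_le (H := stabilizer G α).2 ea⟩,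
      fun γ hγ => h.uniq ia (hγ.2 a (mem_zpowers a)) ea⟩, Set.ncard_singleton,
    Set.ncard_univ] at e
  exact Nat.odd_iff.2 e

theorem syl_top {α : Ω} {S : Subgroup G} (hS : IsSyl 2 S (stabilizer G α)) : IsSyl 2 S ⊤ := by
  refine hS.trans Nat.prime_two le_top ?_
  rw [← P6.ncard_orbit, Set.eq_univ_of_forall (s := {β | ∃ g ∈ (⊤ : Subgroup G), g • α = β})
    fun β => (h.toPin0.trans α β).imp fun g e => ⟨mem_top g, e⟩, Set.ncard_univ]
  exact h.odd_card.not_two_dvd_nat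

theorem A_le_syl {α : Ω} {S : Subgroup G} (hS : IsSyl 2 S (stabilizer G α)) : Ac G α ≤ S :=
  hS.le_of_le_norm Nat.prime_two (h.pg α) (h.A_le α) (hS.le.trans (h.norm_A α))

theorem exists_fix {P : Subgroup G} (hP : IsPGroup 2 P) : ∃ α : Ω, P ≤ stabilizer G α := by
  have := h.finite
  obtain ⟨γ, -, e⟩ := P6.exists_fixed_of_not_dvd Nat.prime_two hP (Set.toFinite (Set.univ : Set Ω))
    (fun _ _ _ _ => trivial) (by rw [Set.ncard_univ]; exact h.odd_card.not_two_dvd_nat)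
  exact ⟨γ, e⟩

theorem card_inf {N L : Subgroup G} {n e : ℕ} (b : BTd4 Ω N L n e) {γ : Ω} (hγ : γ ∈ Fx Ω N) :
    𝐨((Ac G γ ⊓ N : Subgroup G)) = 2 ^ n := by
  obtain ⟨T, t⟩ := b.pt γ hγ
  have TN := t.syl.le.trans b.normal.1
  have AT : Ac G γ ⊓ N ≤ T := t.syl.le_of_le_norm Nat.prime_two
    ((h.pg γ).to_le inf_le_left) (fun a ha => by
      by_cases a1 : a = 1
      · rw [a1]; exact one_mem _
      · exact b.mem a ha.2 (h.inn ha.1 a1))
    (H1.le_normalizer_inf (t.le.trans (h.norm_A γ)) (TN.trans (le_norm_self N)))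
  rw [← t.cardI, ← SetLike.coe_sort_coe, Nat.card_coe_set_eq]
  congr 1
  ext a
  refine ⟨fun ha => ⟨AT ha, h.sq ha.1⟩, fun ha => ⟨h.mem_Ac.2 ?_, TN ha.1⟩⟩
  by_cases a1 : a = 1
  · exact Or.inl a1
  · exact Or.inr ⟨b.inv a (t.syl.le ha.1) ⟨a1, ha.2⟩, t.le ha.1⟩

theorem relIndex_stab {α β : Ω} (hne : α ≠ β) :
    (St2 G α β).relIndex (stabilizer G α) + 1 = Nat.card Ω := by
  have := h.finite
  rw [← Set.ncard_add_ncard_compl ({α} : Set Ω), Set.ncard_singleton, add_comm, inf_relIndex_left,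
    ← P6.ncard_orbit]
  congr 2
  ext γ
  refine ⟨?_, fun hγ => h.tr2 α β γ hne (Ne.symm hγ)⟩
  rintro ⟨g, hg, rfl⟩ e
  exact hne (smul_left_cancel g (hg.trans e.symm))

end Md

end Cfsg.Agent.P14.C
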