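/-
P21: assembly.
-/
import Cfsg.Agent.P21.B
import Cfsg.Agent.P21.B8
import Cfsg.Agent.P21.C5
import Cfsg.Agent.P21.D0

set_option autoImplicit false

namespace Cfsg.Agent.P14.C

open Subgroup Cfsg Cfsg.Agent Cfsg.Agent.FT

universe u

variable {G : Type u} [Group G] [Finite G]

theorem Pin0.md (hB : CB4.{u}) [ICl G] {𝒜 : Set G} {Ω : Type u} [MulAction G Ω] (h : Pin0 𝒜 Ω)
    (ci : P21.CI G 𝒜) (ki : P21.KI.{u} (Nat.card G)) : Md 𝒜 Ω :=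
  ⟨h, ci, ki, h.iComm hB, h.tr2 hB,
    fun _ hr h2 _ hX h1 _ hδ => h.L1 hr h2 ((h.iComm hB).nw hr h2) hX h1 hδ,
    fun all _ hr h2 _ hX h1 _ _ _ a b c d e =>
      h.L2 all hr h2 ((h.iComm hB).nw hr h2) hX h1 a b c d e⟩

/-- Step (D) and the endgame. -/
def MdStmt : Prop := ∀ (G : Type u) [Group G] [Finite G] [ICl G] (𝒜 : Set G) (Ω : Type u)
  [MulAction G Ω], Md 𝒜 Ω → P21.Kn G

theorem c8_of (hB : CB4.{u}) (hK : MdStmt.{u}) : P21.C8Stmt.{u} := by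
  intro G _ _ 𝒜 ci ki A S W g h h8
  obtain ⟨_, p⟩ := csStmt G 𝒜 A S W g h h8
  exact hK G 𝒜 _ (p.md hB ci ki)

theorem s4030_of (hB : CB4.{u}) (hK : MdStmt.{u}) (hs : IsSimpleGroup G)
    (na : ¬ IsMulCommutative G) (hirr : ∀ x : G, (∀ r : ℕ, r.Prime → r ∣ orderOf x → r = 2) →
      𝐍(zpowers x) ≤ 𝐂[x]) : P21.Concl G :=
  P21.s4030 P21.zStmt P21.bAll (P21.cStmt_of (P21.b8Stmt P21.laStmt P21.lbStmt P21.iStmt
    P21.iiStmt P21.b1Stmt P21.acStmt) (c8_of hB hK)) hs na hirr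

end Cfsg.Agent.P14.C
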