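/-
P21, chapter C: lines.  Consequences of `BT4` for subgroups that contain a full group `A`.
-/
import Cfsg.Agent.P21.C0
import Cfsg.Agent.P21.CT

set_option autoImplicit false
set_option linter.unusedSectionVars false

namespace Cfsg.Agent.P14.C

open Subgroup Cfsg Cfsg.Agent Cfsg.Agent.FT MulAction Cfsg.Agent.P6
open scoped commutatorElement

universe u v

variable {G : Type u} [Group G] [Finite G] [ICl G] {Ω : Type v} [MulAction G Ω]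

theorem Pt.mem_Fx {α : Ω} {A N : Subgroup G} (h : Pt (stabilizer G α) A) (hN : A ≤ N) :
    α ∈ Fx Ω N := by
  obtain ⟨a, ha, -, -, hi, -⟩ := h.rk2
  exact ⟨a, hN ha, hi, h.le ha⟩

theorem Pt.mem_Cb {H A : Subgroup G} (h : Pt H A) {x : G} (hx : x ∈ H)
    (hc : ∀ a ∈ A, In a → Odd (orderOf ⁅x, a⁆)) : x ∈ Cb H :=
  (h.mem_Cb_iff hx).2 (mem_cent.2 fun z hz => by
    by_cases h1 : z = 1
    · simp [h1]
    obtain ⟨a, haH, ha, hi, rfl⟩ := h.exists_lift hz h1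
    exact ((pr_comm_iff hx haH).2 (h.comm_mem_of_odd hx haH hi (hc a ha hi))).symm)

namespace BTd4

variable {N L T : Subgroup G} {n e : ℕ} {γ : Ω} (hN : BTd4 Ω N L n e) (hT : BTp4 Ω N L n e γ T)
include hN hT

theorem TN : T ≤ N := hT.syl.le.trans hN.normal.1

theorem sylT : IsSyl 2 T (T ⊔ Od N) := hT.syl.of_le le_sup_left (sup_le hT.syl.le hN.od)

theorem mem_od {x : G} (hx : x ∈ T ⊔ Od N) (ho : Odd (orderOf x)) : x ∈ Od N := by
  have h1 : x ∈ N := sup_le (hN.TN hT) (Od_normal N).1 hx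
  rw [sup_comm] at hx
  obtain ⟨o, ho', t, ht, rfl⟩ := (mem_sup_of_norm ((hN.TN hT).trans (Od_normal N).2)).1 hx
  have h2 : pr N ⟨_, h1⟩ = pr N ⟨t, hN.TN hT ht⟩ := by
    rw [show (⟨_, h1⟩ : N) = ⟨o, (Od_normal N).1 ho'⟩ * ⟨t, hN.TN hT ht⟩ from rfl, map_mul,
      pr_eq_one.2 ho', one_mul]
  refine pr_eq_one.1 (eq_one_of_odd_of_mem (P := H1.bar N (Od N) T)
    ((hT.syl.pgrp.of_injective (subgroupOfEquivOfLe (hN.TN hT)).toMonoidHom
      (subgroupOfEquivOfLe (hN.TN hT)).injective).map _) ?_ (odd_orderOf_pr h1 ho))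
  rw [h2]
  exact H1.qmk_mem_bar ht

theorem two_le_sup {P : Subgroup G} (hP : IsPGroup 2 P) (PL : P ≤ L) (Pγ : P ≤ stabilizer G γ) :
    P ≤ T ⊔ Od N := by
  have h1 : T ⊔ Od N ≤ L := sup_le hT.syl.le hN.od
  have h2 : T ⊔ Od N ⊲ T ⊔ Od N ⊔ P :=
    ⟨le_sup_left, sup_le (le_norm_self _) ((le_inf (PL.trans hN.normal.1) Pγ).trans hT.norm)⟩
  obtain ⟨g, hg, k⟩ := (hT.syl.of_le (le_sup_left.trans le_sup_left) (sup_le h1 PL)).exists_le_conj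
    Nat.prime_two hP le_sup_right
  exact k.trans ((conj_mono le_sup_left g).trans (conj_eq_of_mem_norm (h2.2 hg)).le)

theorem sup_le_stab (h : SE G Ω) (hγ : γ ∈ Fx Ω N) : T ⊔ Od N ≤ stabilizer G γ :=
  sup_le hT.le (hN.od_fix h hγ)

theorem comm_mem {x a : G} (xN : x ∈ N) (hx : x ∈ Cb (stabilizer G γ)) (aN : a ∈ N) (ha : In a)
    (ea : a • γ = γ) : ⁅x, a⁆ ∈ Od N := by
  have h1 := hN.two_le_sup hT ha.isPGroup (zpowers_le.2 (hN.mem a aN ha))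
    (zpowers_le (H := stabilizer G γ).2 ea) (mem_zpowers a)
  exact hN.mem_od hT (cmr (hT.norm ⟨xN, hx.1⟩) h1) (odd_orderOf_of_mem (odd_Od _) (hx.2 a ea ha))

theorem full (h : SE G Ω) {B : Subgroup G} (hB : Pt (stabilizer G γ) B) (BN : B ≤ N) :
    𝐨(B) = 2 ^ n := by
  have BL : B ≤ L := fun b hb => by
    by_cases b1 : b = 1
    · rw [b1]; exact one_mem _
    · exact hN.mem b (BN hb) (hB.mem b hb b1)
  obtain ⟨g, hg, k⟩ := (hN.sylT hT).exists_conj_le Nat.prime_two hB.pgrp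
    (hN.two_le_sup hT hB.pgrp BL hB.le)
  have h1 := hB.conj' (hN.sup_le_stab hT h (hB.mem_Fx BN) hg)
  rw [← card_conj B g, ← hT.cardI, ← SetLike.coe_sort_coe, Nat.card_coe_set_eq]
  congr 1
  ext t
  refine ⟨fun ht => ⟨k ht, h1.sq ht⟩, fun ht => ?_⟩
  by_cases t1 : t = 1
  · rw [t1]; exact one_mem _
  · exact h1.max t (hN.inv t (hT.syl.le ht.1) ⟨t1, ht.2⟩) (cent_anti k (hT.cen t ht.1 ht.2))

omit hT

/-- An element that fixes all points centralizes `L` modulo `O(N)`. -/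
theorem comm_of_fix {x y : G} (xN : x ∈ N) (hx : ∀ δ ∈ Fx Ω N, x • δ = δ) (hy : y ∈ L) :
    ⁅x, y⁆ ∈ Od N := by
  have h1 : 2 < (Fx Ω N).ncard := by
    rw [hN.card]
    have := Nat.pow_le_pow_right two_pos hN.two_le
    have := Nat.le_self_pow (n := e) (by have := hN.ty; omega) (2 ^ n)
    omega
  obtain ⟨α, β, γ, hα, hβ, hγ, n1, n2, n3⟩ :=
    (Set.two_lt_ncard_iff (Set.finite_of_ncard_ne_zero (by omega))).1 h1
  have k : ∀ δ ∈ Fx Ω N, ⁅x, y⁆ • δ = δ := fun δ hδ => by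
    have h2 := smul_mem_Fx' (inv_mem (hN.normal.1 hy)) hδ
    rw [commutatorElement_def, mul_smul, mul_smul, mul_smul, inv_smul_eq_iff.2 (hx _ h2).symm,
      smul_inv_smul, hx δ hδ]
  exact hN.fix3 _ (cmr (hN.normal.2 xN) hy) α hα β hβ γ hγ n1 n2 n3 (k α hα) (k β hβ) (k γ hγ)

/-- An element of odd order that centralizes the class at one point fixes all points. -/
theorem fix_of_odd (h : SE G Ω) {𝒜 : Set G} (ga : P21.GA (P21.ab 𝒜 N)) (hi : ∀ a ∈ 𝒜, Inv a)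
    (hγ : γ ∈ Fx Ω N) {x : G}
    (xN : x ∈ N) (hx : x ∈ Cb (stabilizer G γ)) (ho : Odd (orderOf x)) {δ : Ω}
    (hδ : δ ∈ Fx Ω N) : x • δ = δ := by
  obtain ⟨T, hT⟩ := hN.pt γ hγ
  have TN := hN.TN hT
  have e1 : H1.bar N (Od N) (T ⊔ Od N) = H1.bar N (Od N) T := by
    rw [H1.bar_sup TN (Od_normal N).1, H1.bar_self, sup_bot_eq]
  have h1 := ga.odd (H1.bar N (Od N) T) ((hT.syl.pgrp.of_injective
    (subgroupOfEquivOfLe TN).toMonoidHom (subgroupOfEquivOfLe TN).injective).map _) (pr N ⟨x, xN⟩)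
    (e1 ▸ H1.bar_le_normalizer (H := zpowers x) (zpowers_le.2 (hT.norm ⟨xN, hx.1⟩))
      (H1.qmk_mem_bar (mem_zpowers x))) (odd_orderOf_pr xN ho) (by
      rintro _ ⟨b, hb, rfl⟩ hm
      rw [← e1] at hm
      have h2 : (b : G) ∈ T ⊔ Od N := by
        have := H1.coe_mem_unbar.2 hm
        rwa [H1.unbar_bar_of_le le_sup_right (sup_le TN (Od_normal N).1)] at this
      exact mem_cent1.2 ((pr_comm_iff xN b.2).2 (hN.comm_mem hT xN hx b.2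
        (hN.inv b (sup_le hT.syl.le hN.od h2) (hi b hb)) (hN.sup_le_stab hT h hγ h2))).symm)
  obtain ⟨ε, hε, hne, k⟩ := hN.exists_fixed h hγ (P := zpowers x) (by rwa [Nat.card_zpowers])
    (zpowers_le.2 xN) (zpowers_le.2 hx.1)
  by_cases n1 : δ = γ
  · rw [n1]; exact hx.1
  obtain ⟨t, ht, rfl⟩ := hT.tr ε hε hne δ hδ n1
  have h2 := (pr_comm_iff xN (TN ht)).1 (mem_cent.1 h1 _ (H1.qmk_mem_bar (y := ⟨t, TN ht⟩) ht)).symm
  have h3 : x * t = ⁅x, t⁆ * (t * x) := by rw [commutatorElement_def]; group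
  rw [← mul_smul, h3, mul_smul, mul_smul, k (mem_zpowers x), hN.od_fix h hδ h2]

/-- A subgroup with the same field has the same points. -/
theorem fx_eq (h : SE G Ω) {M L' : Subgroup G} {e' : ℕ} (hM : BTd4 Ω M L' n e') (MN : M ≤ N) :
    Fx Ω M = Fx Ω N := by
  have fin := h.finite_Fx N
  refine Set.eq_of_subset_of_ncard_le (Fx_mono MN) ?_ fin
  have h1 := Set.ncard_le_ncard (Fx_mono MN) fin
  rw [hM.card, hN.card] at h1 ⊢
  rcases hN.ty with ⟨rfl, -⟩ | ⟨rfl, ⟨k, rfl⟩, -⟩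
  · have := Nat.le_self_pow (n := e') (by have := hM.ty; omega) (2 ^ n)
    rw [pow_one]; omega
  rcases hM.ty with ⟨rfl, -⟩ | ⟨rfl, -⟩
  swap
  · exact le_rfl
  exfalso
  obtain ⟨α, a, aM, ha, ea⟩ := hM.nontrivial.nonempty
  have e1 : Fx Ω M = {c | ∃ y ∈ L ⊓ M, y • α = c} := by
    ext β
    refine ⟨fun ⟨b, bM, hb, eb⟩ => h.exists_smul_Fx ⟨a, ⟨hN.mem a (MN aM) ha, aM⟩, ha, ea⟩
      ⟨b, ⟨hN.mem b (MN bM) hb, bM⟩, hb, eb⟩, ?_⟩
    rintro ⟨y, hy, rfl⟩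
    exact smul_mem_Fx' hy.2 ⟨a, aM, ha, ea⟩
  have e2 := hM.card
  rw [e1, ncard_orbit] at e2
  have d1 := relIndex_dvd_of_le_left (L ⊓ M) (hN.od_fix h ⟨a, MN aM, ha, ea⟩)
  have d2 : (Od N).relIndex (L ⊓ M) ∣ (Od N).relIndex L := by
    rw [← H1.card_bar (N := Od N) (Y := N) (inf_le_left.trans hN.normal.1),
      ← H1.card_bar (N := Od N) (Y := N) hN.normal.1]
    exact FT.card_dvd_of_le (H1.bar_mono inf_le_left)
  have d3 := d1.trans d2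
  rw [e2, hN.idx] at d3
  have h6 : 2 ^ (2 * k + 1) % 3 = 2 := by rw [pow_succ, pow_mul, Nat.mul_mod, Nat.pow_mod]; simp
  generalize 2 ^ (2 * k + 1) = q at h6 d3
  have h7 : q ^ 2 % 3 = 1 := by rw [Nat.pow_mod, h6]
  have d4 : 3 ∣ q ^ 2 * (q - 1) * (q ^ 2 + 1) := Dvd.dvd.trans (by rw [pow_one]; omega) d3
  simp only [Nat.prime_three.dvd_mul] at d4
  omega

end BTd4

namespace Pin0

variable {𝒜 : Set G} (h : Pin0 𝒜 Ω)
include h

theorem bt4 {N B : Subgroup G} (hN : N ≠ ⊤) {γ δ : Ω} (hB : Pt (stabilizer G γ) B) (BN : B ≤ N)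
    (hδ : δ ∈ Fx Ω N) (hne : δ ≠ γ) : BT4 Ω N :=
  h.toSE.bt4 (h.amb.ty N hN) (hB.rk2.mono BN) ⟨δ, hδ, γ, hB.mem_Fx BN, hne⟩

theorem fix_of {N : Subgroup G} (hN : N ≠ ⊤) {γ ε : Ω} {B : Subgroup G}
    (hB : Pt (stabilizer G γ) B) (BN : B ≤ N) (hε : ε ∈ Fx Ω N) {x : G} (xN : x ∈ N)
    (hx : x ∈ Cb (stabilizer G γ)) (ho : Odd (orderOf x)) : x • ε = ε := by
  by_cases e : ε = γ
  · rw [e]; exact hx.1
  obtain ⟨L, n, e0, b⟩ := h.bt4 hN hB BN hε e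
  exact b.fix_of_odd h.toSE (h.amb.gq N) h.amb.ga.inv (hB.mem_Fx BN) xN hx ho hε

theorem cb_of {N : Subgroup G} (hN : N ≠ ⊤) {γ ε : Ω} {B B' : Subgroup G}
    (hB : Pt (stabilizer G γ) B) (BN : B ≤ N) (hB' : Pt (stabilizer G ε) B') (BN' : B' ≤ N)
    {x : G} (xN : x ∈ N) (hx : x ∈ Cb (stabilizer G γ)) (ho : Odd (orderOf x)) :
    x ∈ Cb (stabilizer G ε) := by
  by_cases e : ε = γ
  · rwa [e]
  obtain ⟨L, n, e0, b⟩ := h.bt4 hN hB BN (hB'.mem_Fx BN') e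
  have k := fun δ => h.fix_of hN hB BN (ε := δ) (x := x)
  exact hB'.mem_Cb (k ε (hB'.mem_Fx BN') xN hx ho) fun a ha hi => odd_orderOf_of_mem (odd_Od N)
    (b.comm_of_fix xN (fun δ hδ => k δ hδ xN hx ho) (b.mem a (BN' ha) hi))

/-- Two points determine a line. -/
theorem fx_eq {M N : Subgroup G} (hN : N ≠ ⊤) (MN : M ≤ N) {γ δ : Ω} {B : Subgroup G}
    (hB : Pt (stabilizer G γ) B) (BM : B ≤ M) (hδ : δ ∈ Fx Ω M) (hne : δ ≠ γ) :
    Fx Ω M = Fx Ω N := by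
  obtain ⟨L, n, e, b⟩ := h.bt4 hN hB (BM.trans MN) (Fx_mono MN hδ) hne
  obtain ⟨L', n', e', b'⟩ := h.bt4 (fun k => hN (top_le_iff.1 (k ▸ MN))) hB BM hδ hne
  obtain ⟨T, t⟩ := b.pt γ (hB.mem_Fx (BM.trans MN))
  obtain ⟨T', t'⟩ := b'.pt γ (hB.mem_Fx BM)
  obtain rfl : n = n' := Nat.pow_right_injective le_rfl
    ((b.full t h.toSE hB (BM.trans MN)).symm.trans (b'.full t' h.toSE hB BM))
  exact b.fx_eq h.toSE b' MN

end Pin0

end Cfsg.Agent.P14.C
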