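/-
P21, chapter C: either `Cb H / O(H)` is a 2-group or `O(H) = 1`.
-/
import Cfsg.Agent.P21.CB0
import Cfsg.Agent.P21.C2
import Cfsg.Agent.P21.G0

set_option autoImplicit false
set_option linter.unusedSectionVars false

namespace Cfsg.Agent.P14.C

open Subgroup Cfsg Cfsg.Agent Cfsg.Agent.FT MulAction Cfsg.Agent.P6
open scoped commutatorElement

universe u v

variable {G : Type u} [Group G] [Finite G] [ICl G] {Ω : Type v} [MulAction G Ω] {𝒜 : Set G}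

omit [ICl G] in
theorem cw_two {s y : G} (hs : Inv s) (hy : Inv y) (hc : s * y = y * s) :
    IsPGroup 2 (zpowers s ⊔ zpowers y : Subgroup G) :=
  isPGroup_sup hs.isPGroup hy.isPGroup ((zpowers_le.2 (cent_zpowers y ▸ mem_cent1.2 hc.symm)).trans
    (cent_le_norm _))

theorem cw_norm {ε : Ω} {X : Subgroup G} (h1 : Od (stabilizer G ε) ≤ X)
    (h2 : X ≤ Cb (stabilizer G ε)) {a : G} (ha : In a) (ea : a • ε = ε) : a ∈ 𝐍(X) := by
  have := mem_norm_sup (X := X) ((Od_normal (stabilizer G ε)).2 ea) fun x hx => (h2 hx).2 a ea ha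
  rwa [sup_eq_left.2 h1] at this

theorem Pt.cw_norm {ε : Ω} {X B : Subgroup G} (hB : Pt (stabilizer G ε) B)
    (h1 : Od (stabilizer G ε) ≤ X) (h2 : X ≤ Cb (stabilizer G ε)) : B ≤ 𝐍(X) := fun b hb => by
  by_cases b1 : b = 1
  · rw [b1]; exact one_mem _
  · exact C.cw_norm h1 h2 (hB.mem b hb b1) (hB.le hb)

namespace Pin0

variable (h : Pin0 𝒜 Ω)
include h

theorem exists_pt {P : Subgroup G} (hP : IsPGroup 2 P) {γ : Ω} (Pγ : P ≤ stabilizer G γ) :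
    ∃ B, Pt (stabilizer G γ) B ∧ ∀ z ∈ P, z ∈ 𝒜 → B ≤ 𝐂[z] := by
  obtain ⟨A, hA⟩ := h.pt γ
  obtain ⟨w, hw, hn⟩ := hA.exists_norm_two hP Pγ
  have hB := hA.conj' ((Od_normal _).1 hw)
  refine ⟨_, hB, fun z hz h1 b hb => ?_⟩
  by_cases b1 : b = 1
  · rw [b1]; exact one_mem _
  · exact mem_cent1.2 (h.amb.ga.two _ (isPGroup_sup hP hB.pgrp hn) z h1 b
      (h.sub b (hB.mem b hb b1)) (mem_sup_left hz) (mem_sup_right hb))

theorem exists_pt1 {z : G} (hz : z ∈ 𝒜) {γ : Ω} (e : z • γ = γ) :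
    ∃ B, Pt (stabilizer G γ) B ∧ B ≤ 𝐂[z] :=
  (h.exists_pt (h.amb.ga.inv z hz).isPGroup (zpowers_le (H := stabilizer G γ).2 e)).imp
    fun _ k => ⟨k.1, k.2 z (mem_zpowers z) hz⟩

theorem fx_cent {z : G} (hz : z ∈ 𝒜) {γ : Ω} : γ ∈ Fx Ω 𝐂[z] ↔ z • γ = γ :=
  ⟨fun ⟨_, ha, ia, e⟩ => h.se.fix_of_commute ia e (mem_cent1.1 ha).symm, fun e => by
    obtain ⟨B, hB, k⟩ := h.exists_pt1 hz e
    exact hB.mem_Fx k⟩

theorem cent_ne_top {z : G} (hz : z ≠ 1) {γ : Ω} (e : z • γ = γ) : 𝐂[z] ≠ ⊤ := fun k =>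
  h.norm_ne_top_of_le (X := zpowers z) (by simpa using hz) (zpowers_le (H := stabilizer G γ).2 e)
    (top_le_iff.1 (k ▸ cent_zpowers z ▸ cent_le_norm _))

theorem exists_J_cent {v s : G} (hv : Inv v) (hs : s * s = 1) (hc : v * s = s * v) {δ : Ω}
    (e : s • δ = δ) (hne : v • δ ≠ δ) : ∃ t, In t ∧ t • δ = v • δ ∧ t ∈ 𝐂[v] ∧ t ∈ 𝐂[s] := by
  have hbc : zpowers s ≤ 𝐂(zpowers v) := by rw [cent_zpowers, zpowers_le]; exact mem_cent1.2 hc
  have e2 : s • v • δ = v • δ := by rw [← mul_smul, ← hc, mul_smul, e]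
  have k1 : ∀ x ∈ zpowers v, ∀ t ∈ Jv G δ (v • δ), x * t * x⁻¹ ∈ Jv G δ (v • δ) := by
    intro x hx t ht
    rcases hv.mem_zpowers_iff.1 hx with rfl | rfl
    · simpa using ht
    · exact ⟨ht.1.conj x, by rw [mul_smul, mul_smul, hv.inv_eq, ht.1.smul_eq ht.2]⟩
  have k2 : ∀ x ∈ zpowers s, ∀ t ∈ Jv G δ (v • δ), x * t * x⁻¹ ∈ Jv G δ (v • δ) := by
    intro x hx t ht
    have := conj_smul_smul x t δ
    rw [(zpowers_le (H := stabilizer G δ).2 e) hx, ht.2,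
      (zpowers_le (H := stabilizer G (v • δ)).2 e2) hx] at this
    exact ⟨ht.1.conj x, this⟩
  obtain ⟨t, ht, k⟩ := exists_cent_of_not_dvd Nat.prime_two
    (isPGroup_sup (P4.isPGroup_zpowers_of_sq hs) hv.isPGroup (hbc.trans (cent_le_norm _)))
    (S := Jv G δ (v • δ)) (fun x hx t ht => by
      rw [sup_comm] at hx
      obtain ⟨y, hy, z, hz, rfl⟩ := (mem_sup_of_norm (hbc.trans (cent_le_norm _))).1 hx
      have := k1 y hy _ (k2 z hz t ht)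
      rwa [show y * (z * t * z⁻¹) * y⁻¹ = y * z * t * (y * z)⁻¹ by group] at this) (by
      obtain ⟨u, hu, eu⟩ := h.exists_J hne.symm
      have := h.se.ncard_Jv_Od hu eu hne.symm (mem_top u)
      rw [coe_top, Set.inter_univ] at this
      rw [this]
      exact fun k => (Nat.not_even_iff_odd.2 (odd_Od _))
        (even_iff_two_dvd.2 (k.trans (relIndex_dvd_card' _ _))))
  exact ⟨t, ht.1, ht.2, cent_le_cent1 (mem_sup_right (mem_zpowers v)) k,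
    cent_le_cent1 (mem_sup_left (mem_zpowers s)) k⟩

theorem mul_mem {t z : G} (ht : In t) (hz : z ∈ 𝒜) (nz : ¬ In z) (hc : t ∈ 𝐂[z]) :
    t * z ∈ 𝒜 ∧ ¬ In (t * z) :=
  ⟨h.amb.ga.mul t (h.sub t ht) z hz (fun e => nz (e ▸ ht)) (mem_cent1.1 hc).symm, fun k => nz (by
    have := ht.mul k (fun e => (h.amb.ga.inv z hz).ne (left_eq_mul.1 e))
      (by rw [mul_assoc t z t, mem_cent1.1 hc])
    rwa [ht.mul_cancel_left] at this)⟩

/-- A member of `𝒜` outside the class fixes more than one point. -/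
theorem two_fix {z : G} (hz : z ∈ 𝒜) (nz : ¬ In z) {α : Ω} (e : z • α = α) :
    ∃ δ, δ ≠ α ∧ z • δ = δ := by
  by_contra hc
  push Not at hc
  have iz := h.amb.ga.inv z hz
  have := h.two
  obtain ⟨δ, hδ⟩ := exists_ne α
  obtain ⟨t, ht, et, tz, -⟩ := h.exists_J_cent iz (mul_one 1) (by simp) (one_smul G δ) (hc δ hδ)
  obtain ⟨η, eη⟩ := h.ex ht
  obtain rfl : η = α := by_contra fun k => hc η k (h.se.fix_of_commute ht eη (mem_cent1.1 tz).symm)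
  have hy := (h.mul_mem ht hz nz tz).1
  have iy := h.amb.ga.inv _ hy
  have ty : t ∈ 𝐂[t * z] := mem_cent1.2 (by rw [mul_assoc t z t, mem_cent1.1 tz])
  obtain ⟨ε, hε⟩ := not_forall.1 fun k => iy.ne (h.eq_one_of_fix k)
  obtain ⟨s, hs, es, sy, -⟩ := h.exists_J_cent iy (mul_one 1) (by simp) (one_smul G ε) hε
  obtain ⟨g, hg, k⟩ := h.se.exists_conj ⟨η, ⟨t, ty, ht, eη⟩, δ, (h.fx_cent hy).2 (by
    rw [mul_smul, ht.smul_eq et]), hδ.symm⟩ hs ht sy ty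
  have k1 : z = g * (s * (t * z)) * g⁻¹ := by
    rw [← conj_mul, k, mem_cent1_iff_conj.1 hg, ht.mul_cancel_left]
  have k2 : g • ε = η := by_contra fun n => hc _ n (by
    rw [k1]; exact conj_fix (by rw [mul_smul, hs.smul_eq es]))
  refine hε (es.symm.trans (smul_left_cancel g ?_))
  rw [← conj_smul_smul, k, k2, eη]

theorem fix_line {s y : G} (hs : s ∈ 𝒜) (hy : y ∈ 𝒜) (hc : s * y = y * s) {γ δ ε : Ω}
    (hne : δ ≠ γ) (e1 : s • γ = γ) (e2 : s • δ = δ) (e3 : y • γ = γ) (e4 : y • δ = δ)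
    (e5 : s • ε = ε) : y • ε = ε := by
  have key : ∀ η : Ω, s • η = η → y • η = η →
      ∃ B, Pt (stabilizer G η) B ∧ B ≤ 𝐂[s] ⊓ 𝐂[y] := fun η a b =>
    (h.exists_pt (cw_two (h.amb.ga.inv s hs) (h.amb.ga.inv y hy) hc)
      (sup_le (zpowers_le.2 a) (zpowers_le.2 b))).imp fun _ k => ⟨k.1, le_inf
        (k.2 s (mem_sup_left (mem_zpowers s)) hs) (k.2 y (mem_sup_right (mem_zpowers y)) hy)⟩
  obtain ⟨B, hB, k⟩ := key γ e1 e3
  obtain ⟨B', hB', k'⟩ := key δ e2 e4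
  exact (h.fx_cent hy).1 (Fx_mono inf_le_right ((h.fx_eq (h.cent_ne_top (h.amb.ga.inv s hs).ne e1)
    inf_le_left hB k (hB'.mem_Fx k') hne).ge ((h.fx_cent hs).2 e5)))

theorem exists_compl {α δ : Ω} {A : Subgroup G} (hA : Pt (stabilizer G α) A) {s v : G}
    (hs : s ∈ 𝒜) (hv : v ∈ 𝒜) (nv : ¬ In v) (hc : v * s = s * v) (As : A ≤ 𝐂[s])
    (e1 : s • α = α) (e2 : v • α = α) (e3 : s • δ = δ) : ∃ a ∈ A, (a * v) • δ = δ := by
  by_cases n1 : v • δ = δ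
  · exact ⟨1, one_mem _, by rwa [one_mul]⟩
  have is := h.amb.ga.inv s hs
  obtain ⟨t, ht, et, tv, ts⟩ := h.exists_J_cent (h.amb.ga.inv v hv) is.sq hc e3 n1
  obtain ⟨η, eη⟩ := h.ex ht
  have k1 : (t * v) • α = α := h.fix_line hs (h.mul_mem ht hv nv tv).1
    (by rw [← mul_assoc, mem_cent1.1 ts, mul_assoc, ← hc, mul_assoc]) (γ := η) (δ := δ)
    (fun k => n1 (by rw [← et, k, eη])) (h.se.fix_of_commute ht eη (mem_cent1.1 ts).symm) e3
    (by rw [mul_smul, h.se.fix_of_commute ht eη (mem_cent1.1 tv).symm, eη])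
    (by rw [mul_smul, ht.smul_eq et]) e1
  rw [mul_smul, e2] at k1
  obtain ⟨a, aH, ha, ia, k2⟩ := hA.exists_lift (hA.mem_bar ht k1) (ht.pr k1).ne
  have k3 := (pr_eq_iff aH k1).1 k2
  have k4 := h.fix_of (h.cent_ne_top is.ne e1) hA As ((h.fx_cent hs).2 e3)
    (Subgroup.mul_mem _ (inv_mem (As ha)) ts) (Od_le_Cb _ k3) (odd_orderOf_of_mem (odd_Od _) k3)
  exact ⟨a, ha, by rwa [mul_smul, ← et, ← ia.inv_eq, ← mul_smul]⟩

theorem le_cb {s y : G} (hs : s ∈ 𝒜) (hy : y ∈ 𝒜) (hne : s ≠ y) (hc : s * y = y * s) {ε η : Ω}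
    (e1 : s • ε = ε) (e2 : s • η = η) (e3 : y • ε = ε) (e4 : y • η = η) {X : Subgroup G}
    (ho : Odd 𝐨(X)) (hX : X ≤ Cb (stabilizer G ε)) (n1 : s ∈ 𝐍(X)) (n2 : y ∈ 𝐍(X)) :
    X ≤ Cb (stabilizer G η) := by
  have is := h.amb.ga.inv s hs
  have iy := h.amb.ga.inv y hy
  have hbc : zpowers y ≤ 𝐂(zpowers s) := by rw [cent_zpowers, zpowers_le]; exact mem_cent1.2 hc
  have he : IsElementaryAbelian 2 (zpowers s ⊔ zpowers y) :=
    elemAb_sup (elemAb_zpowers (by rw [pow_two, is.sq])) (elemAb_zpowers (by rw [pow_two, iy.sq]))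
      hbc
  refine H1.le_of_forall_centralizer_le he.1 (fun hcy => ?_)
    (sup_le (zpowers_le.2 n1) (zpowers_le.2 n2)) ?_ fun c hc1 hc2 x hx => ?_
  · have := eq_of_card_prime_of_isCyclic Nat.prime_two hcy le_sup_left le_sup_right
      is.card_zpowers iy.card_zpowers
    exact (iy.mem_zpowers_iff.1 (this ▸ mem_zpowers s)).elim is.ne hne
  · obtain ⟨n, hn⟩ := exists_card_eq_pow Nat.prime_two (elemAb_isPGroup he)
    rw [hn]
    exact (Nat.coprime_two_left.2 ho).pow_left n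
  have hc3 : c ∈ 𝒜 := by
    obtain ⟨a, ha, b, hb, rfl⟩ := (mem_sup_of_norm (hbc.trans (cent_le_norm _))).1 hc1
    rcases is.mem_zpowers_iff.1 ha with rfl | rfl <;>
      rcases iy.mem_zpowers_iff.1 hb with rfl | rfl
    · exact absurd (mul_one 1) hc2
    · rwa [one_mul]
    · rwa [mul_one]
    · exact h.amb.ga.mul _ hs _ hy hne hc
  have f1 : c • ε = ε := (sup_le (zpowers_le.2 e1) (zpowers_le.2 e3) : _ ≤ stabilizer G ε) hc1
  have f2 : c • η = η := (sup_le (zpowers_le.2 e2) (zpowers_le.2 e4) : _ ≤ stabilizer G η) hc1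
  obtain ⟨B, hB, k⟩ := h.exists_pt1 hc3 f1
  obtain ⟨B', hB', k'⟩ := h.exists_pt1 hc3 f2
  exact h.cb_of (h.cent_ne_top hc2 f1) hB k hB' k' hx.2 (hX hx.1) (odd_orderOf_of_mem ho hx.1)

theorem od_eq_bot {α : Ω} {A : Subgroup G} (hA : Pt (stabilizer G α) A) {z v : G} (hz : z ∈ 𝒜)
    (hv : v ∈ 𝒜) (hne : z ≠ v) (hc : z * v = v * z) (nz : ¬ In z) (nv : ¬ In v)
    (nzv : ¬ In (z * v)) (Az : A ≤ 𝐂[z]) (Av : A ≤ 𝐂[v]) (ez : z • α = α) (ev : v • α = α) :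
    Od (stabilizer G α) = ⊥ := by
  have iz := h.amb.ga.inv z hz
  have iv := h.amb.ga.inv v hv
  obtain ⟨a0, ha0, -, -, i0, -⟩ := hA.rk2
  have hW := fun ε : Ω => Od_normal (stabilizer G ε)
  have key : ∀ a ∈ A, a * z ∈ 𝒜 → ¬ In (a * z) → ∃ β, β ≠ α ∧ (a * z) • β = β ∧
      Od (stabilizer G β) ≤ Cb (stabilizer G α) ∧
      (∀ X : Subgroup G, Odd 𝐨(X) → X ≤ Cb (stabilizer G α) → A ≤ 𝐍(X) → z ∈ 𝐍(X) → v ∈ 𝐍(X) →
        X ≤ Cb (stabilizer G β)) ∧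
      ∀ X : Subgroup G, A ≤ 𝐍(X) → St2 G α β ≤ 𝐍(X) → z ∈ 𝐍(X) ∧ v ∈ 𝐍(X) := by
    intro a ha hs ns
    have e1 : (a * z) • α = α := by rw [mul_smul, ez, hA.le ha]
    have As : A ≤ 𝐂[a * z] := mem_cent_iff_cent1.1
      (Subgroup.mul_mem _ (hA.comm ha) (mem_cent_iff_cent1.2 Az))
    obtain ⟨β, hβ, e2⟩ := h.two_fix hs ns e1
    obtain ⟨b, hb, e3⟩ := h.exists_compl hA hs hv nv
      (by rw [← mul_assoc, mem_cent1.1 (Av ha), mul_assoc, ← hc, mul_assoc]) As e1 ev e2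
    have e4 : (b * v) • α = α := by rw [mul_smul, ev, hA.le hb]
    have hy : b * v ∈ 𝒜 := by
      by_cases b1 : b = 1
      · rwa [b1, one_mul]
      · exact (h.mul_mem (hA.mem b hb b1) hv nv (Av hb)).1
    have n1 : a * z ≠ b * v := fun e => by
      have e5 : z * v = a⁻¹ * b := by rw [eq_inv_mul_iff_mul_eq, ← mul_assoc, e, iv.mul_cancel_right]
      refine nzv (hA.mem _ (e5 ▸ A.mul_mem (inv_mem ha) hb) fun k => hne ?_)
      rw [eq_inv_of_mul_eq_one_left k, iv.inv_eq]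
    have c1 : a * z * (b * v) = b * v * (a * z) := by
      rw [← mul_assoc, mem_cent1.1 (As hb), mul_assoc, mul_assoc a, hc, ← mul_assoc a,
        ← mem_cent1.1 (Av ha), mul_assoc, mul_assoc]
    refine ⟨β, hβ, e2, h.le_cb hs hy n1 c1 e2 e1 e3 e4 (odd_Od _) (Od_le_Cb _) ((hW β).2 e2)
      ((hW β).2 e3), fun X k1 k2 k3 k4 k5 => h.le_cb hs hy n1 c1 e1 e2 e4 e3 k1 k2
        (Subgroup.mul_mem _ (k3 ha) k4) (Subgroup.mul_mem _ (k3 hb) k5), fun X k1 k2 =>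
      ⟨(mul_mem_cancel_left (k1 ha)).1 (k2 ⟨e1, e2⟩), (mul_mem_cancel_left (k1 hb)).1 (k2 ⟨e4, e3⟩)⟩⟩
  obtain ⟨β, nβ, eβ, b1, b2, b3⟩ := key 1 (one_mem _) (by rwa [one_mul]) (by rwa [one_mul])
  obtain ⟨γ, nγ, eγ, c1, c2, c3⟩ := key a0 ha0 (h.mul_mem i0 hz nz (Az ha0)).1
    (h.mul_mem i0 hz nz (Az ha0)).2
  rw [one_mul] at eβ
  have two : ∀ ε η : Ω, Od (stabilizer G ε) ≤ Cb (stabilizer G α) →
      (∀ X : Subgroup G, A ≤ 𝐍(X) → St2 G α ε ≤ 𝐍(X) → z ∈ 𝐍(X) ∧ v ∈ 𝐍(X)) →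
      (∀ X : Subgroup G, Odd 𝐨(X) → X ≤ Cb (stabilizer G α) → A ≤ 𝐍(X) → z ∈ 𝐍(X) → v ∈ 𝐍(X) →
        X ≤ Cb (stabilizer G η)) → Odd 𝐨((Od (stabilizer G ε) ⊔ Od (stabilizer G α) : Subgroup G)) ∧
      Od (stabilizer G ε) ⊔ Od (stabilizer G α) ≤ Cb (stabilizer G η) := fun ε η k1 k2 k3 => by
    have o := odd_sup (odd_Od _) (odd_Od _) ((k1.trans (Cb_le _)).trans (hW α).2)
    have l := sup_le k1 (Od_le_Cb _)
    have n := hA.cw_norm le_sup_right l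
    have m := k2 _ n (H1.le_normalizer_sup (inf_le_right.trans (hW ε).2) (inf_le_left.trans (hW α).2))
    exact ⟨o, k3 _ o l n m.1 m.2⟩
  obtain ⟨o1, l1⟩ := two β γ b1 b3 c2
  obtain ⟨-, l2⟩ := two γ β c1 c3 b2
  obtain ⟨U, hU⟩ : ∃ U, U = Od (stabilizer G β) ⊔ Od (stabilizer G α) ⊔ Od (stabilizer G γ) :=
    ⟨_, rfl⟩
  have u1 : Od (stabilizer G α) ≤ U := hU ▸ le_sup_right.trans le_sup_left
  have u2 : Od (stabilizer G β) ≤ U := hU ▸ le_sup_left.trans le_sup_left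
  have u3 : Od (stabilizer G γ) ≤ U := hU ▸ le_sup_right
  have n1 : A ≤ 𝐍(U) := hA.cw_norm u1 (hU ▸ sup_le (sup_le b1 (Od_le_Cb _)) c1)
  have nz : z ∈ 𝐍(U) := mem_norm_of_conj_le (by
    conv_lhs => rw [hU, conj_sup, conj_sup, conj_eq_of_mem_norm ((hW β).2 eβ),
      conj_eq_of_mem_norm ((hW α).2 ez), ← i0.mul_cancel_left z, ← conj_conj,
      conj_eq_of_mem_norm ((hW γ).2 eγ)]
    exact sup_le (sup_le u2 u1) ((conj_mono u3 a0).trans (conj_eq_of_mem_norm (n1 ha0)).le))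
  by_contra hc
  obtain ⟨B, hB, k⟩ := h.exists_pt1 hz eβ
  obtain ⟨c, ic, ec⟩ := h.all γ
  have k1 := (h.fx_cent hz).1 (Fx_mono inf_le_right ((h.fx_eq (h.norm_ne_top_of_odd
    (fun e => hc (eq_bot_iff.2 (u1.trans e.le))) (hU ▸ odd_sup o1 (odd_Od _)
      ((l1.trans (Cb_le _)).trans (hW γ).2))) inf_le_left hA (le_inf n1 Az) (hB.mem_Fx (le_inf
        (hB.cw_norm u2 (hU ▸ sup_le (sup_le (Od_le_Cb _) (le_sup_right.trans l2))
          (le_sup_left.trans l2))) k)) nβ).ge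
    ⟨c, cw_norm u3 (hU ▸ sup_le l1 (Od_le_Cb _)) ic ec, ic, ec⟩))
  rw [mul_smul, k1] at eγ
  exact nγ (h.uniq i0 eγ (hA.le ha0))

theorem cw (α : Ω) : (∀ x ∈ Cb (stabilizer G α), Odd (orderOf x) → x ∈ Od (stabilizer G α)) ∨
    Od (stabilizer G α) = ⊥ := by
  refine or_iff_not_imp_right.2 fun hc x hx ho => ?_
  refine le_Od ⟨(Od_normal _).1.trans (Cb_le _), (Cb_normal _).2.trans
    (H2.normalizer_le_normalizer_pPrimeCoreOf 2 _)⟩ (odd_Od _) (mem_Od_of_npc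
      (P21.npc_of_odd fun P hP p2 σ hσ oσ => ?_) hx ho)
  have PH := hP.trans (Cb_le _)
  refine h.amb.ga.odd P p2 σ hσ.2 oσ fun z hz zP => by_contra fun n1 => hc ?_
  have key : ∀ a ∈ P, In a → σ * a * σ⁻¹ = a := fun a ha ia => by
    have := eq_one_of_odd_of_mem p2 (cmr hσ.2 ha)
      (odd_orderOf_of_mem (odd_Od _) (hσ.1.2 a (PH ha) ia))
    rwa [commutatorElement_def, mul_inv_eq_one] at this
  obtain ⟨A, hA, k⟩ := h.exists_pt p2 PH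
  have vP := cjm hσ.2 zP
  have hv := h.amb.ga.conj z hz σ
  have nz : ¬ In z := fun e => n1 (mem_cent1_iff_conj.2 (key z zP e))
  refine h.od_eq_bot hA hz hv (fun e => n1 (mem_cent1_iff_conj.2 e.symm))
    (h.amb.ga.two P p2 z hz _ hv zP vP) nz (fun e => nz (by simpa [mul_assoc] using e.conj' σ))
    (fun e => n1 (mem_of_sq_mem oσ (mem_cent1_iff_conj.2 ?_))) (k z zP hz) (k _ vP hv) (PH zP) (PH vP)
  have k1 := key _ (P.mul_mem zP vP) e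
  rw [← conj_mul, h.amb.ga.two P p2 z hz _ hv zP vP, mul_left_cancel_iff] at k1
  conv_rhs => rw [← k1]
  group

end Pin0

end Cfsg.Agent.P14.C
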