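/-
P21, chapter C: case B.
-/
import Cfsg.Agent.P21.CW
import Cfsg.Agent.P21.C5
import Cfsg.Agent.FT.Final

set_option autoImplicit false
set_option linter.unusedSectionVars false

namespace Cfsg.Agent.P14.C

open Subgroup Cfsg Cfsg.Agent Cfsg.Agent.FT MulAction Cfsg.Agent.P6
open scoped commutatorElement

universe u v

variable {G : Type u} [Group G] [Finite G] [ICl G] {Ω : Type v} [MulAction G Ω] {𝒜 : Set G}

theorem Pt.cb_syl {H A R : Subgroup G} (hA : Pt H A) (hR : R ≤ H) (ho : Odd 𝐨(R)) :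
    IsSyl 2 A ((Od H ⊔ A) ⊔ R) := by
  refine hA.syl.trans Nat.prime_two le_sup_left fun hd => ?_
  rw [relIndex_sup_of_norm (hR.trans hA.norm_sup)] at hd
  exact (Nat.not_even_iff_odd.2 ho) (even_iff_two_dvd.2 (hd.trans (relIndex_dvd_card' _ _)))

namespace Pin0

variable (h : Pin0 𝒜 Ω) {p : ℕ} (hp : p.Prime) (hp2 : p ≠ 2) (hnw : ¬ NW G Ω p)
include h hp hp2 hnw

theorem cb_odd {δ : Ω} {T : Subgroup G} (hT : IsSyl p T (Od (stabilizer G δ))) {A X : Subgroup G}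
    (hA : Pt (stabilizer G δ) A) (hS : IsSyl 2 A X) (hX : X ≤ stabilizer G δ) :
    Odd 𝐨((X ⊓ 𝐂(T) : Subgroup G)) := by
  refine odd_of_no_inv fun a ha hi => ?_
  obtain ⟨g, hg, hle⟩ := hS.exists_le_conj Nat.prime_two hi.isPGroup (zpowers_le.2 ha.1)
  exact h.not_cent_of_syl hp hp2 hnw hT ((hA.conj' (hX hg)).mem a (hle (mem_zpowers a)) hi.ne)
    (hX ha.1) ha.2

theorem cb_mem {δ : Ω} {T : Subgroup G} (hT : IsSyl p T (Od (stabilizer G δ))) {x : G}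
    (hx : x ∈ Cb (stabilizer G δ)) (ho : Odd (orderOf x)) : x ∈ Od (stabilizer G δ) :=
  (h.cw δ).elim (fun k => k x hx ho) fun e =>
    absurd (eq_bot_iff.2 (hT.le.trans e.le)) (h.syl_ne_bot hp hp2 hnw hT)

theorem cb_cent {δ : Ω} {T : Subgroup G} (hT : IsSyl p T (Od (stabilizer G δ))) {x : G}
    (hx : x ∈ stabilizer G δ) (hc : x ∈ 𝐂(T)) (ho : Odd (orderOf x)) :
    x ∈ Od (stabilizer G δ) := by
  obtain ⟨B, hB, hBT⟩ := h.exists_pt_norm hp hT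
  refine h.cb_mem hp hp2 hnw hT (hB.mem_Cb hx fun a ha _ => odd_orderOf_of_mem
    (h.cb_odd hp hp2 hnw hT hB hB.syl (sup_le (Od_normal _).1 hB.le)) ⟨?_, ?_⟩) ho
  · exact comm_le_right_iff.2 hB.norm_sup (commutator_mem_commutator hx (mem_sup_right ha))
  · exact comm_le_left_iff.2 (H1.le_normalizer_centralizer hBT) (commutator_mem_commutator hc ha)

theorem cb_le {δ : Ω} {T : Subgroup G} (hT : IsSyl p T (Od (stabilizer G δ))) {Y : Subgroup G}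
    (hY : 𝐨(Y).Coprime p) (hn : T ≤ 𝐍(Y)) (ho : Odd 𝐨((Y ⊓ 𝐂(T) : Subgroup G))) :
    Y ≤ Od (stabilizer G δ) := by
  have hYH := h.le_stab_of_syl hp hp2 hnw hT hY hn
  obtain ⟨n, hTn⟩ := exists_card_eq_pow hp hT.pgrp
  rw [← H1.commutator_sup_centralizer hn (by rw [hTn]; exact hY.symm.pow_left n)
    (Or.inl (isSolvable_of_isNilpotent (isNilpotent_of_isPGroup hp hT.pgrp)))]
  exact sup_le ((commutator_mono hYH hT.le).trans (comm_le_right_iff.2 (Od_normal _).2))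
    fun x hx => h.cb_cent hp hp2 hnw hT (hYH hx.1) hx.2 (odd_orderOf_of_mem ho hx)

theorem cb_key {δ : Ω} {R : Subgroup G} (hR : IsSyl p R (stabilizer G δ)) :
    ∃ B Y : Subgroup G, Pt (stabilizer G δ) B ∧ B ≤ 𝐍(H2.zl R) ∧ 𝐨(Y).Coprime p ∧ R ≤ 𝐍(Y) ∧
      Y ≤ Od (stabilizer G δ) ∧
      ∀ w ∈ Od (stabilizer G δ), ∃ y ∈ Y, ∃ n ∈ 𝐍(H2.zl R), w = y * n := by
  have := Fact.mk hp
  have := Fact.mk Nat.prime_two
  obtain ⟨A, hA⟩ := h.pt δ
  have hW := Od_normal (stabilizer G δ)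
  have hT := hR.inf_normal hp hW
  have hS := hA.cb_syl hR.le (odd_of_isPGroup hp hp2 hR.pgrp)
  have hs : Group.IsSolvable ((Od (stabilizer G δ) ⊔ A) ⊔ R : Subgroup G) := by
    rw [sup_comm]
    refine H2.isSolvable_sup_of_le_normalizer (hR.le.trans hA.norm_sup)
      (H1.isSolvable_of_isPGroup hR.pgrp) ?_
    rw [sup_comm]
    exact H2.isSolvable_sup_of_le_normalizer (hA.le.trans hW.2)
      (H1.isSolvable_of_isPGroup hA.pgrp) (feit_thompson _ (odd_Od _))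
  have hXH : (Od (stabilizer G δ) ⊔ A) ⊔ R ≤ stabilizer G δ := sup_le (sup_le hW.1 hA.le) hR.le
  have hRX : R ≤ (Od (stabilizer G δ) ⊔ A) ⊔ R := le_sup_right
  have hWX : Od (stabilizer G δ) ≤ (Od (stabilizer G δ) ⊔ A) ⊔ R := le_sup_left.trans le_sup_left
  generalize (Od (stabilizer G δ) ⊔ A) ⊔ R = X at hS hs hXH hRX hWX
  have hO := pPrimeCoreOf_normal p X
  have hc := H2.coprime_card_pPrimeCoreOf p X
  have hOW := h.cb_le hp hp2 hnw hT hc ((inf_le_left.trans hRX).trans hO.2)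
    (odd_of_le (inf_le_inf_right _ hO.1) (h.cb_odd hp hp2 hnw hT hA hS hXH))
  have fac : ∀ x ∈ X, ∃ o ∈ H2.pPrimeCoreOf p X, ∃ n ∈ X ⊓ 𝐍(H2.zl R), x = o * n :=
    fun x hx => H2.exists_mul_normalizer_zl hp2 hs (fun Q hQ h2 => by
      obtain ⟨g, hg, hle⟩ := hS.exists_le_conj Nat.prime_two h2 hQ
      exact isMulComm_iff_le_cent.2 (hle.trans ((hA.conj' (hXH hg)).comm.trans (cent_anti hle))))
      hRX hR.pgrp (hR.of_le hRX hXH).ndvd hx
  have hsup : H2.pPrimeCoreOf p X ⊔ (X ⊓ 𝐍(H2.zl R)) = X :=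
    le_antisymm (sup_le hO.1 inf_le_left) fun x hx => by
      obtain ⟨o, ho, n, hn, rfl⟩ := fac x hx
      exact mul_mem_sup ho hn
  obtain ⟨S, hS'⟩ := exists_isSyl Nat.prime_two (X ⊓ 𝐍(H2.zl R))
  obtain ⟨g, hg, e⟩ := (hS'.trans Nat.prime_two inf_le_left (not_dvd_relIndex_of_sup hO inf_le_left
    hsup (odd_of_le hOW (odd_Od _)))).exists_conj_eq Nat.prime_two hS
  refine ⟨S, _, e ▸ hA.conj' (hXH hg), hS'.le.trans inf_le_right, hc, hRX.trans hO.2, hOW,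
    fun w hw => ?_⟩
  obtain ⟨o, ho, n, hn, e⟩ := fac w (hWX hw)
  exact ⟨o, ho, n, hn.2, e⟩

end Pin0

theorem cb4 : CB4.{u} := by
  intro G _ _ _ 𝒜 Ω _ h hmax p hp hp2 hnw R α β hne hRβ hR
  obtain ⟨u, huN, hu, eu⟩ := h.exists_swap_norm hp hp2 hne
    (hR.of_le (le_inf hR.le hRβ) inf_le_left)
  have hR' : IsSyl p R (stabilizer G β) := by
    have := hR.conj u
    rwa [conj_eq_of_mem_norm huN, ← stabilizer_smul', eu] at this
  have hWu : Od (stabilizer G β) = Od (stabilizer G α) ^ᵍ u := by rw [← Od_stab_smul, eu]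
  have hT := hR.inf_normal hp (Od_normal _)
  have hT' := hR'.inf_normal hp (Od_normal _)
  have hT0 := h.syl_ne_bot hp hp2 hnw hT
  have hR0 : R ≠ ⊥ := fun e => hT0 (by rw [e, bot_inf_eq])
  have hnil := isNilpotent_of_isPGroup hp hR.pgrp
  have hN1 : 𝐍(H2.zl R) ≠ ⊤ := h.norm_ne_top_of_le (H2.zl_ne_bot hR0) ((H2.zl_le R).trans hR.le)
  obtain ⟨B, Y, hB, BN, hY, hRY, hYW, fac⟩ := h.cb_key hp hp2 hnw hR
  obtain ⟨B', -, hB', BN', -⟩ := h.cb_key hp hp2 hnw hR'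
  have hYβ := h.cb_le hp hp2 hnw hT' hY (inf_le_left.trans hRY)
    (odd_of_le (inf_le_left.trans hYW) (odd_Od _))
  have hle : Od (stabilizer G α) ≤ Od (stabilizer G β) := fun w hw => by
    obtain ⟨y, hy, n, hn, rfl⟩ := fac w hw
    have k := (mul_mem_cancel_left (hYW hy)).1 hw
    have ko := odd_orderOf_of_mem (odd_Od _) k
    exact mul_mem (hYβ hy) (h.cb_mem hp hp2 hnw hT'
      (h.cb_of hN1 hB BN hB' BN' hn (Od_le_Cb _ k) ko) ko)
  refine h.norm_ne_top_of_odd (X := Od (stabilizer G α))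
    (fun e => hT0 (by rw [e, inf_bot_eq])) (odd_Od _)
    (hmax α _ u (Od_normal _).2 ?_ (eu ▸ hne.symm))
  rw [← conj_eq_self_iff, ← hWu]
  exact (H1.eq_of_le_of_card_le hle (by rw [hWu, card_conj])).symm

end Cfsg.Agent.P14.C
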