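/-
P21, chapter C, step (D): lines and the count.
-/
import Cfsg.Agent.P21.D0
import Cfsg.Agent.H9.FixCount

set_option autoImplicit false
set_option linter.unusedSectionVars false

namespace Cfsg.Agent.P14.C

open Subgroup Cfsg Cfsg.Agent Cfsg.Agent.FT MulAction
open Cfsg.Agent.P6 (St2 Od Inv)
open scoped commutatorElement

universe u

variable {G : Type u} [Group G] [Finite G] [ICl G] {Ω : Type u} [MulAction G Ω] {𝒜 : Set G}

namespace Md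

variable (h : Md 𝒜 Ω)
include h

theorem A_le_L {N L : Subgroup G} {n e : ℕ} (b : BTd4 Ω N L n e) {γ : Ω} (hN : Ac G γ ≤ N) :
    Ac G γ ≤ L := fun a ha => by
  by_cases a1 : a = 1
  · exact a1 ▸ one_mem L
  · exact b.mem a (hN ha) (h.inn ha a1)

theorem A_le_of {N : Subgroup G} {α ε : Ω} (hN : Ac G α ≤ N) (hε : ε ∈ Fx Ω N) : Ac G ε ≤ N := by
  obtain ⟨g, hg, rfl⟩ := h.se.exists_smul_Fx (h.mem_Fx hN) hε
  rw [h.A_smul]
  exact conj_le_of_mem hN hg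

theorem no_mix {α β : Ω} {N L : Subgroup G} {n : ℕ} (hN : Ac G α ⊔ Ac G β ≤ N)
    (c0 : (Fx Ω (Ac G α ⊔ Ac G β)).ncard = 𝐨(Ac G α) + 1) (b : BTd4 Ω N L n 2) : False := by
  have h4 := h.eight α
  have fa := h.mem_Fx (N := Ac G α ⊔ Ac G β) le_sup_left
  have c1 := b.card
  rw [← h.card_inf b (Fx_mono hN fa), inf_eq_left.2 (le_sup_left.trans hN)] at c1
  obtain ⟨n, hn, cA⟩ := h.card_A α
  have ev : 2 ∣ 𝐨(Ac G α) := cA ▸ dvd_pow_self 2 (by omega)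
  obtain ⟨r, hr, hd⟩ := Nat.exists_prime_and_dvd (n := 𝐨(Ac G α) + 1) (by omega)
  have r2 : r ≠ 2 := by rintro rfl; omega
  have r3 := hr.two_le
  obtain ⟨P, hP⟩ := exists_isSyl hr (Ac G α ⊔ Ac G β)
  have PL : P ≤ L := hP.le.trans (sup_le (h.A_le_L b (le_sup_left.trans hN))
    (h.A_le_L b (le_sup_right.trans hN)))
  have PN : P ≤ N := hP.le.trans hN
  have n1 : ¬ P ≤ stabilizer G α := fun e => hP.ndvd (by
    refine (hd.trans (dvd_of_eq ?_)).trans (relIndex_dvd_of_le_left _ e)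
    rw [← P6.ncard_orbit, ← c0]
    congr 1
    ext γ
    exact ⟨fun hγ => h.se.exists_smul_Fx fa hγ, fun ⟨g, hg, e⟩ => e ▸ smul_mem_Fx' hg fa⟩)
  have m := P6.ncard_modEq_fixed hr hP.pgrp (h.se.finite_Fx N)
    fun x hx _ hs => smul_mem_Fx' (PN hx) hs
  have m2 : 1 < {s ∈ Fx Ω N | ∀ x ∈ P, x • s = s}.ncard := by
    obtain ⟨k, hk⟩ := hd
    have e : 𝐨(Ac G α) ^ 2 + 1 = 2 + r * (k * (𝐨(Ac G α) - 1)) := by
      obtain ⟨j, hj⟩ : ∃ j, 𝐨(Ac G α) = j + 1 := ⟨𝐨(Ac G α) - 1, by omega⟩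
      rw [← mul_assoc, ← hk, hj, Nat.add_sub_cancel]
      ring
    rw [c1, e, Nat.ModEq, Nat.add_mul_mod_self_left, Nat.mod_eq_of_lt (by omega)] at m
    have := Nat.mod_le {s ∈ Fx Ω N | ∀ x ∈ P, x • s = s}.ncard r
    omega
  obtain ⟨ε, ⟨e1, e2⟩, ζ, ⟨z1, z2⟩, ne⟩ :=
    (Set.one_lt_ncard ((h.se.finite_Fx N).subset fun _ hs => hs.1)).1 m2
  have AN : Ac G ε ≤ N := h.A_le_of (le_sup_left.trans hN) e1
  obtain ⟨a, ha, aP⟩ := P6.exists_cent_of_not_dvd hr hP.pgrp (S := Iv G ε)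
    (fun x hx s hs => ⟨hs.1.conj x, P6.conj_fix' hs.2 (e2 x hx)⟩) (by
      rw [← Set.inter_univ (Iv G ε), ← coe_top, h.ncard_Iv, inf_top_eq, h.card_eq ε α]
      intro hd'
      have := Nat.dvd_sub hd hd'
      rw [show 𝐨(Ac G α) + 1 - (𝐨(Ac G α) - 1) = 2 by omega] at this
      exact r2 ((Nat.prime_dvd_prime_iff_eq hr Nat.prime_two).1 this))
  refine n1 fun x hx => b.od_fix h.se (Fx_mono hN fa) (b.fix3 x (PL hx) ε e1 ζ z1 (a • ζ)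
    (smul_mem_Fx' (AN (h.mem ha.1 ha.2)) z1) ne
    (fun e => ne (smul_left_cancel a (ha.2.trans e))) (fun e => ne (h.se.uniq ha.1 ha.2 e.symm))
    (e2 x hx) (z2 x hx) ?_)
  rw [← mul_smul, mem_cent.1 aP x hx, mul_smul, z2 x hx]

theorem bt {α β : Ω} (hne : α ≠ β) {N : Subgroup G} (n1 : N ≠ ⊤) (hN : Ac G α ⊔ Ac G β ≤ N) :
    ∃ L n e, BTd4 Ω N L n e ∧ 𝐨(Ac G α) = 2 ^ n := by
  have fa := h.mem_Fx (le_sup_left.trans hN)
  obtain ⟨L, n, e, b⟩ := h.toPin0.ih N n1 (h.rk2 (le_sup_left.trans hN))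
    ⟨α, fa, β, h.mem_Fx (le_sup_right.trans hN), hne⟩
  exact ⟨L, n, e, b, by rw [← h.card_inf b fa, inf_eq_left.2 (le_sup_left.trans hN)]⟩

theorem line {α β : Ω} (hne : α ≠ β) {N : Subgroup G} (n1 : N ≠ ⊤) (hN : Ac G α ⊔ Ac G β ≤ N) :
    Fx Ω N = Fx Ω (Ac G α ⊔ Ac G β) := by
  obtain ⟨L, n, e, b, c⟩ := h.bt hne n1 hN
  obtain ⟨L', n', e', b', c'⟩ := h.bt hne (fun e => n1 (top_le_iff.1 (e ▸ hN))) le_rfl
  refine (Set.eq_of_subset_of_ncard_le (Fx_mono hN) ?_ (h.se.finite_Fx _)).symm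
  have c0 := b'.card
  rw [← c'] at c0
  rw [b.card, ← c, c0]
  rcases b.ty with ⟨rfl, -⟩ | ⟨rfl, -⟩ <;> rcases b'.ty with ⟨rfl, -⟩ | ⟨rfl, -⟩
  · exact le_rfl
  · exact Nat.succ_le_succ (Nat.pow_le_pow_right Nat.card_pos (by norm_num))
  · exact (h.no_mix hN (by rw [c0, pow_one]) b).elim
  · exact le_rfl

theorem cent1_ne {z : G} (hz : z ≠ 1) : 𝐂[z] ≠ ⊤ := h.amb.sg_Az (S := (exists_isSyl Nat.prime_two
  (⊤ : Subgroup G)).choose) (exists_isSyl Nat.prime_two ⊤).choose_spec |>.cent_ne hz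

end Md

namespace Md1

variable (h : Md1 𝒜 Ω) {α β : Ω} (hne : α ≠ β) {z : G} (hz : Inv z) (hD : z ∈ St2 G α β)
include h hne hz hD

theorem A_le_cent {γ : Ω} (e : z • γ = γ) : Ac G γ ≤ 𝐂[z] := by
  by_cases n1 : γ = α
  · exact mem_cent_iff_cent1.1 (n1 ▸ h.f1 hne hz hD)
  · exact mem_cent_iff_cent1.1 (h.f1 n1 hz ⟨e, hD.1⟩)

theorem fx_eq : Fx Ω 𝐂[z] = {γ | z • γ = γ} := by
  ext γ
  exact ⟨fun ⟨a, ha, ia, e⟩ => h.se.fix_of_commute ia e (mem_cent1.1 ha).symm,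
    fun e => h.mem_Fx (h.A_le_cent hne hz hD e)⟩

theorem sup_le_cent : Ac G α ⊔ Ac G β ≤ 𝐂[z] :=
  sup_le (h.A_le_cent hne hz hD hD.1) (h.A_le_cent hne hz hD hD.2)

theorem bz : ∃ L n e, BTd4 Ω 𝐂[z] L n e ∧ 𝐨(Ac G α) = 2 ^ n :=
  h.toMd.bt hne (h.toMd.cent1_ne hz.ne) (h.sup_le_cent hne hz hD)

theorem fix_eq : {γ | z • γ = γ} = Fx Ω (Ac G α ⊔ Ac G β) := by
  rw [← h.fx_eq hne hz hD, h.toMd.line hne (h.toMd.cent1_ne hz.ne) (h.sup_le_cent hne hz hD)]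

theorem J_cent {v : G} (hv : In v) (ev : v • α = β) : v ∈ 𝐂[z] := by
  obtain ⟨a, ha, a1⟩ := h.exists_A α
  have ia := h.inn ha a1
  have eb : (v * a * v) • β = β := by rw [mul_smul, mul_smul, hv.smul_eq ev, h.fix ha, ev]
  obtain ⟨w, hw, e1, e2, e3⟩ := h.se.exists_swap ia (ia.conj_inv hv) (h.fix ha) eb hne
  rw [← h.se.swap_unique ia (h.fix ha) hne hw e2 hv ev e1]
  exact e3 _ (h.A_le_cent hne hz hD hD.1 ha)
    (h.A_le_cent hne hz hD hD.2 (h.mem (ia.conj_inv hv) eb))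

theorem inv_mul {u : G} (hu : In u) (hc : u ∈ 𝐂[z]) : Inv (u * z) :=
  hu.toInv.mul hz (fun e => h.se.not_mem_St2 hne hu (e ▸ hD)) (mem_cent1.1 hc).symm

theorem ncard_u {δ : Ω} (hδ : z • δ ≠ δ) :
    {u ∈ {u : G | In u ∧ u ∈ 𝐂[z]} | u • δ = z • δ}.ncard = 1 := by
  obtain ⟨n, n1, cA⟩ := h.card_A (z • δ)
  have e1 := h.se.ncard_Jv_eq_Iv hδ.symm (h.mem_Fx (N := ⊤) le_top)
  rw [h.ncard_Iv, inf_top_eq, coe_top, Set.inter_univ, cA] at e1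
  obtain ⟨u, hu, hc⟩ := P6.exists_cent_of_not_dvd Nat.prime_two hz.isPGroup
    (S := Jv G δ (z • δ)) (fun x hx s hs => by
      rcases hz.mem_zpowers_iff.1 hx with rfl | rfl
      · simpa using hs
      · exact ⟨hs.1.conj x, by rw [mul_smul, mul_smul, hz.inv_eq, hs.1.smul_eq hs.2]⟩) (by
    rw [e1]
    have h3 : 2 ∣ 2 ^ n := dvd_pow_self 2 (by omega)
    have h4 : 1 ≤ 2 ^ n := Nat.one_le_two_pow
    omega)
  rw [cent_zpowers] at hc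
  refine Set.ncard_eq_one.2 ⟨u, Set.eq_singleton_iff_unique_mem.2 ⟨⟨⟨hu.1, hc⟩, hu.2⟩, ?_⟩⟩
  rintro v ⟨⟨hv, cv⟩, ev⟩
  have w1 : u * z ∈ St2 G δ (z • δ) := P6.mem_St2.2 ⟨by rw [mul_smul, hu.1.smul_eq hu.2], by
    rw [mul_smul, hz.smul_smul, hu.2]⟩
  have c1 := mem_cent1.1 (h.J_cent hδ.symm (h.inv_mul hne hz hD hu.1 hc) w1 hv ev)
  have c2 : u * v = v * u := by
    rw [mul_assoc, mem_cent1.1 cv, ← mul_assoc, ← mul_assoc] at c1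
    exact mul_right_cancel c1
  by_contra n2
  exact h.se.not_mem_St2 hδ.symm (hu.1.mul hv (Ne.symm n2) c2) (P6.mem_St2.2
    ⟨by rw [mul_smul, ev, hu.1.smul_eq hu.2], by rw [mul_smul, hv.smul_eq ev, hu.2]⟩)

theorem ncard_d {u : G} (hu : In u) (hc : u ∈ 𝐂[z]) :
    {δ ∈ {δ : Ω | z • δ ≠ δ} | u • δ = z • δ}.ncard = {γ : Ω | (u * z) • γ = γ}.ncard - 1 := by
  have := h.finite
  obtain ⟨γ, eγ⟩ := h.ex hu
  have zγ : z • γ = γ := h.se.fix_of_commute hu eγ (mem_cent1.1 hc).symm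
  have f1 : (u * z) • γ = γ := by rw [mul_smul, zγ, eγ]
  rw [← Set.ncard_sdiff_singleton_add_one (show γ ∈ {γ : Ω | (u * z) • γ = γ} from f1),
    Nat.add_sub_cancel]
  congr 1
  ext η
  refine ⟨fun hη => ⟨show _ = _ by rw [mul_smul, hu.smul_eq hη.2], fun e => hη.1 (e ▸ zγ)⟩,
    fun hη => ?_⟩
  have e3 : u • z • η = η := by rw [← mul_smul]; exact hη.1
  exact ⟨fun e => hη.2 (h.uniq hu (by rwa [e] at e3) eγ), hu.smul_eq e3⟩

theorem ncard_conj {u v : G} (hu : In u) (hc : u ∈ 𝐂[z]) (hv : In v) (cv : v ∈ 𝐂[z]) :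
    {γ : Ω | (v * z) • γ = γ}.ncard = {γ : Ω | (u * z) • γ = γ}.ncard := by
  obtain ⟨g, hg, rfl⟩ := h.se.exists_conj ⟨α, h.mem_Fx (h.A_le_cent hne hz hD hD.1), β,
    h.mem_Fx (h.A_le_cent hne hz hD hD.2), hne⟩ hv hu cv hc
  have e : g * v * g⁻¹ * z = g * (v * z) * g⁻¹ := by
    rw [mul_assoc (g * v), ← mem_cent1.1 (inv_mem hg)]; group
  rw [e, ← Set.ncard_image_of_injective _ (MulAction.injective g)]
  congr 1
  ext γ
  refine ⟨?_, fun hγ => ⟨g⁻¹ • γ, ?_, smul_inv_smul g γ⟩⟩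
  · rintro ⟨δ, hδ, rfl⟩
    exact P6.conj_fix hδ
  · have : (g * (v * z) * g⁻¹) • γ = γ := hγ
    rw [mul_smul, mul_smul, ← eq_inv_smul_iff] at this
    exact this

theorem count {u : G} (hu : In u) (hc : u ∈ 𝐂[z]) : Nat.card Ω = {γ : Ω | z • γ = γ}.ncard *
    (1 + (𝐨(Ac G α) - 1) * ({γ : Ω | (u * z) • γ = γ}.ncard - 1)) := by
  have := h.finite
  have e1 := ncard_mul_eq (Set.toFinite {δ : Ω | z • δ ≠ δ})
    (Set.toFinite {u : G | In u ∧ u ∈ 𝐂[z]}) (fun δ u => u • δ = z • δ)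
    (fun δ hδ => h.ncard_u hne hz hD hδ) fun v hv =>
      (h.ncard_d hne hz hD hv.1 hv.2).trans (congrArg (· - 1) (h.ncard_conj hne hz hD hu hc hv.1 hv.2))
  have e2 := ncard_mul_eq (Set.toFinite {u : G | In u ∧ u ∈ 𝐂[z]})
    (Set.toFinite {δ : Ω | z • δ = δ}) (fun u δ => u • δ = δ) (m := 1) (n := 𝐨(Ac G α) - 1)
    (fun u hu => by
      obtain ⟨γ, eγ⟩ := h.ex hu.1
      exact Set.ncard_eq_one.2 ⟨γ, Set.eq_singleton_iff_unique_mem.2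
        ⟨⟨h.se.fix_of_commute hu.1 eγ (mem_cent1.1 hu.2).symm, eγ⟩,
          fun δ hδ => h.uniq hu.1 hδ.2 eγ⟩⟩)
    fun δ hδ => by
      rw [h.card_eq α δ, ← inf_eq_left.2 (h.A_le_cent hne hz hD hδ), ← h.ncard_Iv]
      congr 1
      ext u
      exact ⟨fun hu => ⟨⟨hu.1.1, hu.2⟩, hu.1.2⟩, fun hu => ⟨⟨hu.1.1, hu.2⟩, hu.1.2⟩⟩
  have e3 := Set.ncard_add_ncard_compl {δ : Ω | z • δ = δ}
  rw [mul_one] at e1 e2
  rw [e2] at e1
  change _ + {δ : Ω | z • δ ≠ δ}.ncard = _ at e3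
  rw [← e3, e1]
  ring

theorem ncard_fix : ∃ x, 𝐨(Ac G α) ≤ x ∧ {γ : Ω | z • γ = γ}.ncard = x + 1 := by
  obtain ⟨L, n, e, b, c⟩ := h.bz hne hz hD
  refine ⟨_, ?_, h.fx_eq hne hz hD ▸ b.card⟩
  rw [c]
  exact Nat.le_self_pow (by have := b.ty; omega) _

theorem cnt {x : ℕ} (hx : {γ : Ω | z • γ = γ}.ncard = x + 1) :
    Nat.card Ω = (x + 1) * (1 + (𝐨(Ac G α) - 1) * x) := by
  have := h.finite
  obtain ⟨a, ha, a1⟩ := h.exists_A α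
  have ia := h.inn ha a1
  have ca := h.A_le_cent hne hz hD hD.1 ha
  have e1 := h.count hne hz hD ia ca
  have fa : (a * z) • α = α := by rw [mul_smul, hD.1, h.fix ha]
  obtain ⟨δ, hδ, n1⟩ : ∃ δ ∈ {γ : Ω | (a * z) • γ = γ}, δ ≠ α := by
    refine Set.exists_ne_of_one_lt_ncard (by_contra fun hl => ?_) α
    rw [show {γ : Ω | (a * z) • γ = γ}.ncard - 1 = 0 by omega, mul_zero, add_zero, mul_one] at e1
    exact hz.ne (h.toPin0.eq_one_of_fix fun γ =>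
      ((Set.eq_univ_iff_ncard _).2 e1.symm).ge (Set.mem_univ γ))
  have iz := h.inv_mul hne hz hD ia ca
  obtain ⟨y, -, hy⟩ := h.ncard_fix n1.symm iz ⟨fa, hδ⟩
  have e2 := h.count n1.symm iz ⟨fa, hδ⟩ ia (mem_cent1.2 (by
    rw [mul_assoc, mem_cent1.1 ca]))
  rw [ia.mul_cancel_left, hx, hy] at e2
  rw [hx, hy] at e1
  simp only [Nat.add_sub_cancel] at e1 e2
  obtain ⟨c, hc⟩ : ∃ c, 𝐨(Ac G α) - 1 = c + 2 := ⟨𝐨(Ac G α) - 3, by have := h.eight α; omega⟩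
  rw [hc] at e1 e2 ⊢
  have : (c + 1) * x = (c + 1) * y := by nlinarith
  rw [e1, Nat.eq_of_mul_eq_mul_left c.succ_pos this]

/-- The translates of `z` do not cover the points. -/
theorem not_cover (cov : ∀ γ, γ ≠ α → ∃ a ∈ Ac G α, (z * a) • γ = γ) : False := by
  have := h.finite
  obtain ⟨x, x1, hx⟩ := h.ncard_fix hne hz hD
  have e1 := h.cnt hne hz hD hx
  have e2 : ∀ a : Ac G α, ({γ | (z * a) • γ = γ} \ {α}).ncard ≤ x := fun a => by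
    rcases ({γ | (z * a) • γ = γ} \ {α}).eq_empty_or_nonempty with e | ⟨δ, hδ, n1⟩
    · simp [e]
    have fa : (z * a) • α = α := by rw [mul_smul, h.fix a.2, hD.1]
    have iz : Inv (z * a) := by
      by_cases a1 : (a : G) = 1
      · rwa [a1, mul_one]
      · have ca := h.A_le_cent hne hz hD hD.1 a.2
        exact mem_cent1.1 ca ▸ h.inv_mul hne hz hD (h.inn a.2 a1) ca
    obtain ⟨y, -, hy⟩ := h.ncard_fix (Ne.symm n1) iz ⟨fa, hδ⟩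
    have e3 := h.cnt (Ne.symm n1) iz ⟨fa, hδ⟩ hy
    rw [← Set.ncard_sdiff_singleton_add_one (show α ∈ {γ : Ω | (z * a) • γ = γ} from fa),
      Nat.add_right_cancel_iff] at hy
    rw [hy]
    by_contra hl
    have := Nat.mul_lt_mul_of_lt_of_le (Nat.succ_lt_succ (not_le.1 hl)) (Nat.add_le_add_left
      (Nat.mul_le_mul_left (𝐨(Ac G α) - 1) (not_le.1 hl).le) 1) (by omega)
    simp only [Nat.succ_eq_add_one] at this
    omega
  have e3 : ({α}ᶜ : Set Ω).ncard ≤ 𝐨(Ac G α) * x := by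
    have := Fintype.ofFinite (Ac G α)
    refine (Set.ncard_le_ncard (t := ⋃ a : Ac G α, ({γ | (z * a) • γ = γ} \ {α})) fun γ hγ => ?_).trans
      ((Set.ncard_iUnion_le_of_fintype _).trans ?_)
    · obtain ⟨a, ha, e⟩ := cov γ hγ
      exact Set.mem_iUnion.2 ⟨⟨a, ha⟩, e, hγ⟩
    · refine (Finset.sum_le_card_nsmul _ _ x fun a _ => e2 a).trans ?_
      simp
  have e4 := Set.ncard_add_ncard_compl ({α} : Set Ω)
  obtain ⟨c, hc⟩ : ∃ c, 𝐨(Ac G α) = c + 2 := ⟨𝐨(Ac G α) - 2, by have := h.eight α; omega⟩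
  rw [Set.ncard_singleton, e1, hc, show c + 2 - 1 = c + 1 from rfl] at e4
  rw [hc] at e3 x1
  have : 0 < (c + 1) * x * x := Nat.mul_pos (Nat.mul_pos c.succ_pos (by omega)) (by omega)
  nlinarith

end Md1

end Cfsg.Agent.P14.C
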