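/-
P21, chapter C, step (D): the involutions of a point stabilizer centralize `A`.
-/
import Cfsg.Agent.P21.D0
import Cfsg.Agent.P6.GL1

set_option autoImplicit false
set_option linter.unusedSectionVars false

namespace Cfsg.Agent.P21

open Subgroup Cfsg Cfsg.Agent Cfsg.Agent.FT
open scoped commutatorElement

universe u

variable {G : Type u} [Group G] [Finite G]

/-- The property (SQ) for conjugate involutions. -/
theorem CI.sq {𝒜 : Set G} (h : CI G 𝒜) {P : Subgroup G} (hP : IsPGroup 2 P) {z g : G}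
    (zz : z * z = 1) (hz : z ∈ P) (hg : g * z * g⁻¹ ∈ P) :
    z⁻¹ * (g * z * g⁻¹) = 1 ∨ z⁻¹ * (g * z * g⁻¹) ∈ 𝒜 := by
  obtain ⟨H, _, _, f, hf, hc, hp, hI, h⟩ := h
  obtain ⟨x, rfl⟩ := hf z
  obtain ⟨s, rfl⟩ := hf g
  have h1 := mem_center_iff.1 (hc (show x * x ∈ f.ker by rw [MonoidHom.mem_ker, map_mul, zz])) s
  have h2 := hI.sq (hP.comap_of_ker_isPGroup f hp) (x := x) (y := s * x * s⁻¹) hz
    (by simpa using hg) (by rw [conj_mul, h1, mul_inv_cancel_right])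
  exact or_iff_not_imp_left.2 fun e => (h _).2 ⟨e, _, h2, by simp⟩

/-- An isolated involution of the derived group of a linear group in characteristic two that
contains a transitive subgroup of odd order is trivial. -/
theorem iso_eq_one {M : Type*} [CommGroup M] [Finite M] [Nontrivial M] {φ : G →* MulAut M}
    (sq : ∀ v : M, v ^ 2 = 1) (inj : Function.Injective φ) {E : Subgroup G} (ho : Odd 𝐨(E))
    (tr : ∀ v w : M, v ≠ 1 → w ≠ 1 → ∃ e ∈ E, φ e v = w) {t : G} (tt : t * t = 1)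
    (der : t ∈ ⁅(⊤ : Subgroup G), (⊤ : Subgroup G)⁆)
    (iso : ∀ g : G, Odd (orderOf (t * (g * t * g⁻¹)))) : t = 1 := by
  by_contra t1
  have zs := P1.zstar_odd (orderOf_eq_prime ((pow_two t).trans tt) t1) iso
  have oY : Odd 𝐨(pPrimeCore 2 G) := Nat.coprime_two_right.1 (L.coprime_card_pPrimeCore 2)
  have nY : ⊤ ≤ 𝐍(pPrimeCore 2 G) := normal_iff_top_le.1 inferInstance
  generalize pPrimeCore 2 G = Y at zs oY nY
  have nF : ⊤ ≤ 𝐍(fittingOf Y) := nY.trans (H2.normalizer_le_normalizer_fittingOf Y)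
  have mt : P6.MT (φ.comp (E ⊔ Y).subtype) :=
    ⟨sq, inj.comp (subtype_injective _),
      (ho.mul oY).of_dvd_nat (H1.card_sup_dvd (le_top.trans nY)), ‹_›,
      fun v w hv hw => (tr v w hv hw).elim fun e he => ⟨⟨e, mem_sup_left he.1⟩, he.2⟩⟩
  have fl : fittingOf Y ≤ E ⊔ Y := (H2.fittingOf_le Y).trans le_sup_right
  have cy : IsCyclic (fittingOf Y) := by
    have := mt.isCyclic_fitting
    have := H2.isNilpotent_fittingOf Y
    have h1 : (fittingOf Y).subgroupOf (E ⊔ Y) ≤ fittingOf ⊤ := le_fittingOf ⟨le_top,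
      normal_iff_top_le.1 (H1.normal_subgroupOf_of_le (le_top.trans nF))⟩
      (Group.nilpotent_of_mulEquiv (subgroupOfEquivOfLe fl).symm)
    have := Subgroup.isCyclic_of_le h1
    exact isCyclic_of_surjective _ (subgroupOfEquivOfLe fl).surjective
  have tc : t ∈ 𝐂(fittingOf Y) := H6.commutator_le_centralizer_of_isCyclic nF nF der
  have ti := P5.inv_eq_of_sq tt
  have cen : ∀ g, t * g = g * t := fun g => by
    have h1 : ⁅t, g⁆ ∈ fittingOf Y := cent_fittingOf_le (feit_thompson Y oY) ⟨zs g, by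
      rw [commutatorElement_def, mul_assoc, mul_assoc, ← mul_assoc g]
      exact mul_mem tc (P14.cjm ((nF.trans P14.norm_cent) (mem_top g)) (inv_mem tc))⟩
    have h2 : ⁅t, g⁆ * ⁅t, g⁆ = 1 := by
      have h3 : ⁅t, g⁆ * t = t * ⁅t, g⁆ := tc _ h1
      calc _ = ⁅t, g⁆ * t * (g * t⁻¹ * g⁻¹) := by rw [commutatorElement_def]; group
        _ = t * t * g * (t * t)⁻¹ * g⁻¹ := by rw [h3, commutatorElement_def]; group
        _ = 1 := by rw [tt]; group
    rw [← commutatorElement_eq_one_iff_mul_comm]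
    by_contra e
    exact P6.Inv.not_mem_of_odd ⟨e, h2⟩ oY (zs g)
  obtain ⟨v, v1, hv⟩ : ∃ v : M, v ≠ 1 ∧ φ t v = v := by
    obtain ⟨v, v1⟩ := exists_ne (1 : M)
    by_cases e : v * φ t v = 1
    · exact ⟨v, v1, mul_left_cancel (e.trans ((sq v).symm.trans (pow_two v)))⟩
    · exact ⟨_, e, by rw [map_mul, ← MulAut.mul_apply, ← map_mul, tt, map_one, mul_comm]; rfl⟩
  refine t1 (inj (MulEquiv.ext fun w => ?_))
  rw [map_one]
  by_cases w1 : w = 1
  · rw [w1, map_one, map_one]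
  · obtain ⟨e, -, rfl⟩ := tr v w v1 w1
    rw [← MulAut.mul_apply, ← map_mul, cen, map_mul, MulAut.mul_apply, hv]; rfl

end Cfsg.Agent.P21

namespace Cfsg.Agent.P14.C

open Subgroup Cfsg Cfsg.Agent Cfsg.Agent.FT MulAction
open Cfsg.Agent.P6 (St2 Od Inv)
open scoped commutatorElement IsMulCommutative

universe u

variable {G : Type u} [Group G] [Finite G] [ICl G] {Ω : Type u} [MulAction G Ω]

namespace Md

variable {𝒜 : Set G} (h : Md 𝒜 Ω)
include h

/-- The members of `𝒜` that fix `α` centralize `A`. -/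
theorem cent_of_cl {α : Ω} {y : G} (hy : y ∈ 𝒜) (e : y ∈ stabilizer G α) : y ∈ 𝐂(Ac G α) := by
  obtain ⟨S, hS, k⟩ := exists_isSyl_ge Nat.prime_two (h.ga.inv y hy).isPGroup (zpowers_le.2 e)
  refine mem_cent.2 fun a ha => ?_
  by_cases a1 : a = 1
  · rw [a1, one_mul, mul_one]
  · exact h.ga.two S hS.pgrp a (h.sub a (h.inn ha a1)) y hy (h.A_le_syl hS ha) (k (mem_zpowers y))

theorem A_le_Az {α : Ω} {S : Subgroup G} (hS : IsSyl 2 S (stabilizer G α)) :
    Ac G α ≤ P21.Az 𝒜 S := fun a ha => by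
  by_cases a1 : a = 1
  · rw [a1]; exact one_mem _
  · exact P21.mem_Az (h.sub a (h.inn ha a1)) (h.A_le_syl hS ha)

theorem norm_Az_le {α : Ω} {S : Subgroup G} (hS : IsSyl 2 S (stabilizer G α)) :
    𝐍(P21.Az 𝒜 S) ≤ stabilizer G α := fun g hg => by
  obtain ⟨a, ha, a1⟩ := h.exists_A α
  exact h.se.smul_eq_of_conj (h.inn ha a1) (h.fix ha)
    (hS.le (P21.Az_le 𝒜 S (cjm hg (h.A_le_Az hS ha))))

theorem syl_le_der {α : Ω} {S : Subgroup G} (hS : IsSyl 2 S (stabilizer G α)) :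
    S ≤ ⁅stabilizer G α, stabilizer G α⁆ :=
  (h.amb.sg_Az (h.syl_top hS)).le_der.trans (commutator_mono (h.norm_Az_le hS) (h.norm_Az_le hS))

theorem odd_pow_cent {α : Ω} {z g : G} (zz : z * z = 1) (hz : z ∈ stabilizer G α)
    (hg : g ∈ stabilizer G α) : ∃ m, Odd m ∧ (z * (g * z * g⁻¹)) ^ m ∈ 𝐂(Ac G α) := by
  obtain ⟨w, hw⟩ : ∃ w, w = z * (g * z * g⁻¹) := ⟨_, rfl⟩
  obtain ⟨k, m, hm, e⟩ := Nat.exists_eq_two_pow_mul_odd (orderOf_pos w).ne'
  have wH : w ∈ stabilizer G α := hw ▸ mul_mem hz (mul_mem (mul_mem hg hz) (inv_mem hg))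
  have zi := P5.inv_eq_of_sq zz
  have h0 : z * w * z⁻¹ = w⁻¹ := by
    rw [hw, ← mul_assoc z z, zz, one_mul, mul_inv_rev, mul_inv_rev, mul_inv_rev, inv_inv, zi,
      mul_assoc g z]
  refine ⟨m, hm, hw ▸ ?_⟩
  obtain ⟨j, rfl⟩ := hm
  have h1 : (w ^ j)⁻¹ * g * z * ((w ^ j)⁻¹ * g)⁻¹ = z * w ^ (2 * j + 1) := by
    have h2 : g * z * g⁻¹ = z * w := by rw [hw, ← mul_assoc z z, zz, one_mul]
    calc _ = (w ^ j)⁻¹ * (g * z * g⁻¹) * w ^ j := by group
      _ = (z * w * z⁻¹) ^ j * (z * w) * w ^ j := by rw [h2, h0, inv_pow]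
      _ = _ := by rw [conj_pow]; group
  have h3 := L.isPGroup_two_closure_of_involutions (t := z * w ^ (2 * j + 1)) zz (by
    rw [← h1, conj_mul, zz, mul_one, mul_inv_cancel]) (k := k) (by
    rw [← mul_assoc, zz, one_mul, ← pow_mul, mul_comm, ← e, pow_orderOf_eq_one])
  have h4 := h.ci.sq h3 zz (g := (w ^ j)⁻¹ * g) (subset_closure (by simp))
    (h1 ▸ subset_closure (by simp))
  rw [h1, inv_mul_cancel_left] at h4
  exact h4.elim (fun e => e ▸ one_mem _) fun e => h.cent_of_cl e (pow_mem wH _)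

/-- Every involution of a point stabilizer centralizes `A`. -/
theorem inv_cent {α : Ω} {z : G} (zz : z * z = 1) (hz : z ∈ stabilizer G α) : z ∈ 𝐂(Ac G α) := by
  have := (h.elem α).1
  have := (nontrivial_iff_ne_bot (Ac G α)).2 fun e => by
    obtain ⟨a, ha, a1⟩ := h.exists_A α
    exact a1 (mem_bot.1 (e ▸ ha))
  have := h.two
  obtain ⟨β, hβ⟩ := exists_ne α
  obtain ⟨ψ, hψ⟩ : ∃ ψ, ψ = (H1.conjAut (h.norm_A α)).rangeRestrict := ⟨_, rfl⟩
  have hs : Function.Surjective ψ := hψ ▸ MonoidHom.rangeRestrict_surjective _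
  have hker : ∀ d : stabilizer G α, ψ d = 1 ↔ (d : G) ∈ 𝐂(Ac G α) := fun d => by
    rw [← H1.mem_ker_conjAut (h.norm_A α), hψ, MonoidHom.mem_ker, Subtype.ext_iff]; rfl
  have hE : Od (St2 G α β) ≤ stabilizer G α := (P7.Od_le _).trans inf_le_left
  refine (hker ⟨z, hz⟩).1 (P21.iso_eq_one (H1.pow_eq_one_of_isElementaryAbelian (h.elem α))
    (subtype_injective _) (E := ((Od (St2 G α β)).subgroupOf _).map ψ)
    ((P6.odd_Od (St2 G α β)).of_dvd_nat ((card_map_dvd _ _).trans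
      (Nat.card_congr (subgroupOfEquivOfLe hE).toEquiv).dvd)) (fun v w hv hw => ?_)
    (by rw [← map_mul, ← map_one ψ]; exact congrArg ψ (Subtype.ext zz)) ?_ fun g => ?_)
  · obtain ⟨d, hd, e⟩ := h.toPin0.exists_conj_Od (h.inn v.2 fun e => hv (Subtype.ext e))
      (h.inn w.2 fun e => hw (Subtype.ext e)) (h.fix v.2) (h.fix w.2) hβ.symm
    exact ⟨_, ⟨⟨d, hE hd⟩, hd, rfl⟩, Subtype.ext (by rw [hψ]; exact e)⟩
  · obtain ⟨S, hS, k⟩ := exists_isSyl_ge Nat.prime_two (P21.Two.of_sq zz).zp (zpowers_le.2 hz)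
    have h1 := h.syl_le_der hS (k (mem_zpowers z))
    rw [← range_subtype (stabilizer G α), MonoidHom.range_eq_map, ← map_commutator] at h1
    obtain ⟨y, hy, e⟩ := h1
    rw [← map_top_of_surjective ψ hs, ← map_commutator]
    exact ⟨y, hy, congrArg ψ (Subtype.ext e)⟩
  · obtain ⟨g, rfl⟩ := hs g
    obtain ⟨m, hm, e⟩ := h.odd_pow_cent zz hz g.2
    refine hm.of_dvd_nat (orderOf_dvd_of_pow_eq_one ?_)
    rw [← map_inv, ← map_mul, ← map_mul, ← map_mul, ← map_pow, hker]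
    exact e

theorem md1 : Md1 𝒜 Ω := ⟨h, fun _ _ iz hz => h.inv_cent iz.sq hz.1⟩

end Md

end Cfsg.Agent.P14.C
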