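/-
P21, chapter C, step (D): orbits of `L ⊓ D`, the element `k`, lines.
-/
import Cfsg.Agent.P21.D1
import Cfsg.Agent.P21.DF1
import Cfsg.Agent.P21.CW

set_option autoImplicit false
set_option linter.unusedSectionVars false

namespace Cfsg.Agent.P14.C

open Subgroup Cfsg Cfsg.Agent Cfsg.Agent.FT MulAction
open Cfsg.Agent.P6 (St2 Od Inv)
open scoped commutatorElement

universe u

variable {G : Type u} [Group G] [Finite G] [ICl G] {Ω : Type u} [MulAction G Ω] {𝒜 : Set G}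

namespace Md

variable (h : Md 𝒜 Ω)
include h

theorem ptA (α : Ω) : Pt (stabilizer G α) (Ac G α) := by
  obtain ⟨A, hA⟩ := h.pt α
  have e : A = Ac G α := le_antisymm (fun a ha => h.mem_Ac.2 (or_iff_not_imp_left.2 fun a1 =>
    ⟨hA.mem a ha a1, hA.le ha⟩)) fun a ha => by
      by_cases a1 : a = 1
      · exact a1 ▸ one_mem A
      refine hA.max a (h.inn ha a1) (mem_cent.2 fun b hb => ?_)
      by_cases b1 : b = 1
      · rw [b1, one_mul, mul_one]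
      · exact h.comm b a α (hA.mem b hb b1) (h.inn ha a1) (hA.le hb) (h.fix ha)
  exact e ▸ hA

theorem dl {α δ : Ω} {S : Subgroup G} (pS : IsPGroup 2 S) (hS : S ≤ stabilizer G α) {s y : G}
    (hs : s ∈ 𝒜) (sS : s ∈ S) (e : s • δ = δ) (hy : y ∈ 𝒜) (yS : y ∈ S) :
    ∃ a ∈ Ac G α, (y * a) • δ = δ := by
  by_cases iy : In y
  · exact ⟨y, h.mem iy (hS yS), by rw [iy.sq, one_smul]⟩
  obtain ⟨a, ha, ea⟩ := h.toPin0.exists_compl (h.ptA α) hs hy iy (h.ga.two S pS y hy s hs yS sS)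
    (mem_cent_iff_cent1.1 (h.cent_of_cl hs (hS sS))) (hS sS) (hS yS) e
  exact ⟨a, ha, by rw [← mem_cent.1 (h.cent_of_cl hy (hS yS)) a ha]; exact ea⟩

theorem od_cent {N L : Subgroup G} {n e : ℕ} (b : BTd4 Ω N L n e) {x a : G} (hx : x ∈ Od N)
    (ha : In a) (aN : a ∈ N) : x ∈ 𝐂[a] := by
  obtain ⟨ε, eε⟩ := h.ex ha
  have h1 : x * a * x⁻¹ * a⁻¹ ∈ Ac G ε := mul_mem ((mem_normalizer_iff.1 (h.norm_A ε
    (b.od_fix h.se ⟨a, aN, ha, eε⟩ hx)) a).1 (h.mem ha eε)) (inv_mem (h.mem ha eε))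
  have h2 : x * (a * x⁻¹ * a⁻¹) ∈ Od N :=
    mul_mem hx ((mem_normalizer_iff.1 ((P6.Od_normal N).2 aN) _).1 (inv_mem hx))
  rw [← mul_assoc, ← mul_assoc] at h2
  have := P7.eq_one_of_two_odd (h.pg ε) (P6.odd_Od N) h1 h2
  rw [mul_inv_eq_one, mul_inv_eq_iff_eq_mul] at this
  exact mem_cent1.2 this.symm

theorem syl_trans {α β : Ω} (hne : α ≠ β) {S : Subgroup G} (hS : IsSyl 2 S (stabilizer G α))
    {k : ℕ} (hk : Nat.card Ω = 2 ^ k + 1) {γ : Ω} (hγ : γ ≠ α) : ∃ s ∈ S, s • β = γ := by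
  have := h.finite
  have e1 := h.relIndex_stab hne
  rw [hk, Nat.add_right_cancel_iff] at e1
  have d : 2 ^ k ∣ (stabilizer G β).relIndex S := by
    refine ((Nat.prime_two.coprime_iff_not_dvd.2 hS.ndvd).pow_left k).dvd_of_dvd_mul_right ?_
    rw [← inf_relIndex_right, relIndex_mul_relIndex _ _ _ inf_le_right hS.le, ← e1]
    exact relIndex_dvd_of_le_left _ (le_inf (inf_le_right.trans hS.le) inf_le_left)
  have e2 := Set.ncard_add_ncard_compl ({α} : Set Ω)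
  rw [Set.ncard_singleton, hk] at e2
  refine (Set.eq_of_subset_of_ncard_le (s := {c | ∃ y ∈ S, y • β = c}) (t := {α}ᶜ) ?_ ?_).ge hγ
  · rintro _ ⟨y, hy, rfl⟩ e
    exact hne (smul_left_cancel y ((hS.le hy).trans e.symm))
  · rw [P6.ncard_orbit]
    have := Nat.le_of_dvd (H2.relIndex_pos _ _) d
    omega

end Md

namespace Md1

variable (h : Md1 𝒜 Ω) {α β : Ω} (hne : α ≠ β) {z : G} (hz : Inv z) (hD : z ∈ St2 G α β)
include h hne hz hD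

theorem orb {L : Subgroup G} {n e : ℕ} (b : BTd4 Ω 𝐂[z] L n e) {γ : Ω} (h1 : γ ≠ α) (h2 : γ ≠ β) :
    ∃ v, In v ∧ v ∈ 𝐂[z] ∧ (v • α = α ∨ v • β = β) ∧
      ∀ x ∈ L ⊓ St2 G α β, x • γ = γ → x ∈ 𝐂[v] := by
  obtain ⟨a, ha, a1⟩ := h.exists_A α
  have ia := h.inn ha a1
  have ca := h.A_le_cent hne hz hD hD.1 ha
  have f : ∀ {ε : Ω}, z • ε = ε → ε ∈ Fx Ω 𝐂[z] := fun e => (h.fx_eq hne hz hD).ge e
  have key : ∀ ε : Ω, z • ε = ε → ε ≠ α → ε ≠ β → ∀ x ∈ L ⊓ St2 G α β, x • ε = ε → x ∈ 𝐂[a] :=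
    fun ε e n1 n2 x hx ex => h.toMd.od_cent b (b.fix3 x hx.1 α (f hD.1) β (f hD.2) ε (f e) hne
      n1.symm n2.symm hx.2.1 hx.2.2 ex) ia ca
  by_cases e : z • γ = γ
  · exact ⟨a, ia, ca, Or.inl (h.fix ha), key γ e h1 h2⟩
  obtain ⟨v, ev⟩ := Set.ncard_eq_one.1 (h.ncard_u hne hz hD e)
  obtain ⟨⟨hv, cv⟩, e1⟩ := ev.ge (Set.mem_singleton v)
  have k2 : ∀ x ∈ L ⊓ St2 G α β, x • γ = γ → x ∈ 𝐂[v] := fun x hx ex => by
    have xz := b.normal.1 hx.1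
    refine mem_cent1_iff_conj.2 (ev.le ⟨⟨hv.conj x, mul_mem (mul_mem xz cv) (inv_mem xz)⟩, ?_⟩)
    nth_rewrite 1 [← ex]
    rw [P6.conj_smul_smul, e1, ← mul_smul, ← mem_cent1.1 xz, mul_smul, ex]
  obtain ⟨ε, eε⟩ := h.ex hv
  by_cases n1 : v • α = α ∨ v • β = β
  · exact ⟨v, hv, cv, n1, k2⟩
  · rw [not_or] at n1
    exact ⟨a, ia, ca, Or.inl (h.fix ha), fun x hx ex => key ε
      (h.se.fix_of_commute hv eε (mem_cent1.1 cv).symm) (fun e => n1.1 (e ▸ eε))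
      (fun e => n1.2 (e ▸ eε)) x hx (h.se.cent1_le hv eε (k2 x hx ex))⟩

theorem dvd_orb {L : Subgroup G} {n e : ℕ} (b : BTd4 Ω 𝐂[z] L n e) {γ : Ω} (h1 : γ ≠ α)
    (h2 : γ ≠ β) : 𝐨(Ac G α) - 1 ∣ (stabilizer G γ).relIndex (L ⊓ St2 G α β) := by
  obtain ⟨v, hv, cv, e, k⟩ := h.orb hne hz hD b h1 h2
  have la := h.toMd.A_le_L b (h.A_le_cent hne hz hD hD.1)
  have lb := h.toMd.A_le_L b (h.A_le_cent hne hz hD hD.2)
  have e1 : 𝐨(Ac G α) - 1 = 𝐂[v].relIndex (L ⊓ St2 G α β) := by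
    rcases e with e | e
    · rw [← h.se.ncard_Iv hv e hne (b.mem v cv hv) (h.mem_Fx lb), h.ncard_Iv, inf_eq_left.2 la]
    · rw [P6.St2_comm, ← h.se.ncard_Iv hv e hne.symm (b.mem v cv hv) (h.mem_Fx la), h.ncard_Iv,
        inf_eq_left.2 lb, h.card_eq]
  rw [e1, ← inf_relIndex_right (stabilizer G γ)]
  exact relIndex_dvd_of_le_left _ fun x hx => k x hx.2 hx.1

theorem exists_k : ∃ k : G, Odd (orderOf k) ∧ k ∈ St2 G α β ∧ (∀ γ, k • γ = γ → γ = α ∨ γ = β) ∧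
    (∀ t ∈ St2 G α β, t * t = 1 → k ∈ 𝐂[t]) ∧ ∀ a ∈ Ac G α, k ∈ 𝐂[a] → a = 1 := by
  obtain ⟨u, hu, eu⟩ := h.toPin0.exists_J hne
  obtain ⟨a, ha, a', ha', ia, ia', n1, -⟩ := h.rk2 (α := α) le_rfl
  obtain ⟨k, hk, ko, e2, e3, -⟩ := h.se.exists_K hu eu hne ia ia' (h.fix ha) (h.fix ha')
  have k1 : k ≠ 1 := fun e => n1 (by simpa [e] using e3)
  obtain ⟨i1, i2⟩ := SE.inv_mul_K hu eu hk ko e2
  have kc : ∀ t ∈ St2 G α β, Inv t → u ∈ 𝐂[t] ∧ u * k ∈ 𝐂[t] := fun t ht it =>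
    ⟨h.J_cent hne it ht hu eu, h.J_cent hne it ht i1 i2⟩
  refine ⟨k, ko, hk, fun γ e => by_contra fun n2 => ?_, fun t ht tt => ?_, fun c hc kc => ?_⟩
  · rw [not_or] at n2
    obtain ⟨L, n, e0, b, -⟩ := h.bz hne hz hD
    obtain ⟨v, hv, -, ev, k2⟩ := h.orb hne hz hD b n2.1 n2.2
    have := mem_cent1.1 (k2 k ⟨(mul_mem_cancel_left (b.mem u (kc z hD hz).1 hu)).1
      (b.mem _ (kc z hD hz).2 i1), hk⟩ e)
    rcases ev with ev | ev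
    · exact k1 (h.se.K_eq_one hu eu hne hv ev hk ko e2 this.symm)
    · exact k1 (h.se.K_eq_one hu (hu.smul_eq eu) hne.symm hv ev ⟨hk.2, hk.1⟩ ko e2 this.symm)
  · by_cases t1 : t = 1
    · rw [t1]; exact mem_cent1.2 (by simp)
    · exact (mul_mem_cancel_left (kc t ht ⟨t1, tt⟩).1).1 (kc t ht ⟨t1, tt⟩).2
  · exact by_contra fun c1 => k1 (h.se.K_eq_one hu eu hne (h.inn hc c1) (h.fix hc) hk ko e2
      (mem_cent1.1 kc).symm)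

theorem blk : ∃ T ≤ 𝐂[z] ⊓ stabilizer G α, IsPGroup 2 T ∧
    ∀ γ, z • γ = γ → γ ≠ α → ∃ s ∈ T, s • β = γ := by
  obtain ⟨L, n, e0, b, -⟩ := h.bz hne hz hD
  have f : ∀ {ε : Ω}, z • ε = ε → ε ∈ Fx Ω 𝐂[z] := fun e => (h.fx_eq hne hz hD).ge e
  obtain ⟨T, t⟩ := b.pt α (f hD.1)
  exact ⟨T, le_inf (t.syl.le.trans b.normal.1) t.le, t.syl.pgrp,
    fun γ e n1 => t.tr β (f hD.2) hne.symm γ (f e) n1⟩

/-- The two cases of the count. -/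
theorem cases : (∃ k, Nat.card Ω = 2 ^ k + 1) ∨ ∃ L n, BTd4 Ω 𝐂[z] L n 2 ∧ Odd n ∧ 3 ≤ n ∧
    𝐨(Ac G α) = 2 ^ n ∧ Nat.card Ω = ((2 ^ n) ^ 2 + 1) * (1 + (2 ^ n - 1) * (2 ^ n) ^ 2) := by
  obtain ⟨L, n, e0, b, c⟩ := h.bz hne hz hD
  have e := h.cnt hne hz hD (h.fx_eq hne hz hD ▸ b.card)
  rw [c] at e
  rcases b.ty with ⟨rfl, -⟩ | ⟨rfl, h1, h2⟩
  · refine Or.inl ⟨n * 3, ?_⟩
    rw [e, pow_mul]
    obtain ⟨j, hj⟩ : ∃ j, 2 ^ n = j + 1 := ⟨2 ^ n - 1, by have := Nat.one_le_two_pow (n := n); omega⟩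
    rw [hj, Nat.add_sub_cancel]
    ring
  · exact Or.inr ⟨L, n, b, h1, h2, c, e⟩

omit hz hD in
theorem line2 {x : G} (hx : x ∈ St2 G α β ⊓ 𝐂(Ac G α)) (hp : (orderOf x).Prime) :
    {γ | x • γ = γ} = Fx Ω (Ac G α ⊔ Ac G β) := by
  by_cases r2 : orderOf x = 2
  · exact h.fix_eq hne (P6.inv_of_orderOf r2) hx.1
  have pX : IsPGroup (orderOf x) (zpowers x) := isPGroup_of_card_prime (Nat.card_zpowers x)
  have AC : Ac G α ≤ 𝐂(zpowers x) := cent_comm.1 (zpowers_le.2 hx.2)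
  have l := h.l1 _ hp r2 _ pX ⟨α, h.mem_Fx AC⟩
  rw [← h.toMd.line hne (N := 𝐂(zpowers x)) (by
    rw [cent_zpowers]
    exact h.toMd.cent1_ne fun e => by simp [e, Nat.not_prime_one] at hp)
    (sup_le AC (h.toMd.A_le_of AC (l β (zpowers_le.2 hx.1.2))))]
  ext γ
  exact ⟨fun e => l γ (zpowers_le.2 e), fun e => h.se.le_stab_of_mem_Fx e (mem_zpowers x)⟩

end Md1

end Cfsg.Agent.P14.C
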