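/-
P21, chapter C, step (D): all involutions are in the class.
-/
import Cfsg.Agent.P21.D2

set_option autoImplicit false
set_option linter.unusedSectionVars false

namespace Cfsg.Agent.P14.C

open Subgroup Cfsg Cfsg.Agent Cfsg.Agent.FT MulAction
open Cfsg.Agent.P6 (St2 Od Inv)
open scoped commutatorElement

universe u

/-- Piece DO. -/
def DOStmt : Prop := ∀ (G : Type u) [Group G] [Finite G] [ICl G] (Ω : Type u) [MulAction G Ω]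
  (𝒜 : Set G), Md 𝒜 Ω → ∀ α β : Ω, α ≠ β → ∀ n : ℕ, Odd n → 3 ≤ n →
  Nat.card Ω = ((2 ^ n) ^ 2 + 1) * (1 + (2 ^ n - 1) * (2 ^ n) ^ 2) → ∀ E ≤ St2 G α β,
  (∀ γ, γ ≠ α → γ ≠ β → 2 ^ n - 1 ∣ (stabilizer G γ).relIndex E) → Od (stabilizer G α) = ⊥

/-- Piece DJ. -/
def DJStmt : Prop := ∀ (G : Type u) [Group G] [Finite G] [ICl G] (Ω : Type u) [MulAction G Ω]
  (𝒜 : Set G), Md 𝒜 Ω → ∀ α β : Ω, α ≠ β → ∀ S : Subgroup G, IsSyl 2 S (stabilizer G α) →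
  Od (stabilizer G α) = ⊥ → (∀ y ∈ 𝒜, y ∈ pCoreOf 2 (stabilizer G α) → y ∈ Ac G α) →
  (∀ y ∈ 𝒜, y ∈ S → ∃ a ∈ Ac G α, (y * a) • β = β) → ∀ k : G, Odd (orderOf k) → k ∈ St2 G α β →
  (∀ γ, k • γ = γ → γ = α ∨ γ = β) → (∀ t ∈ St2 G α β, t * t = 1 → k ∈ 𝐂[t]) →
  (∀ a ∈ Ac G α, k ∈ 𝐂[a] → a = 1) → ∀ l : Set Ω,
  (∀ x ∈ St2 G α β ⊓ 𝐂(Ac G α), (orderOf x).Prime → {γ | x • γ = γ} = l) →
  (∀ t ∈ St2 G α β, Inv t → ∃ T ≤ 𝐂[t] ⊓ stabilizer G α, IsPGroup 2 T ∧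
    ∀ γ, t • γ = γ → γ ≠ α → ∃ s ∈ T, s • β = γ) → IsPGroup 2 𝐂(Ac G α)

variable {G : Type u} [Group G] [Finite G] [ICl G] {Ω : Type u} [MulAction G Ω] {𝒜 : Set G}

namespace Md1

variable (h : Md1 𝒜 Ω) (O : DOStmt.{u}) (J : DJStmt.{u})
include h O

theorem cases' {α β : Ω} (hne : α ≠ β) {z : G} (hz : Inv z) (hD : z ∈ St2 G α β)
    {S : Subgroup G} (hS : IsSyl 2 S (stabilizer G α)) :
    (∀ γ, γ ≠ α → ∃ s ∈ S, s • β = γ) ∨ Od (stabilizer G α) = ⊥ := by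
  rcases h.cases hne hz hD with ⟨k, hk⟩ | ⟨L, n, b, h1, h2, c, e⟩
  · exact Or.inl fun γ => h.toMd.syl_trans hne hS hk
  · exact Or.inr (O G Ω 𝒜 h.toMd α β hne n h1 h2 e _ inf_le_right fun γ n1 n2 =>
      c ▸ h.dvd_orb hne hz hD b n1 n2)

include J

theorem not_mem {α β : Ω} (hne : α ≠ β) {z : G} (hz : z ∈ 𝒜) (hD : z ∈ St2 G α β) : False := by
  have iz := h.ga.inv z hz
  obtain ⟨S, hS, zS⟩ := exists_isSyl_ge Nat.prime_two iz.isPGroup (zpowers_le.2 hD.1)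
  replace zS := zS (mem_zpowers z)
  have cov : ¬ ∀ γ, γ ≠ α → ∃ y ∈ 𝒜, y ∈ S ∧ y • γ = γ := fun k => h.not_cover hne iz hD
    fun γ hγ => by
      obtain ⟨y, h1, h2, h3⟩ := k γ hγ
      exact h.toMd.dl hS.pgrp hS.le h1 h2 h3 hz zS
  rcases h.cases' O hne iz hD hS with tr | od
  · refine cov fun γ hγ => ?_
    obtain ⟨s, hs, rfl⟩ := tr γ hγ
    exact ⟨_, h.ga.conj z hz s, mul_mem (mul_mem hs zS) (inv_mem hs), P6.conj_fix hD.2⟩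
  have nP : stabilizer G α ≤ 𝐍(pCoreOf 2 (stabilizer G α)) :=
    (le_norm_self _).trans (H2.normalizer_le_normalizer_pCoreOf 2 _)
  have PH := H2.pCoreOf_le 2 (stabilizer G α)
  have p2 : ∀ y ∈ 𝒜, y ∈ pCoreOf 2 (stabilizer G α) → y ∈ Ac G α := fun y hy yP => by
    by_contra n1
    obtain ⟨δ, hδ, e⟩ := h.toPin0.two_fix hy (fun iy => n1 (h.mem iy (PH yP))) (PH yP)
    refine cov fun γ hγ => ?_
    obtain ⟨g, hg, rfl⟩ := h.tr2 α δ γ hδ.symm hγ.symm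
    exact ⟨_, h.ga.conj y hy g, hS.le_of_le_norm Nat.prime_two (H2.isPGroup_pCoreOf 2 _) PH
      (hS.le.trans nP) ((mem_normalizer_iff.1 (nP hg) y).1 yP), P6.conj_fix e⟩
  obtain ⟨k, k1, k2, k3, k4, k5⟩ := h.exists_k hne iz hD
  have pC := J G Ω 𝒜 h.toMd α β hne S hS od p2
    (fun y hy yS => h.toMd.dl hS.pgrp hS.le hz zS hD.2 hy yS) k k1 k2 k3 k4 k5 _
    (fun x hx hp => h.line2 hne hx hp) fun t ht it => h.blk hne it ht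
  exact h.se.not_mem_St2 hne (h.inn (p2 z hz (le_pCoreOf ⟨h.C_le α, h.norm_C α⟩ pC
    (h.f1 hne iz hD))) iz.ne) hD

theorem in_of {y : G} (hy : y ∈ 𝒜) : In y := by_contra fun n1 => by
  obtain ⟨α, e⟩ := h.exists_fix (h.ga.inv y hy).isPGroup
  obtain ⟨δ, hδ, e'⟩ := h.toPin0.two_fix hy n1 (e (mem_zpowers y))
  exact h.not_mem O J hδ.symm hy ⟨e (mem_zpowers y), e'⟩

theorem stepD {α β : Ω} (hne : α ≠ β) {z : G} (hz : Inv z) (hD : z ∈ St2 G α β) : False := by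
  obtain ⟨S, hS, zS⟩ := exists_isSyl_ge Nat.prime_two hz.isPGroup (zpowers_le.2 hD.1)
  replace zS := zS (mem_zpowers z)
  have cov : ¬ ∀ γ, γ ≠ α → ∃ g : G, g * z * g⁻¹ ∈ S ∧ g • β = γ := fun k =>
    h.not_cover hne hz hD fun γ hγ => by
      obtain ⟨g, h1, rfl⟩ := k γ hγ
      refine ⟨z⁻¹ * (g * z * g⁻¹), h.mem_Ac.2 ((h.ci.sq hS.pgrp hz.sq zS h1).imp_right fun e =>
        ⟨h.in_of O J e, hS.le (mul_mem (inv_mem zS) h1)⟩), ?_⟩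
      rw [mul_inv_cancel_left]
      exact P6.conj_fix hD.2
  rcases h.cases' O hne hz hD hS with tr | od
  · refine cov fun γ hγ => ?_
    obtain ⟨s, hs, rfl⟩ := tr γ hγ
    exact ⟨s, mul_mem (mul_mem hs zS) (inv_mem hs), rfl⟩
  have eA : P21.Az 𝒜 S = Ac G α := le_antisymm (fun a ha => h.mem_Ac.2
    (((h.ga.mem_Az_iff hS.pgrp).1 ha).imp_right fun e => ⟨h.in_of O J e.1, hS.le e.2⟩))
    (h.toMd.A_le_Az hS)
  have e := h.amb.cent_Az_eq (h.syl_top hS)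
  rw [eA, le_antisymm (h.norm_le α) (h.norm_A α), od, bot_sup_eq] at e
  refine cov fun γ hγ => ?_
  obtain ⟨g, hg, rfl⟩ := h.tr2 α β γ hne hγ.symm
  exact ⟨g, (e.ge ((mem_normalizer_iff.1 (h.norm_C α hg) z).1 (h.f1 hne hz hD))).1, rfl⟩

theorem all_in {t : G} (ht : Inv t) : In t := by
  have := h.two
  obtain ⟨α, β, hne⟩ := exists_pair_ne Ω
  obtain ⟨a, ia, ea⟩ := h.toPin0.all α
  obtain ⟨b, ib, eb⟩ := h.toPin0.all β
  have se : P6.SE G Ω := ⟨fun {z} hz {γ δ} e1 e2 => by_contra fun n1 => h.stepD O J n1 hz ⟨e1, e2⟩,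
    fun {z} hz => (h.exists_fix hz.isPGroup).imp fun _ e => e (mem_zpowers z)⟩
  obtain ⟨g, -, rfl⟩ := se.exists_conj (N := ⊤) ⟨α, ⟨a, mem_top a, ia, ea⟩, β,
    ⟨b, mem_top b, ib, eb⟩, hne⟩ ia.toInv ht (mem_top a) (mem_top t)
  exact ia.conj g

end Md1

theorem Md.all_of (h : Md 𝒜 Ω) (O : DOStmt.{u}) (J : DJStmt.{u}) (t : G) (ht : Inv t) : In t :=
  h.md1.all_in O J ht

end Cfsg.Agent.P14.C
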