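/-
P21, step (D): two small lemmas.
-/
import Cfsg.Agent.P21.Defs

set_option autoImplicit false
set_option linter.unusedSectionVars false

namespace Cfsg.Agent.P21

open Subgroup Cfsg Cfsg.Agent Cfsg.Agent.FT
open Cfsg.Agent.P6 (Inv)

universe u

variable {G : Type u} [Group G] [Finite G]

theorem kn_of_ztg (h : P14.ZTG G) : Kn G := by
  obtain ⟨Q, H, t, h⟩ := h
  rcases h.main with ⟨n, -, -, -, hQ, -⟩ | ⟨m, -, h4, h5, -⟩
  · obtain ⟨S, hS⟩ := exists_isSyl Nat.prime_two (⊤ : Subgroup G)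
    exact Or.inl fun P hP => isMulComm_iff_le_cent.2
      ((P7.as_of_sq (fun x _ => P7.eac_sq (h.eac hQ) x) hS).1.comm_two hP le_top)
  · rw [Kn, h.card_G, h4, h5]
    have h6 : 2 ^ (2 * m + 1) % 3 = 2 := by rw [pow_succ, pow_mul, Nat.mul_mod, Nat.pow_mod]; simp
    generalize 2 ^ (2 * m + 1) = q at h6
    have h7 : q ^ 2 % 3 = 1 := by rw [Nat.pow_mod, h6]
    simp only [Nat.prime_three.dvd_mul]
    exact Or.inr (by omega)

/-- A proper subgroup that meets its conjugates trivially has at most one involution. -/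
theorem le_of_ti {J U : Subgroup G} (hU : U ≤ J) (ti : ∀ g ∈ J, g ∉ U → U ⊓ U ^ᵍ g = ⊥)
    {t₁ t₂ : G} (h1 : t₁ ∈ U) (h2 : t₂ ∈ U) (i1 : Inv t₁) (i2 : Inv t₂) (ne : t₁ ≠ t₂) :
    J ≤ U := fun g hg => by
  by_contra gU
  have key : ∀ x ∈ J, ∀ y ∈ U, y ≠ 1 → x * y * x⁻¹ ∈ U → x ∈ U := fun x hx y hy y1 e => by
    by_contra k
    exact y1 (conj_eq_one_iff.1 (mem_bot.1 (ti x hx k ▸ mem_inf.2 ⟨e, conj_mem_conj hy x⟩)))
  have iv := i1.conj g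
  have vJ : g * t₁ * g⁻¹ ∈ J := mul_mem (mul_mem hg (hU h1)) (inv_mem hg)
  have ex : ∀ t ∈ U, Inv t → ∃ w ∈ J, w * w = 1 ∧ w * t * w = g * t₁ * g⁻¹ := fun t ht it => by
    have m : ∀ k : ℕ, (t * (g * t₁ * g⁻¹)) ^ k ∈ J := fun k => pow_mem (mul_mem (hU ht) vJ) k
    rcases Nat.even_or_odd (orderOf (t * (g * t₁ * g⁻¹))) with e | e
    · obtain ⟨k, k1, -, k3, k4⟩ := L.exists_invol_commute_of_even it.sq iv.sq e
      have c1 := key _ (m k) t ht it.ne (by rw [k3.eq, mul_inv_cancel_right]; exact ht)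
      have c2 := m k
      generalize (t * (g * t₁ * g⁻¹)) ^ k = c at k1 k4 c1 c2
      have c3 := key (g⁻¹ * c * g) (mul_mem (mul_mem (inv_mem hg) c2) hg) t₁ h1 i1.ne (by
        rw [show g⁻¹ * c * g * t₁ * (g⁻¹ * c * g)⁻¹ = g⁻¹ * (c * (g * t₁ * g⁻¹) * c⁻¹) * g by group,
          k4.eq, mul_inv_cancel_right]
        simpa [mul_assoc] using h1)
      have c4 := conj_mem_conj c3 g
      rw [show g * (g⁻¹ * c * g) * g⁻¹ = c by group] at c4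
      exact (k1 (mem_bot.1 (ti g hg gU ▸ mem_inf.2 ⟨c1, c4⟩))).elim
    · obtain ⟨k, k1, k2⟩ := L.exists_invol_conj_of_odd it.sq iv.sq e
      exact ⟨_, mul_mem (hU ht) (m k), k1, k2⟩
  obtain ⟨w₁, m1, s1, e1⟩ := ex t₁ h1 i1
  obtain ⟨w₂, m2, s2, e2⟩ := ex t₂ h2 i2
  have v1 := inv_eq_of_mul_eq_one_right s1
  have v2 := inv_eq_of_mul_eq_one_right s2
  have e3 : w₁ * w₂ * t₂ * (w₁ * w₂)⁻¹ = t₁ := by
    rw [mul_inv_rev, v1, v2, show w₁ * w₂ * t₂ * (w₂ * w₁) = w₁ * (w₂ * t₂ * w₂) * w₁ by group, e2,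
      ← e1, show w₁ * (w₁ * t₁ * w₁) * w₁ = w₁ * w₁ * t₁ * (w₁ * w₁) by group, s1, one_mul, mul_one]
  have c1 := key _ (mul_mem m1 m2) t₂ h2 i2.ne (e3 ▸ h1)
  refine gU (key g hg t₁ h1 i1.ne (e2 ▸ ?_))
  have c2 := key w₂ m2 _ c1 (fun e => ne (by rw [← e3, e]; simp)) (by
    have := inv_mem c1
    rwa [mul_inv_rev, v1, v2, ← mul_inv_cancel_right (w₂ * w₁) w₂, mul_assoc w₂] at this)
  exact mul_mem (mul_mem c2 h2) c2

end Cfsg.Agent.P21
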