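/-
P21, step (D): the point stabilizer has no components.
-/
import Cfsg.Agent.P21.D0
import Cfsg.Agent.P21.DK

set_option autoImplicit false
set_option linter.unusedSectionVars false

namespace Cfsg.Agent.P14.C

open Subgroup Cfsg Cfsg.Agent Cfsg.Agent.FT MulAction
open Cfsg.Agent.P6 (St2 Od Inv)
open Cfsg.Agent.P21.LA
open scoped commutatorElement

universe u

variable {G : Type u} [Group G] [Finite G] [ICl G] {Ω : Type u} [MulAction G Ω] {𝒜 : Set G}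

namespace Md

variable (h : Md 𝒜 Ω) {α β : Ω} (hne : α ≠ β) {S : Subgroup G} (hS : IsSyl 2 S (stabilizer G α))
  (od : Od (stabilizer G α) = ⊥)
  (p2 : ∀ y ∈ 𝒜, y ∈ pCoreOf 2 (stabilizer G α) → y ∈ Ac G α)
  (dl : ∀ y ∈ 𝒜, y ∈ S → ∃ a ∈ Ac G α, (y * a) • β = β) {k : G} (ko : Odd (orderOf k))
  (kD : k ∈ St2 G α β) (kfix : ∀ γ : Ω, k • γ = γ → γ = α ∨ γ = β)
  (kc : ∀ t ∈ St2 G α β, t * t = 1 → k ∈ 𝐂[t]) (kA : ∀ a ∈ Ac G α, k ∈ 𝐂[a] → a = 1) {ℓ : Set Ω}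
  (line : ∀ x ∈ St2 G α β ⊓ 𝐂(Ac G α), (orderOf x).Prime → {γ | x • γ = γ} = ℓ)
  (blk : ∀ t ∈ St2 G α β, Inv t → ∃ T ≤ 𝐂[t] ⊓ stabilizer G α, IsPGroup 2 T ∧
    ∀ γ : Ω, t • γ = γ → γ ≠ α → ∃ s ∈ T, s • β = γ)
include h hne hS od

include dl ko kD kfix kc kA line blk in
theorem comp_le {J : Subgroup G} (hJ : H2.CompIn (stabilizer G α) J) : J ≤ stabilizer G β := by
  have hF := fittingOf_eq_pCoreOf Nat.prime_two od
  have JA : J ≤ 𝐂(Ac G α) := hJ.le_layerOf.trans ((H2.layerOf_le_centralizer_fittingOf _).trans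
    (cent_anti (hF ▸ le_pCoreOf ⟨h.A_le α, h.norm_A α⟩ (h.pg α))))
  have AJ := cent_comm.1 JA
  have hZ := (H2.isPGroup_pCoreOf 2 _).to_le (hJ.inf_centralizer_le_fittingOf.trans hF.le)
  have hT := syl_comp hS hJ
  have ns := H2.QS.not_isSolvable hJ.2
  have lt : 𝐨(J) < Nat.card G := by
    obtain ⟨g, e⟩ := h.toPin0.trans α β
    exact L.card_lt_of_ne_top fun k => hne ((hJ.le (k.ge (mem_top g))).symm.trans e)
  have ty := P21.zStmt G 𝒜 J _ h.ga hJ.2 hZ (h.ci.kn h.ki lt hJ.2 hZ) hT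
  have key : ∀ y ∈ 𝒜, y ∈ S ⊓ J → ∃ a ∈ Ac G α, (y * a) • β = β ∧
      k * y * k⁻¹ = y * (a * (k * a * k⁻¹)⁻¹) ∧ a * (k * a * k⁻¹)⁻¹ ∈ 𝐂(J) := fun y hy hT => by
    obtain ⟨a, ha, e⟩ := dl y hy hT.1
    have c := mem_cent1_iff_conj.1 (kc _ ⟨mul_mem (hS.le hT.1) (h.A_le α ha), e⟩ (by
      rw [mul_assoc, ← mul_assoc a, JA hT.2 a ha, mul_assoc, h.sq ha, mul_one,
        (h.ga.inv y hy).sq]))
    refine ⟨a, ha, e, ?_, AJ (mul_mem ha (inv_mem (cjm (h.norm_A α kD.1) ha)))⟩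
    rw [← mul_assoc y, ← c]; group
  have k1 : ∀ {Zh}, UT J (S ⊓ J) Zh → k ∈ 𝐍(J) ∧ ∀ z ∈ Zh, z ∉ 𝐂(J) →
      ∃ y ∈ 𝒜, y ∈ S ⊓ J ∧ y⁻¹ * z ∈ 𝐂(J) := fun {Zh} z => by
    obtain ⟨s, hs, sT, sC⟩ := z.exA h.ga
    obtain ⟨a, -, -, e, c⟩ := key s hs sT
    refine ⟨comp_norm hJ kD.1 sT.2 (by rwa [e, mul_mem_cancel_right c]), fun x hx xC => ?_⟩
    obtain ⟨d, hd, -, e⟩ := z.tr s ((z.zh s).2 ⟨sT, (h.ga.inv s hs).sq ▸ one_mem _⟩) sC x hx xC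
    exact ⟨_, h.ga.conj s hs d, cjm hd.2 sT, e⟩
  rcases ty with ⟨Zh, n, r, z⟩ | z
  · obtain ⟨kN, k2⟩ := k1 (ut_sz z)
    have kC := z.oddAut k kN ko fun x hx => by
      by_cases xC : x ∈ 𝐂(J)
      · exact cmr (norm_cent kN) xC
      obtain ⟨y, hy, yT, e⟩ := k2 x hx xC
      obtain ⟨a, -, -, e1, c⟩ := key y hy yT
      have := cjm (norm_cent (le_norm_self J yT.2)) (mul_mem c (cmr (norm_cent kN) e))
      convert this using 1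
      rw [← mul_assoc, ← e1]
      simp only [commutatorElement_def]
      group
    intro j hj
    refine (kfix (j • β) ?_).resolve_left fun e => hne (smul_left_cancel j ((hJ.le hj).trans e.symm))
    rw [← mul_smul, ← kC j hj, mul_smul, kD.2]
  have u := ut_ab z ns
  obtain ⟨kN, k2⟩ := k1 u
  have Tβ : S ⊓ J ≤ stabilizer G β := fun t ht => by
    by_cases t1 : t = 1
    · exact t1 ▸ one_mem _
    obtain ⟨y, hy, yT, e⟩ := k2 t ht ((ab_not z ht.2).2 t1)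
    obtain rfl : y = t := inv_mul_eq_one.1 (z.cen.le ⟨J.mul_mem (J.inv_mem yT.2) ht.2, e⟩)
    obtain ⟨a, ha, e1, e2, c⟩ := key y hy yT
    have c1 := mem_bot.1 (z.cen.le ⟨(J.mul_mem_cancel_left yT.2).1 (e2 ▸ cjm kN yT.2), c⟩)
    rwa [kA a ha (mem_cent1_iff_conj.2 (mul_inv_eq_one.1 c1).symm), mul_one] at e1
  obtain ⟨t, ht, tC, t', ht', tC', ne⟩ := u.ex2
  have it : Inv t := ⟨(ab_not z ht.2).1 tC, ab_sq z ht⟩
  have tD : t ∈ St2 G α β := ⟨hS.le ht.1, Tβ ht⟩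
  obtain ⟨T, hT1, hT2, tr⟩ := blk t tD it
  have TN : T ≤ 𝐍(J) := fun s hs =>
    comp_norm hJ (hT1 hs).2 ht.2 (by rwa [mem_cent1_iff_conj.1 (hT1 hs).1])
  have n1 : stabilizer G β ⊓ 𝐍(J) ≤ 𝐍(J) := inf_le_right
  have mM : ∀ s ∈ T, ∀ j ∈ J, s • β = j • β → s ∈ J ⊔ stabilizer G β ⊓ 𝐍(J) := fun s hs j hj e =>
    (mem_sup_of_norm n1).2 ⟨j, hj, j⁻¹ * s, mem_inf.2 ⟨(mul_smul _ _ _).trans (inv_smul_eq_iff.2 e),
      mul_mem (inv_mem (le_norm_self J hj)) (TN hs)⟩, by group⟩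
  have := h.finite
  obtain ⟨_, ⟨j, hj, rfl⟩, fx⟩ := P6.exists_fixed_of_not_dvd Nat.prime_two
    (P := (T ⊔ zpowers t) ⊓ (J ⊔ stabilizer G β ⊓ 𝐍(J)))
    ((isPGroup_sup hT2 it.isPGroup ((hT1.trans inf_le_left).trans (by
      rw [← cent_zpowers]; exact cent_le_norm _))).to_le inf_le_left)
    (Set.toFinite {c | ∃ y ∈ J, y • β = c}) (by
      rintro x hx _ ⟨y, hy, rfl⟩
      obtain ⟨a, ha, b, hb, rfl⟩ := (mem_sup_of_norm n1).1 hx.2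
      exact ⟨_, mul_mem ha (cjm hb.2 hy), by
        rw [mul_smul a, mul_smul a, ← P6.conj_smul_smul b, (hb.1 : b • β = β)]⟩)
    (by rw [P6.ncard_orbit]; exact fun e => hT.ndvd (e.trans (relIndex_dvd_of_le_left J Tβ)))
  have na : ∀ j ∈ J, j • β ≠ α := fun j hj e => hne (smul_left_cancel j ((hJ.le hj).trans e.symm))
  have f1 : ∀ y ∈ J, t • y • β = y • β → ∃ s : G, s • β = y • β ∧ s • j • β = j • β :=
    fun y hy e => (tr _ e (na y hy)).imp fun s hs =>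
      ⟨hs.2, fx s ⟨mem_sup_left hs.1, mM s hs.1 y hy hs.2⟩⟩
  obtain ⟨s, e1, e2⟩ := f1 j hj (fx t ⟨mem_sup_right (mem_zpowers t), mem_sup_left ht.2⟩)
  rw [smul_left_cancel s (e2.trans e1.symm)] at f1
  refine (P21.le_of_ti (U := J ⊓ stabilizer G β) inf_le_left (fun g hg gU => ?_) ⟨ht.2, Tβ ht⟩
    ⟨ht'.2, Tβ ht'⟩ it ⟨(ab_not z ht'.2).1 tC', ab_sq z ht'⟩
    fun e => ne (by rw [e, inv_mul_cancel]; exact one_mem _)).trans inf_le_right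
  refine (bot_or_exists_ne_one _).resolve_right fun ⟨x, hx, x1⟩ => gU ⟨hg, ?_⟩
  obtain ⟨y, hy, py⟩ := P6.exists_prime_pow_mem x1
  obtain ⟨⟨y1, y2⟩, w, hw, rfl⟩ := zpowers_le.2 hx hy
  have l1 := (line _ ⟨⟨hJ.le y1, y2⟩, JA y1⟩ py).trans
    (line t ⟨tD, JA ht.2⟩ (it.orderOf_eq ▸ Nat.prime_two)).symm
  obtain ⟨s, e1, e2⟩ := f1 g hg (l1.le (P6.conj_fix hw.2))
  exact e1.symm.trans e2

include p2 dl ko kD kfix kc kA line blk in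
theorem two_cent : IsPGroup 2 𝐂(Ac G α) := by
  have hF := fittingOf_eq_pCoreOf Nat.prime_two od
  have pP := H2.isPGroup_pCoreOf 2 (stabilizer G α)
  have hE : H2.layerOf (stabilizer G α) = ⊥ := by
    by_contra e
    obtain ⟨J, hJ⟩ := H2.exists_compIn_of_layerOf_ne_bot e
    refine H2.QS.ne_bot hJ.2 (eq_bot_iff.2 fun x hx => h.toPin0.eq_one_of_fix fun γ => ?_)
    by_cases e : α = γ
    · exact e ▸ hJ.le hx
    obtain ⟨g, hg, rfl⟩ := h.tr2 α β γ hne e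
    have := h.comp_le hne hS od dl ko kD kfix kc kA line blk (comp_conj hJ (inv_mem hg))
      (conj_mem_conj hx g⁻¹)
    rwa [mem_stabilizer_iff, inv_inv, mul_smul, mul_smul, inv_smul_eq_iff] at this
  rintro ⟨x, hx⟩
  obtain ⟨n, m, hm, e⟩ := Nat.exists_eq_two_pow_mul_odd (orderOf_pos x).ne'
  have ho := hm.of_dvd_nat (orderOf_dvd_of_pow_eq_one (x := x ^ 2 ^ n) (by
    rw [← pow_mul, ← e, pow_orderOf_eq_one]))
  have h1 := pow_mem hx (2 ^ n)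
  have h2 := h.ga.odd _ pP _ ((pCoreOf_normal 2 _).2 (h.C_le α h1)) ho fun a ha hP =>
    mem_cent1.2 (h1 a (p2 a ha hP))
  obtain ⟨j, hj⟩ := pow_two_pow pP (hF.le (H2.inf_centralizer_fittingOf_le_of_layerOf_eq_bot hE
    ⟨h.C_le α h1, hF ▸ h2⟩))
  exact ⟨n, Subtype.ext (eq_one_of hj ho)⟩

end Md

end Cfsg.Agent.P14.C
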