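/-
P21, chapter C: interface of the endgame (port of `P18/EDefs`, mixed setting).
-/
import Cfsg.Agent.P18.E4b

set_option autoImplicit false
set_option linter.unusedSectionVars false

namespace Cfsg.Agent.P14

open Subgroup Cfsg Cfsg.Agent Cfsg.Agent.FT MulAction
open Cfsg.Agent.P6 (SE Fx Rk2 IComm St2 Av Inv)

universe u

/-- The strongly embedded situation after step (D). -/
structure Ns4 (G Ω : Type u) [Group G] [Finite G] [MulAction G Ω] : Prop extends SE G Ω where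
  simple : IsSimpleGroup G
  two : Nontrivial Ω
  comm : IComm G Ω
  four : ∀ α : Ω, 4 ≤ 𝐨(Av G α)
  L1 : ∀ {r : ℕ}, r.Prime → r ≠ 2 → ∀ {X : Subgroup G}, IsPGroup r X → ∀ {α : Ω} {a : G},
    a ∈ Av G α → a ≠ 1 → a ∈ 𝐂(X) → ∀ {δ : Ω}, X ≤ stabilizer G δ → δ ∈ Fx Ω 𝐂(X)
  L2 : ∀ {r : ℕ}, r.Prime → r ≠ 2 → ∀ {X : Subgroup G}, IsPGroup r X → ∀ {δ ε ζ : Ω},
    X ≤ stabilizer G δ → X ≤ stabilizer G ε → X ≤ stabilizer G ζ → δ ≠ ε → δ ≠ ζ → ε ≠ ζ →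
    ∃ a ∈ Av G δ, a ≠ 1 ∧ a ∈ 𝐂(X)
  odd : ∀ α : Ω, Odd (𝐂(Av G α).relIndex (stabilizer G α))
  cb : ∀ P : Subgroup G, IsPGroup 2 P → ∀ x ∈ 𝐍(P), Odd (orderOf x) →
    (∀ t ∈ P, t * t = 1 → x * t = t * x) → x ∈ 𝐂(P)
  nab : ∃ P : Subgroup G, IsPGroup 2 P ∧ ¬ IsMulCommutative P
  bt : ∀ N : Subgroup G, N ≠ ⊤ → Rk2 N → ∀ γ ∈ Fx Ω N, ∀ δ ∈ Fx Ω N, δ ≠ γ → ∃ e : ℕ,
    (e = 1 ∨ e = 2 ∧ ∃ n, Odd n ∧ 𝐨((Av G γ ⊓ N : Subgroup G)) = 2 ^ n) ∧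
    (Fx Ω N).ncard = 𝐨((Av G γ ⊓ N : Subgroup G)) ^ e + 1 ∧
    (∃ T ≤ N ⊓ stabilizer G γ, IsPGroup 2 T ∧ ∀ ε ∈ Fx Ω N, ε ≠ γ → ∃ s ∈ T, s • δ = ε) ∧
    ∃ L : Subgroup G, (∀ t ∈ N, Inv t → t ∈ L) ∧ ∀ x ∈ L, ∀ ε ∈ Fx Ω N, ∀ ζ ∈ Fx Ω N,
      ∀ η ∈ Fx Ω N, ε ≠ ζ → ε ≠ η → ζ ≠ η → x • ε = ε → x • ζ = ζ → x • η = η →
      ∀ θ ∈ Fx Ω N, x • θ = θ

variable {G Ω : Type u} [Group G] [Finite G] [MulAction G Ω]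

/-- `Q` is a normal subgroup of `G_α` that is regular on the other points. -/
structure Bp4 (α β : Ω) (Q : Subgroup G) : Prop extends Ns4 G Ω where
  ne : α ≠ β
  le : Q ≤ 𝐂(Av G α)
  Ale : Av G α ≤ Q
  norm : stabilizer G α ≤ 𝐍(Q)
  tr : ∀ γ, γ ≠ α → ∃ z ∈ Q, z • β = γ
  free : ∀ z ∈ Q, z • β = β → z = 1

/-- `Bp4` and the action of `W = C_D(A)`. -/
structure Bq4 (α β : Ω) (Q : Subgroup G) : Prop extends Bp4 α β Q where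
  wc : ∀ x ∈ St2 G α β ⊓ 𝐂(Av G α), x ≠ 1 →
    Q ⊓ 𝐂[x] = pCoreOf 2 Q ∧ 𝐨(pCoreOf 2 Q) = 𝐨(Av G α) ^ 2 ∧ ∃ n, Odd n ∧ 𝐨(Av G α) = 2 ^ n

end Cfsg.Agent.P14
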