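/-
P21, endgame E2 (a): `G_α = C(A) D` (port of `P14/E2a`).
-/
import Cfsg.Agent.P21.E0

set_option autoImplicit false
set_option linter.unusedSectionVars false

namespace Cfsg.Agent.P14

open Subgroup Cfsg Cfsg.Agent Cfsg.Agent.FT MulAction
open Cfsg.Agent.P6
open scoped commutatorElement

universe u

variable {G Ω : Type u} [Group G] [Finite G] [MulAction G Ω]

namespace Ns4

variable (h : Ns4 G Ω)
include h

theorem norm_le_St2 {α β : Ω} (hne : α ≠ β) {l : ℕ} (hl : l.Prime) (hd : l ∣ 𝐨(Av G α) - 1)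
    {P : Subgroup G} (hP : IsPGroup l P) (hH : P ≤ stabilizer G α)
    (nc : ∀ a ∈ Av G α, a ≠ 1 → a ∉ 𝐂(P)) : ∃ g ∈ stabilizer G α, P ≤ St2 G α (g • β) ∧
      stabilizer G α ⊓ 𝐍(P) ≤ St2 G α (g • β) := by
  obtain ⟨R, hR⟩ := exists_isSyl hl (St2 G α β)
  obtain ⟨g, hg, e⟩ := (h.syl_stab hne hl hd hR).2.exists_le_conj hl hP hH
  have n1 : α ≠ g • β := fun e => hne (smul_left_cancel g (hg.trans e))
  have hPβ : P ≤ stabilizer G (g • β) := by
    rw [stabilizer_smul']; exact e.trans (conj_mono (hR.le.trans inf_le_right) g)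
  refine ⟨g, hg, le_inf hH hPβ, fun x hx => ⟨hx.1, ?_⟩⟩
  by_contra n2
  obtain ⟨a, ha, a1, hc⟩ := h.L2 hl (h.ne_two_of_dvd hd) hP hH hPβ
    (le_stab_smul hx.2 hPβ) n1 (fun e => n1 (smul_left_cancel x (hx.1.trans e))) (Ne.symm n2)
  exact nc a ha a1 hc

theorem card_lt {Y : Subgroup G} (hY : Y ≠ ⊤) : 𝐨(Y) < Nat.card G :=
  (Nat.le_of_dvd Nat.card_pos (card_subgroup_dvd_card Y)).lt_of_ne fun e =>
    hY (eq_top_of_card_eq _ e)

theorem odd_relIndex_C (α : Ω) : Odd (𝐂(Av G α).relIndex (stabilizer G α)) := h.odd α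

theorem le_C_of_two {α : Ω} {S : Subgroup G} (hS : IsPGroup 2 S) (hl : S ≤ stabilizer G α) :
    S ≤ 𝐂(Av G α) := by
  have := Fact.mk Nat.prime_two
  obtain ⟨n, hn⟩ := IsPGroup.iff_card.1 hS
  obtain ⟨k, -, hk⟩ := (Nat.dvd_prime_pow Nat.prime_two).1 (hn ▸ relIndex_dvd_card' 𝐂(Av G α) S)
  have := (h.odd_relIndex_C α).of_dvd_nat (rel_dvd_rel hl (h.C_le α) (h.norm_C α))
  rw [← relIndex_eq_one, hk]
  rcases k with _ | k
  · rfl
  · rw [hk] at this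
    exact absurd this (Nat.not_odd_iff_even.2 (even_iff_two_dvd.2 (dvd_pow_self 2 k.succ_ne_zero)))

/-- `H = C(A) D`. -/
theorem stab_le {α β : Ω} (hne : α ≠ β) : stabilizer G α ≤ 𝐂(Av G α) ⊔ St2 G α β := by
  rcases (h.C_le α).eq_or_lt with e | lt
  · exact e.ge.trans le_sup_left
  obtain ⟨M, hM, ch⟩ := exists_chief_above (h.norm_C α) ⟨le_rfl, le_norm_self _⟩ lt
  obtain ⟨l, hl, n, hi⟩ : ∃ l : ℕ, l.Prime ∧ ∃ n, 𝐂(Av G α).relIndex M = l ^ n := by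
    have := H1.normal_subgroupOf_of_le ch.normV
    have hm := BG01.isMinNormal_bar ch
    have := feit_thompson (H1.bar (stabilizer G α) 𝐂(Av G α) M) (by
      rw [H1.card_bar hM]
      exact (h.odd_relIndex_C α).of_dvd_nat (rel_dvd_rel hM (h.C_le α) (h.norm_C α)))
    obtain ⟨p, hp, he⟩ := hm.exists_isElementaryAbelian
    obtain ⟨n, hn⟩ := exists_card_eq_pow hp (elemAb_isPGroup he)
    exact ⟨p, hp, n, by rw [← hn, H1.card_bar ch.le]⟩
  obtain ⟨P, hP⟩ := exists_isSyl hl M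
  have hM' : M ≤ 𝐂(Av G α) ⊔ P := by
    have hle : 𝐂(Av G α) ⊔ P ≤ M := sup_le ch.lt.le hP.le
    rw [← relIndex_eq_one]
    have d1 : (𝐂(Av G α) ⊔ P).relIndex M ∣ l ^ n := hi ▸ relIndex_dvd_of_le_left _ le_sup_left
    obtain ⟨k, -, e⟩ := (Nat.dvd_prime_pow hl).1 d1
    rcases k with _ | k
    · simpa using e
    · exact absurd ((e ▸ dvd_pow_self l k.succ_ne_zero : l ∣ _).trans
        (relIndex_dvd_of_le_left _ le_sup_right)) hP.ndvd
  have nc : ∀ a ∈ Av G α, a ≠ 1 → a ∉ 𝐂(P) := fun a ha a1 hc => by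
    refine ch.lt.not_ge (cent_comm.1 fun b hb => ?_)
    by_cases b1 : b = 1
    · rw [b1]; exact one_mem _
    obtain ⟨d, hd, rfl⟩ := (h.gl1 hne).trans a ha a1 b hb b1
    have : a ∈ 𝐂(M) := cent_anti hM' (by
      rw [cent_sup]; exact ⟨cent_comm.1 le_rfl ha, hc⟩)
    exact H1.conj_mem_of_le_normalizer (H1.le_normalizer_centralizer ch.normU) hd.1 this
  have hd : l ∣ 𝐨(Av G α) - 1 := by
    by_contra nd
    rw [← h.ncard_Iv_eq] at nd
    obtain ⟨b, hb, hbP⟩ := exists_cent_of_not_dvd hl hP.pgrp (S := Iv G α)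
      (fun x hx s hs => ⟨hs.1.conj x, conj_fix' hs.2 (hM (hP.le hx))⟩) nd
    exact nc b (h.mem hb.1 hb.2) hb.1.ne hbP
  obtain ⟨g, hg, hPβ, hN⟩ := h.norm_le_St2 hne hl hd hP.pgrp (hP.le.trans hM) nc
  have h1 : stabilizer G α ≤ 𝐂(Av G α) ⊔ St2 G α (g • β) := by
    rw [← hP.frattini hl ⟨hM, ch.normU⟩]
    exact sup_le (hM'.trans (sup_le_sup_left hPβ _)) (hN.trans le_sup_right)
  rw [← conj_le_conj_iff (g := g), conj_eq_of_mem hg, conj_sup, conj_eq_of_mem_norm (h.norm_C α hg),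
    ← St2_smul, hg]
  exact h1

end Ns4

end Cfsg.Agent.P14
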