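/-
P21, endgame E2 (port of `P14/E2`).
-/
import Cfsg.Agent.P21.E2a

set_option autoImplicit false
set_option linter.unusedSectionVars false

namespace Cfsg.Agent.P14

open Subgroup Cfsg Cfsg.Agent Cfsg.Agent.FT MulAction
open Cfsg.Agent.P6
open scoped commutatorElement

universe u

variable {G Ω : Type u} [Group G] [Finite G] [MulAction G Ω]

namespace Ns4

variable (h : Ns4 G Ω)
include h

theorem A_mem_Fx {N : Subgroup G} {α : Ω} (hN : Av G α ≤ N) : α ∈ Fx Ω N := by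
  obtain ⟨a, ha, a1⟩ := h.exists_A α
  exact ⟨a, hN ha, h.inv ha a1, h.fix ha⟩

theorem cent_ne_top {X : Subgroup G} (h1 : X ≠ ⊥) {α : Ω} (h2 : X ≤ stabilizer G α) :
    𝐂(X) ≠ ⊤ := fun e => h.norm_ne_top_of_le h1 h2 (top_le_iff.1 (e ▸ cent_le_norm X))

theorem no_mix {α β : Ω} {N L : Subgroup G} (hN : Av G α ⊔ Av G β ≤ N)
    (c0 : (Fx Ω (Av G α ⊔ Av G β)).ncard = 𝐨(Av G α) + 1)
    (c1 : (Fx Ω N).ncard = 𝐨(Av G α) ^ 2 + 1) (hL : ∀ t ∈ N, Inv t → t ∈ L)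
    (f3 : ∀ x ∈ L, ∀ ε ∈ Fx Ω N, ∀ ζ ∈ Fx Ω N, ∀ η ∈ Fx Ω N, ε ≠ ζ → ε ≠ η → ζ ≠ η →
      x • ε = ε → x • ζ = ζ → x • η = η → ∀ θ ∈ Fx Ω N, x • θ = θ) : False := by
  have h4 := h.four α
  obtain ⟨n, hn, cA⟩ := h.card_A α
  have ev : 2 ∣ 𝐨(Av G α) := cA ▸ dvd_pow_self 2 (by omega)
  obtain ⟨r, hr, hd⟩ := Nat.exists_prime_and_dvd (n := 𝐨(Av G α) + 1) (by omega)
  have r2 : r ≠ 2 := by rintro rfl; omega
  have r3 := hr.two_le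
  obtain ⟨P, hP⟩ := exists_isSyl hr (Av G α ⊔ Av G β)
  have AL : ∀ γ, Av G γ ≤ N → Av G γ ≤ L := fun γ hγ a ha => by
    by_cases a1 : a = 1
    · exact a1 ▸ one_mem L
    · exact hL a (hγ ha) (h.inv ha a1)
  have PL : P ≤ L := hP.le.trans (sup_le (AL α (le_sup_left.trans hN)) (AL β (le_sup_right.trans hN)))
  have PN : P ≤ N := hP.le.trans hN
  have fa := h.A_mem_Fx (N := Av G α ⊔ Av G β) le_sup_left
  have n1 : ¬ P ≤ stabilizer G α := fun e => hP.ndvd (by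
    refine (hd.trans (dvd_of_eq ?_)).trans (relIndex_dvd_of_le_left _ e)
    rw [← ncard_orbit, ← c0]
    congr 1
    ext γ
    exact ⟨fun hγ => h.se.exists_smul_Fx fa hγ, fun ⟨g, hg, e⟩ => e ▸ smul_mem_Fx' hg fa⟩)
  have m := ncard_modEq_fixed hr hP.pgrp (h.se.finite_Fx N) fun x hx _ hs => smul_mem_Fx' (PN hx) hs
  have m2 : 1 < {s ∈ Fx Ω N | ∀ x ∈ P, x • s = s}.ncard := by
    obtain ⟨k, hk⟩ := hd
    have e : 𝐨(Av G α) ^ 2 + 1 = 2 + r * (k * (𝐨(Av G α) - 1)) := by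
      obtain ⟨j, hj⟩ : ∃ j, 𝐨(Av G α) = j + 1 := ⟨𝐨(Av G α) - 1, by omega⟩
      rw [← mul_assoc, ← hk, hj, Nat.add_sub_cancel]
      ring
    rw [c1, e, Nat.ModEq, Nat.add_mul_mod_self_left, Nat.mod_eq_of_lt (by omega)] at m
    have := Nat.mod_le {s ∈ Fx Ω N | ∀ x ∈ P, x • s = s}.ncard r
    omega
  obtain ⟨ε, ⟨e1, e2⟩, ζ, ⟨z1, z2⟩, ne⟩ :=
    (Set.one_lt_ncard ((h.se.finite_Fx N).subset fun _ hs => hs.1)).1 m2
  obtain ⟨g, hg, eg⟩ := h.se.exists_smul_Fx (Fx_mono hN fa) e1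
  have AN : Av G ε ≤ N := by
    rw [← eg, h.A_smul]
    exact conj_le_of_mem (le_sup_left.trans hN) hg
  obtain ⟨a, ha, aP⟩ := exists_cent_of_not_dvd hr hP.pgrp (S := Iv G ε)
    (fun x hx s hs => ⟨hs.1.conj x, conj_fix' hs.2 (e2 x hx)⟩) (by
      rw [h.ncard_Iv_eq' ε α, h.ncard_Iv_eq]
      intro hd'
      have := Nat.dvd_sub hd hd'
      rw [show 𝐨(Av G α) + 1 - (𝐨(Av G α) - 1) = 2 by omega] at this
      exact r2 ((Nat.prime_dvd_prime_iff_eq hr Nat.prime_two).1 this))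
  refine n1 fun x hx => f3 x (PL hx) ε e1 ζ z1 (a • ζ) (smul_mem_Fx' (AN (h.mem ha.1 ha.2)) z1) ne
    (fun e => ne (smul_left_cancel a (ha.2.trans e))) (fun e => ne (h.se.uniq ha.1 ha.2 e.symm))
    (e2 x hx) (z2 x hx) ?_ α (Fx_mono hN fa)
  rw [← mul_smul, mem_cent.1 aP x hx, mul_smul, z2 x hx]

theorem exists_T {α β : Ω} (hne : α ≠ β) : ∃ T : Subgroup G, IsPGroup 2 T ∧ Av G α ≤ T ∧
    T ≤ 𝐂(Av G α) ⊓ 𝐂(St2 G α β ⊓ 𝐂(Av G α)) ∧ St2 G α β ≤ 𝐍(T) ∧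
    ∀ w ∈ St2 G α β ⊓ 𝐂(Av G α), w ≠ 1 → (𝐨(T) = 𝐨(Av G α) ∨
      𝐨(T) = 𝐨(Av G α) ^ 2 ∧ ∃ n, Odd n ∧ 𝐨(Av G α) = 2 ^ n) ∧
      ∀ γ, w • γ = γ → γ ≠ α → ∃ s ∈ T, s • β = γ := by
  obtain ⟨W, hW⟩ : ∃ W, W = St2 G α β ⊓ 𝐂(Av G α) := ⟨_, rfl⟩
  rw [← hW]
  have WC : W ≤ 𝐂(Av G α) := hW ▸ inf_le_right
  have WD : W ≤ St2 G α β := hW ▸ inf_le_left
  have pA := elemAb_isPGroup (h.elem α)
  by_cases W1 : W = ⊥
  · exact ⟨_, pA, le_rfl, le_inf (h.A_comm α) (cent_comm.1 WC), inf_le_left.trans (h.norm_A α),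
      fun w hw w1 => (w1 (mem_bot.1 (W1 ▸ hw))).elim⟩
  obtain ⟨u, hu, eu⟩ := h.exists_J hne
  have LW : Av G α ⊔ Av G β ≤ 𝐂(W) := sup_le (cent_comm.1 WC) (by
    rw [← eu, h.A_smul]
    exact conj_le_of_mem (cent_comm.1 WC) (mem_cent_iff_cent1.2 (hW ▸ h.W_le_cent hne hu eu)))
  have fa := h.A_mem_Fx (N := Av G α ⊔ Av G β) le_sup_left
  have fb := h.A_mem_Fx (N := Av G α ⊔ Av G β) le_sup_right
  obtain ⟨e0, he0, c0, ⟨T0, hT0, pT0, tr⟩, -⟩ := h.bt _ (fun e => h.cent_ne_top W1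
    (WD.trans inf_le_left) (top_le_iff.1 (e ▸ LW))) ((h.rk2_A α).mono le_sup_left) α fa β fb
    hne.symm
  rw [inf_eq_left.2 le_sup_left] at c0 he0
  have fx : ∀ w ∈ W, w ≠ 1 → ∀ γ, w • γ = γ → γ ∈ Fx Ω (Av G α ⊔ Av G β) := fun w hw w1 γ hγ => by
    obtain ⟨x, hx, r, hr, r2, -, hp, x1, hD⟩ := h.exists_prime_D hne (WD hw) w1
    have hL := LW.trans (cent_anti (zpowers_le.2 (zpowers_le.2 hw hx)))
    obtain ⟨e1, he1, c1, -, L, l1, l2⟩ := h.bt _ (h.cent_ne_top x1 (hD.trans inf_le_left))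
      ((h.rk2_A α).mono (le_sup_left.trans hL)) α (Fx_mono hL fa) β (Fx_mono hL fb) hne.symm
    rw [inf_eq_left.2 (le_sup_left.trans hL)] at c1
    have le : (Fx Ω 𝐂(zpowers x)).ncard ≤ (Fx Ω (Av G α ⊔ Av G β)).ncard := by
      rcases he0 with rfl | ⟨rfl, -⟩ <;> rcases he1 with rfl | ⟨rfl, -⟩
      · exact (c1.trans c0.symm).le
      · exact (h.no_mix hL (by rw [c0, pow_one]) c1 l1 l2).elim
      · rw [c0, c1]
        exact Nat.succ_le_succ (Nat.pow_le_pow_right Nat.card_pos (by norm_num))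
      · exact (c1.trans c0.symm).le
    rw [Set.eq_of_subset_of_ncard_le (Fx_mono hL) le (h.se.finite_Fx _)]
    obtain ⟨a, ha, a1⟩ := h.exists_A α
    exact h.L1 hr r2 hp ha a1 (hL (mem_sup_left ha))
      (zpowers_le.2 (zpowers_le (H := stabilizer G γ).2 hγ hx))
  have TH : T0 ⊔ Av G α ≤ stabilizer G α := sup_le (hT0.trans inf_le_right) (h.A_le α)
  have pT : IsPGroup 2 (T0 ⊔ Av G α : Subgroup G) :=
    isPGroup_sup pT0 pA ((hT0.trans inf_le_right).trans (h.norm_A α))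
  have TL : T0 ⊔ Av G α ≤ Av G α ⊔ Av G β := sup_le (hT0.trans inf_le_left) le_sup_left
  have TC : T0 ⊔ Av G α ≤ 𝐂(Av G α) ⊓ 𝐂(W) := le_inf (h.le_C_of_two pT TH) (TL.trans LW)
  obtain ⟨w0, hw0, w1⟩ := (bot_or_exists_ne_one W).resolve_left W1
  have cf : ∀ c ∈ 𝐂(Av G α) ⊓ 𝐂(W), c • β ∈ Fx Ω (Av G α ⊔ Av G β) ∧ c • β ≠ α := fun c hc =>
    ⟨fx w0 hw0 w1 _ (by rw [← mul_smul, mem_cent.1 hc.2 w0 hw0, mul_smul, (WD hw0).2]),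
      fun e => hne (smul_left_cancel c ((h.C_le α hc.1).trans e.symm))⟩
  have nT : 𝐂(Av G α) ⊓ 𝐂(W) ≤ 𝐍(T0 ⊔ Av G α) := fun c hc => by
    obtain ⟨s, hs, e⟩ := tr _ (cf c hc).1 (cf c hc).2
    have h1 := inv_mem (TC (mem_sup_left hs))
    have h2 : s⁻¹ * c ∈ W := hW ▸ ⟨⟨h.C_le α (mul_mem h1.1 hc.1), mem_stabilizer_iff.2 (by
      rw [mul_smul, ← e, inv_smul_smul])⟩, mul_mem h1.1 hc.1⟩
    rw [← mul_inv_cancel_left s c]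
    exact mul_mem (le_norm_self _ (mem_sup_left hs))
      (cent_le_norm _ (cent_comm.1 (TC.trans inf_le_right) h2))
  have lT := le_pCoreOf ⟨TC, nT⟩ pT
  have pS := H2.isPGroup_pCoreOf 2 (𝐂(Av G α) ⊓ 𝐂(W))
  have SC := H2.pCoreOf_le 2 (𝐂(Av G α) ⊓ 𝐂(W))
  refine ⟨_, pS, le_sup_right.trans lT, SC, le_trans ?_ (H2.normalizer_le_normalizer_pCoreOf 2 _),
    fun w hw w1 => ⟨?_, fun γ hγ n1 => ?_⟩⟩
  · have h1 := inf_le_left.trans (h.norm_C α) (a := St2 G α β)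
    exact H1.le_normalizer_inf h1 (H1.le_normalizer_centralizer
      (hW ▸ H1.le_normalizer_inf (le_norm_self _) h1))
  · suffices c : 𝐨(pCoreOf 2 (𝐂(Av G α) ⊓ 𝐂(W))) = 𝐨(Av G α) ^ e0 by
      rcases he0 with rfl | ⟨rfl, hn⟩
      · exact Or.inl (c.trans (pow_one _))
      · exact Or.inr ⟨c, hn⟩
    have e1 := ncard_orbit (pCoreOf 2 (𝐂(Av G α) ⊓ 𝐂(W))) β
    have e2 := H1.card_inf_mul_relIndex (stabilizer G β) (pCoreOf 2 (𝐂(Av G α) ⊓ 𝐂(W)))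
    rw [show stabilizer G β ⊓ pCoreOf 2 (𝐂(Av G α) ⊓ 𝐂(W)) = ⊥ from eq_bot_iff.2 fun z hz =>
      eq_one_of_two_odd pS (h.se.odd_St2 hne) hz.2 ⟨h.C_le α (SC hz.2).1, hz.1⟩, card_bot,
      one_mul] at e2
    rw [← e2, ← e1, ← Nat.add_right_cancel_iff (n := 1), ← c0,
      ← Set.ncard_sdiff_singleton_add_one fa (h.se.finite_Fx _)]
    congr 2
    ext γ
    refine ⟨?_, fun hγ => ?_⟩
    · rintro ⟨y, hy, rfl⟩
      exact cf y (SC hy)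
    · obtain ⟨s, hs, e⟩ := tr γ hγ.1 hγ.2
      exact ⟨s, lT (mem_sup_left hs), e⟩
  · obtain ⟨s, hs, e⟩ := tr γ (fx w hw w1 γ hγ) n1
    exact ⟨s, lT (mem_sup_left hs), e⟩

theorem exists_bp {α β : Ω} (hne : α ≠ β) {T : Subgroup G} (pT : IsPGroup 2 T)
    (AT : Av G α ≤ T) (TC : T ≤ 𝐂(Av G α) ⊓ 𝐂(St2 G α β ⊓ 𝐂(Av G α)))
    (DT : St2 G α β ≤ 𝐍(T)) (fx : ∀ w ∈ St2 G α β ⊓ 𝐂(Av G α), w ≠ 1 →
      ∀ γ, w • γ = γ → γ ≠ α → ∃ s ∈ T, s • β = γ) : ∃ Q : Subgroup G, Bp4 α β Q ∧ T ≤ Q := by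
  obtain ⟨A, hA⟩ : ∃ A, A = Av G α := ⟨_, rfl⟩
  obtain ⟨W, hW⟩ : ∃ W, W = St2 G α β ⊓ 𝐂(A) := ⟨_, rfl⟩
  rw [← hA] at AT TC fx
  rw [← hW] at TC fx
  have AC : T ≤ 𝐂(A) := TC.trans inf_le_left
  have WC : W ≤ 𝐂(A) := hW ▸ inf_le_right
  have CH : 𝐂(A) ≤ stabilizer G α := hA ▸ h.C_le α
  have HC : stabilizer G α ≤ 𝐍(𝐂(A)) := hA ▸ h.norm_C α
  have WA : W ≤ 𝐍(T) := (cent_comm.1 (TC.trans inf_le_right)).trans (cent_le_norm T)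
  have := Fact.mk Nat.prime_two
  obtain ⟨k, hk⟩ := IsPGroup.iff_card.1 pT
  have sq : ∀ x ∈ T ⊔ W, x ∉ T → x ^ 2 ^ k ∈ W ∧ x ^ 2 ^ k ≠ 1 := fun x hx hxA => by
    obtain ⟨a, ha, w, hw, rfl⟩ := (mem_sup_of_norm WA).1 hx
    have c : Commute a w := (mem_cent.1 (TC ha).2 w hw).symm
    have e : (a * w) ^ 2 ^ k = w ^ 2 ^ k := by
      rw [c.mul_pow, ← hk, show a ^ 𝐨(T) = 1 from
        congrArg Subtype.val (pow_card_eq_one' (x := (⟨a, ha⟩ : T))), one_mul]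
    rw [e]
    refine ⟨pow_mem hw _, fun e => hxA ?_⟩
    rw [eq_one_of_two_odd (fp_isPGroup e) (h.se.odd_St2 hne) (mem_zpowers w) (hW ▸ hw).1, mul_one]
    exact ha
  obtain ⟨N, hN, h1, h2, h3⟩ := H6.exists_normal_of_wielandt (G := 𝐂(A))
    (H := (T ⊔ W).subgroupOf 𝐂(A)) (L := T.subgroupOf 𝐂(A)) (subgroupOf_mono _ le_sup_left)
    ⟨fun x hx g => by
      simpa [mem_subgroupOf] using H1.conj_mem_of_le_normalizer (sup_le (le_norm_self T) WA)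
        (mem_subgroupOf.1 g.2) (mem_subgroupOf.1 (mem_subgroupOf.1 hx))⟩
    (fun g hg x hx hgx => by
      by_contra hxA
      obtain ⟨s1, s2⟩ := sq x hx hxA
      have e0 : ((g * x * g⁻¹ : 𝐂(A)) : G) ^ 2 ^ k = g * x ^ 2 ^ k * (g : G)⁻¹ := by
        simp
      have s3 : (g : G) * x ^ 2 ^ k * (g : G)⁻¹ ∈ W := by
        by_cases e : ((g * x * g⁻¹ : 𝐂(A)) : G) ∈ T
        · rw [← e0, ← hk, show ((g * x * g⁻¹ : 𝐂(A)) : G) ^ 𝐨(T) = 1 from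
            congrArg Subtype.val (pow_card_eq_one' (x := (⟨_, e⟩ : T)))]
          exact one_mem _
        · exact e0 ▸ (sq _ hgx e).1
      have e1 : ((x : G) ^ 2 ^ k) • (g : G)⁻¹ • β = (g : G)⁻¹ • β := by
        have := mem_stabilizer_iff.1 (hW ▸ s3).1.2
        rw [eq_inv_smul_iff, smul_smul, smul_smul, this]
      obtain ⟨a, ha, e2⟩ := fx _ s1 s2 _ e1 (fun e => hne (by
        rw [inv_smul_eq_iff] at e; rw [e, CH g.2]))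
      have e3 : (g : G) * a ∈ W := hW ▸ ⟨⟨CH (mul_mem g.2 (AC ha)), mem_stabilizer_iff.2 (by
        rw [mul_smul, e2, smul_inv_smul])⟩, mul_mem g.2 (AC ha)⟩
      refine hg (mem_subgroupOf.2 ?_)
      simpa using mul_mem (mem_sup_right e3 : _ ∈ T ⊔ W) (mem_sup_left (inv_mem ha)))
  have mQ : ∀ g, g ∈ N.map (𝐂(A)).subtype ↔ g ∈ 𝐂(A) ∧
      ∀ x ∈ 𝐂(A), x⁻¹ * g * x ∈ T ⊔ W → x⁻¹ * g * x ∈ T := fun g =>
    ⟨fun ⟨y, hy, e⟩ => e ▸ ⟨y.2, fun x hx => (h1 y).1 hy ⟨x, hx⟩⟩,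
      fun hg => ⟨⟨g, hg.1⟩, (h1 _).2 fun x => hg.2 x x.2, rfl⟩⟩
  have AQ : T ≤ N.map (𝐂(A)).subtype := fun a ha =>
    ⟨⟨a, AC ha⟩, (h2.ge (mem_subgroupOf.2 ha)).1, rfl⟩
  have nC : 𝐂(A) ≤ 𝐍(N.map (𝐂(A)).subtype) := fun c hc => mem_norm_of_conj_le (by
    rintro _ ⟨_, ⟨y, hy, rfl⟩, rfl⟩
    exact ⟨_, hN.conj_mem y hy ⟨c, hc⟩, rfl⟩)
  have hH := h.stab_le hne
  rw [← hA] at hH
  refine ⟨N.map (𝐂(A)).subtype, ⟨h, hne, hA ▸ map_subtype_le N, hA ▸ AT.trans AQ,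
    hH.trans (sup_le nC fun d hd => mem_norm_of_conj_le ?_), fun γ n1 => ?_, fun z hz e => ?_⟩, AQ⟩
  · rintro _ ⟨g, hg, rfl⟩
    obtain ⟨g1, g2⟩ := (mQ g).1 hg
    refine (mQ _).2 ⟨H1.conj_mem_of_le_normalizer HC hd.1 g1, fun x hx hm => ?_⟩
    have dW : d ∈ 𝐍(T ⊔ W) := H1.le_normalizer_sup DT
      (hW ▸ H1.le_normalizer_inf (le_norm_self _) (inf_le_left.trans HC)) hd
    have := g2 _ (H1.conj_mem_of_le_normalizer' HC hd.1 hx) (by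
      simpa [mul_assoc] using H1.conj_mem_of_le_normalizer' le_rfl dW hm)
    simpa [mul_assoc] using H1.conj_mem_of_le_normalizer DT hd this
  · obtain ⟨g, hg, rfl⟩ := h.two_trans hne n1.symm
    obtain ⟨c, hc, d, hd, rfl⟩ := (mem_sup_of_norm (inf_le_left.trans HC)).1 (hH hg)
    obtain ⟨z, hz, y, hy, e⟩ := mem_sup_of_normal_left.1 (h3.ge (mem_top (⟨c, hc⟩ : 𝐂(A))))
    obtain ⟨a, ha, w, hw, e'⟩ := (mem_sup_of_norm WA).1 (mem_subgroupOf.1 hy)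
    refine ⟨z * a, mul_mem ⟨z, hz, rfl⟩ (AQ ha), ?_⟩
    have e2 : c = z * a * w := by rw [mul_assoc, e']; exact (congrArg Subtype.val e).symm
    rw [hW] at hw
    rw [e2, mul_smul _ d, hd.2, mul_smul _ w, hw.1.2]
  · obtain ⟨g1, g2⟩ := (mQ z).1 hz
    have := g2 1 (one_mem _) (by
      simpa using mem_sup_right (hW ▸ ⟨⟨CH g1, e⟩, g1⟩ : z ∈ W))
    exact eq_one_of_two_odd pT (h.se.odd_St2 hne) (by simpa using this) ⟨CH g1, e⟩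

end Ns4

namespace Bp4

variable {α β : Ω} {Q : Subgroup G} (h : Bp4 α β Q)
include h

theorem A_le_core : Av G α ≤ pCoreOf 2 Q :=
  le_pCoreOf ⟨h.Ale, h.QH.trans (h.mc.norm_A α)⟩ (elemAb_isPGroup (h.mc.elem α))

theorem norm_core : stabilizer G α ≤ 𝐍(pCoreOf 2 Q) :=
  h.norm.trans (H2.normalizer_le_normalizer_pCoreOf 2 Q)

theorem le_core {T : Subgroup G} (hT : IsPGroup 2 T) (hQ : T ≤ Q) : T ≤ pCoreOf 2 Q := by
  obtain ⟨P, hP, hl⟩ := exists_isSyl_ge Nat.prime_two hT hQ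
  exact hP.eq_pCoreOf_of_isNilpotent Nat.prime_two h.nil ▸ hl

theorem two_le {T : Subgroup G} (hT : IsPGroup 2 T) (hH : T ≤ stabilizer G α) : T ≤ Q := by
  have := Fact.mk Nat.prime_two
  obtain ⟨n, hn⟩ := IsPGroup.iff_card.1 hT
  obtain ⟨k, -, hk⟩ := (Nat.dvd_prime_pow Nat.prime_two).1 (hn ▸ relIndex_dvd_card' Q T)
  have h1 := rel_dvd_rel hH h.QH h.norm
  rw [← h.sd.sup, relIndex_sup_of_norm h.sd.norm] at h1
  have := ((h.se.odd_St2 h.ne).of_dvd_nat (relIndex_dvd_card' Q _)).of_dvd_nat h1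
  rw [← relIndex_eq_one, hk]
  rcases k with _ | k
  · rfl
  · rw [hk] at this
    exact absurd this (Nat.not_odd_iff_even.2 (even_iff_two_dvd.2 (dvd_pow_self 2 k.succ_ne_zero)))

/-- `O₂(Q)` is larger than `A`. -/
theorem core_ne : pCoreOf 2 Q ≠ Av G α := fun e => by
  obtain ⟨P, pP, na⟩ := h.mc.nab
  obtain ⟨S, hS, AS⟩ := exists_isSyl_ge Nat.prime_two (elemAb_isPGroup (h.mc.elem α)) le_top
  have SA : S ≤ Av G α := by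
    by_contra hn
    have l1 := lt_inf_norm_of_isNilpotent (isNilpotent_of_isPGroup Nat.prime_two hS.pgrp)
      (lt_of_le_of_ne AS fun e => hn e.ge)
    refine l1.not_ge ((h.le_core (hS.pgrp.to_le inf_le_left) (h.two_le
      (hS.pgrp.to_le inf_le_left) fun g hg => ?_)).trans e.le)
    obtain ⟨a, ha, a1⟩ := h.mc.exists_A α
    exact h.se.smul_eq_of_conj (h.mc.inv ha a1) (h.mc.fix ha)
      (h.mc.fix (H1.conj_mem_of_le_normalizer le_rfl hg.2 ha))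
  obtain ⟨g, -, hg⟩ := hS.exists_le_conj Nat.prime_two pP le_top
  refine na (isMulComm_iff_le_cent.2 ?_)
  have := hg.trans (conj_mono SA g)
  rw [← h.mc.A_smul] at this
  exact this.trans ((h.mc.A_comm _).trans (cent_anti this))

theorem core_le_cent {x : G} (hx : x ∈ St2 G α β ⊓ 𝐂(Av G α)) : pCoreOf 2 Q ≤ 𝐂[x] :=
  mem_cent_iff_cent1.1 (h.cb _ (H2.isPGroup_pCoreOf 2 Q) x (h.norm_core hx.1.1)
    (odd_orderOf_of_mem (h.se.odd_St2 h.ne) hx.1) fun t ht e =>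
      (mem_cent.1 hx.2 t (h.mc.mem_Av.2 ⟨e, h.QH (H2.pCoreOf_le 2 Q ht)⟩)).symm)

end Bp4

theorem Ns4.exists_bq (h : Ns4 G Ω) {α β : Ω} (hne : α ≠ β) : ∃ Q : Subgroup G, Bq4 α β Q := by
  obtain ⟨T, pT, AT, TC, DT, fx⟩ := h.exists_T hne
  obtain ⟨Q, b, TQ⟩ := h.exists_bp hne pT AT TC DT fun w hw w1 => (fx w hw w1).2
  refine ⟨Q, b, fun x hx x1 => ?_⟩
  obtain ⟨cT, f⟩ := fx x hx x1
  have e1 : Q ⊓ 𝐂[x] ≤ T := fun z hz => by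
    obtain ⟨s, hs, e⟩ := f (z • β) (by
      rw [← mul_smul, mem_cent1.1 hz.2, mul_smul, hx.1.2]) (b.smul_ne (b.QH hz.1))
    exact b.eq_of_smul (TQ hs) hz.1 e ▸ hs
  have e3 := le_inf (H2.pCoreOf_le 2 Q) (b.core_le_cent hx)
  have e4 := le_antisymm (e3.trans e1) (b.le_core pT TQ)
  refine ⟨le_antisymm (e1.trans (b.le_core pT TQ)) e3, e4 ▸ cT.resolve_left fun c => ?_⟩
  exact b.core_ne (e4.trans (H1.eq_of_le_of_card_le AT c.le).symm)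

end Cfsg.Agent.P14
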