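/-
P21, endgame, the first case (port of `P14/E3a`).
-/
import Cfsg.Agent.P21.E2

set_option autoImplicit false
set_option linter.unusedSectionVars false

namespace Cfsg.Agent.P14

open Subgroup Cfsg Cfsg.Agent Cfsg.Agent.FT MulAction
open Cfsg.Agent.P6 hiding FC FR
open scoped commutatorElement

universe u

variable {G Ω : Type u} [Group G] [Finite G] [MulAction G Ω]

/-- The first case. -/
structure FC4 (α β : Ω) (Q : Subgroup G) (y a : G) (p : ℕ) : Prop extends Bq4 α β Q where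
  hp : p.Prime
  ord : orderOf y = p
  yD : y ∈ St2 G α β
  aA : a ∈ Av G α
  a1 : a ≠ 1
  ay : a ∈ 𝐂[y]
  nr : ¬ Rk2 𝐂[y]

namespace FC4

variable {α β : Ω} {Q : Subgroup G} {y a : G} {p : ℕ} (h : FC4 α β Q y a p)
include h

theorem bn : Bp4 α β Q := h.toBp4

theorem mc : Ns4 G Ω := h.bn.mc

theorem cX : 𝐨(zpowers y) = p := by rw [Nat.card_zpowers, h.ord]

theorem prX : 𝐨(zpowers y).Prime := h.cX ▸ h.hp

theorem pX : IsPGroup p (zpowers y) := isPGroup_of_card_prime h.cX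

theorem XD : zpowers y ≤ St2 G α β := zpowers_le.2 h.yD

theorem p2 : p ≠ 2 := h.cX ▸ h.bn.ne_two h.XD

theorem y1 : y ≠ 1 := fun e => h.hp.one_lt.ne (by rw [← h.ord, e, orderOf_one])

theorem ai : Inv a := h.mc.inv h.aA h.a1

theorem card_AC {C : Subgroup G} (h1 : a ∈ C) (h2 : C ≤ 𝐂[y]) :
    𝐨((Av G α ⊓ C : Subgroup G)) = 2 := by
  refine le_antisymm (not_lt.1 fun hl => h.nr ((rk2_of_two_lt (A := Av G α ⊓ C)
    (fun _ hb => h.mc.sq hb.1) hl).mono (inf_le_right.trans h2))) ((one_lt_card_iff_ne_bot _).2 fun e => h.a1 ?_)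
  exact mem_bot.1 (e ▸ (⟨h.aA, h1⟩ : a ∈ Av G α ⊓ C))

theorem AC_eq : Av G α ⊓ 𝐂[y] = zpowers a :=
  (H1.eq_of_le_of_card_le (zpowers_le.2 (mem_inf.2 ⟨h.aA, h.ay⟩))
    (by rw [h.card_AC h.ay le_rfl, h.ai.card_zpowers])).symm

theorem eq_a {b : G} (hb : b ∈ Av G α) (hy : b ∈ 𝐂[y]) : b = 1 ∨ b = a :=
  h.ai.mem_zpowers_iff.1 (h.AC_eq ▸ (⟨hb, hy⟩ : b ∈ Av G α ⊓ 𝐂[y]))

theorem yC : y ∉ 𝐂(Av G α) := fun e => h.nr ((h.mc.rk2_A α).mono (mem_cent_iff_cent1.1 e))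

theorem CX : 𝐂(Av G α) ⊓ zpowers y = ⊥ := by
  rw [inf_comm]
  exact (inf_eq_bot_or_le_of_card_prime h.prX _).resolve_right fun e => h.yC (zpowers_le.1 e)

theorem cardA : 𝐨(Av G α) = 2 ^ p := by
  have := H1.card_inf_mul_relIndex 𝐂(Av G α) (zpowers y)
  rw [h.CX, card_bot, one_mul, h.cX] at this
  rw [(h.mc.gl1 h.ne).card_eq_pow h.XD h.aA h.a1 (zpowers_le.2 (mem_cent1_comm.1 h.ay)), this,
    cent_zpowers, h.card_AC h.ay le_rfl]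

theorem V_eq : St2 G α β ⊓ 𝐂[a] = (St2 G α β ⊓ 𝐂(Av G α)) ⊔ zpowers y ∧
    𝐨((St2 G α β ⊓ 𝐂[a] : Subgroup G)) = 𝐨((St2 G α β ⊓ 𝐂(Av G α) : Subgroup G)) * p := by
  have yV : y ∈ St2 G α β ⊓ 𝐂[a] := ⟨h.yD, mem_cent1_comm.1 h.ay⟩
  have e1 := (h.mc.gl1 h.ne).card_eq_pow inf_le_left h.aA h.a1 inf_le_right
  rw [h.card_AC (mem_cent_iff_cent1.2 inf_le_right) (cent_le_cent1 yV), h.cardA] at e1
  have e2 := H1.card_inf_mul_relIndex 𝐂(Av G α) (St2 G α β ⊓ 𝐂[a])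
  rw [← Nat.pow_right_injective le_rfl e1, inf_comm, inf_assoc,
    inf_eq_right.2 (cent_le_cent1 h.aA)] at e2
  refine ⟨(H1.eq_of_le_of_card_le (sup_le (inf_le_inf_left _ (cent_le_cent1 h.aA))
    (zpowers_le.2 yV)) ?_).symm, e2.symm⟩
  have sd : SdProd (St2 G α β ⊓ 𝐂(Av G α)) (zpowers y) _ := ⟨rfl, h.XD.trans
    (H1.le_normalizer_inf (le_norm_self _) (inf_le_left.trans (h.mc.norm_C α))), by
    rw [inf_assoc, h.CX, inf_bot_eq]⟩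
  rw [sd.card, h.cX, e2]

theorem cardD : 𝐨(St2 G α β) = 𝐨((St2 G α β ⊓ 𝐂(Av G α) : Subgroup G)) * p * (2 ^ p - 1) := by
  rw [← h.V_eq.2, ← h.cardA, ← h.mc.relIndex_D h.ne h.aA h.a1, inf_comm _ 𝐂[a],
    H1.card_inf_mul_relIndex]

theorem DN_le : St2 G α β ⊓ 𝐂[y] ≤ 𝐂[a] := fun d hd => mem_cent1_iff_conj.2
  ((h.eq_a (H1.conj_mem_of_le_normalizer (h.mc.norm_A α) hd.1.1 h.aA)
    (mul_mem (mul_mem hd.2 h.ay) (inv_mem hd.2))).resolve_left (by simpa using h.a1))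

theorem DN_eq : St2 G α β ⊓ 𝐂[y] = (St2 G α β ⊓ 𝐂(Av G α) ⊓ 𝐂[y]) ⊔ zpowers y := by
  rw [← sup_inf_of_le_right (h.XD.trans (H1.le_normalizer_inf (le_norm_self _)
    (inf_le_left.trans (h.mc.norm_C α)))) (zpowers_le.2 (self_mem_cent1 y)), ← h.V_eq.1]
  exact le_antisymm (le_inf (le_inf inf_le_left h.DN_le) inf_le_right)
    (inf_le_inf_right _ inf_le_left)

theorem mem_Fx {γ : Ω} (e : y • γ = γ) : γ ∈ Fx Ω 𝐂[y] := by
  rw [← cent_zpowers]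
  exact h.mc.L1 h.hp h.p2 h.pX h.aA h.a1 (cent_zpowers y ▸ h.ay) (zpowers_le.2 e)

theorem fuse {g : G} (hg : g * y * g⁻¹ ∈ stabilizer G α) :
    ∃ x ∈ stabilizer G α, x * y * x⁻¹ = g * y * g⁻¹ := by
  obtain ⟨n, hn, e⟩ := h.bn.se.exists_smul_Fx (h.mem_Fx h.yD.1) (h.mem_Fx (γ := g⁻¹ • α) (by
    rw [eq_inv_smul_iff, ← mul_smul, ← mul_smul]; exact hg))
  refine ⟨g * n, mem_stabilizer_iff.2 (by rw [mul_smul, e, smul_inv_smul]), ?_⟩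
  conv_rhs => rw [← mem_cent1_iff_conj.1 hn]
  group

theorem not_der : y ∉ ⁅stabilizer G α, stabilizer G α⁆ := fun e => by
  obtain ⟨E, hE, hD, hf, -⟩ := h.bn.exists_F
  obtain ⟨z, hz, w, hw, e⟩ := (mem_sup_of_norm (hE.trans h.bn.sd.norm)).1
    ((h.bn.sd.der_le_sup.trans (sup_le_sup_left hD Q)) e)
  refine h.yC (e ▸ mul_mem (h.le hz) (hf w hw a h.aA h.a1 (mem_cent1.1 ?_).symm))
  rw [eq_inv_mul_of_mul_eq e]
  exact mul_mem (inv_mem (cent_le_cent1 h.aA (h.le hz))) (mem_cent1_comm.1 h.ay)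

theorem conj_eq {g : G} (hg : g * y * g⁻¹ ∈ zpowers y) : g * y * g⁻¹ = y := by
  obtain ⟨x, hx, e⟩ := h.fuse (h.XD hg).1
  have := (inf_eq_bot_or_le_of_card_prime h.prX ⁅stabilizer G α, stabilizer G α⁆).resolve_right
    fun e => h.not_der (zpowers_le.1 e)
  rw [← mul_inv_eq_one, ← mem_bot, ← this]
  exact mem_inf.2 ⟨mul_mem hg (inv_mem (mem_zpowers y)), e ▸ commutator_mem_commutator hx h.yD.1⟩

theorem mem_of_pow {S : Subgroup G} {g : G} {i : ℕ} (hi : ¬ p ∣ i) (hg : g * y ^ i * g⁻¹ ∈ S) :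
    g * y * g⁻¹ ∈ S := by
  rw [← conj_pow] at hg
  refine zpowers_le.2 hg (mem_zpowers_pow_iff.2 ?_)
  rw [← Nat.card_zpowers, zpowers_conj, card_conj, h.cX]
  exact (h.hp.coprime_iff_not_dvd.2 hi).symm

theorem dvd_index {P : Subgroup G} (hy : y ∈ P)
    (hf : ∀ g, g * y * g⁻¹ ∈ P → ∃ x ∈ P, x * y * x⁻¹ = g * y * g⁻¹) (hn : y ∉ ⁅P, P⁆) :
    p ∣ P.index := by
  by_contra hi
  suffices y ^ P.index ∈ ⁅P, P⁆ from
    hn (by simpa using h.mem_of_pow (S := ⁅P, P⁆) (g := 1) hi (by simpa using this))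
  refine pow_index_mem_der h.mc.not_comm hy fun k g hg => ?_
  by_cases hk : p ∣ k
  · exact ⟨1, one_mem _, by simp [orderOf_dvd_iff_pow_eq_one.1 (h.ord ▸ hk)]⟩
  · obtain ⟨x, hx, e⟩ := hf g (h.mem_of_pow hk hg)
    exact ⟨x, hx, by rw [← conj_pow, ← conj_pow, e]⟩

theorem dvd_Q : p ∣ 𝐨(Q) + 1 := h.bn.index_eq ▸ h.dvd_index h.yD.1 (fun _ => h.fuse) h.not_der

theorem not_dvd_Q : ¬ p ∣ 𝐨(Q) := fun e => h.hp.not_dvd_one ((Nat.dvd_add_right e).1 h.dvd_Q)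

theorem dvd_c : p ∣ 𝐨((Q ⊓ 𝐂[y] : Subgroup G)) + 1 := by
  have := ncard_modEq_cent h.hp h.pX (S := Q) fun x hx s hs =>
    H1.conj_mem_of_le_normalizer h.norm (h.XD hx).1 hs
  rw [cent_zpowers] at this
  exact (Nat.modEq_zero_iff_dvd).1 ((this.symm.add_right 1).trans h.dvd_Q.modEq_zero_nat)

theorem card_pow {T : Subgroup G} (hT : T ≤ Q) (hn : stabilizer G α ≤ 𝐍(T)) :
    𝐨(T) = 𝐨((T ⊓ 𝐂[y] : Subgroup G)) ^ p ∧ 2 ^ p - 1 ∣ 𝐨(Q) - 1 := by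
  obtain ⟨u, uy, hu, eu⟩ := h.bn.se.exists_swap_Fx (h.mem_Fx h.yD.1) (h.mem_Fx h.yD.2) h.ne
  obtain ⟨K, hK, cK, hf⟩ := h.bn.exists_K hu eu
  have fr : Frob K (zpowers y) := by
    refine ⟨hf.ne_botR, ne_bot_of_card_prime h.prX, zpowers_le.2 (mem_norm_of_conj_le ?_),
      semiReg_of_card_prime h.prX (eq_bot_iff.2 fun k hk => ?_)⟩
    · rintro _ ⟨k, hk, rfl⟩
      obtain ⟨h1, h2⟩ := (hK k).1 hk
      refine (hK _).2 ⟨mul_mem (mul_mem h.yD h1) (inv_mem h.yD), ?_⟩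
      have c1 := mem_cent1.1 uy
      have c2 := mem_cent1.1 (cent1_inv y ▸ uy)
      calc u * (y * k * y⁻¹) * u = u * y * k * (y⁻¹ * u) := by group
        _ = y * (u * k * u) * y⁻¹ := by rw [← c1, c2]; group
        _ = _ := by rw [h2]; simp [mul_assoc]
    · obtain ⟨h1, h2⟩ := (hK k).1 hk.1
      exact h.bn.se.K_eq_one hu eu h.ne h.ai (h.mc.fix h.aA) h1 h2
        (mem_cent1.1 (h.DN_le ⟨h1, cent_zpowers y ▸ hk.2⟩)).symm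
  refine ⟨?_, by rw [← h.cardA, ← cK]; exact hf.card_dvd⟩
  have KD : K ≤ St2 G α β := fun k hk => ((hK k).1 hk).1
  have := fr.wielandt_fix (KD.trans (inf_le_left.trans hn)) (h.XD.trans (inf_le_left.trans hn)) (by
    rw [fr.sdProd.card, h.cX]
    exact (hf.coprime.mul_right ((h.hp.coprime_iff_not_dvd.2 h.not_dvd_Q).symm)).coprime_dvd_left
      (FT.card_dvd_of_le hT))
    (H1.isSolvable_of_le hT (isSolvable_of_isNilpotent h.bn.nil))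
  rwa [cent_sup, ← inf_assoc, le_bot_iff.1 ((inf_le_inf_right _ hT).trans hf.cent_eq_bot.le),
    bot_inf_eq, card_bot, one_pow, one_mul, mul_one, h.cX, cent_zpowers] at this

theorem cardQ : 𝐨(Q) = 𝐨((Q ⊓ 𝐂[y] : Subgroup G)) ^ p ∧ 2 ^ p - 1 ∣ 𝐨(Q) - 1 :=
  h.card_pow le_rfl h.norm

theorem aQ : a ∈ Q ⊓ 𝐂[y] := ⟨h.Ale h.aA, h.ay⟩

theorem ncard_F : {γ : Ω | y • γ = γ}.ncard = 𝐨((Q ⊓ 𝐂[y] : Subgroup G)) + 1 := by
  have hn : α ∉ {c | ∃ z ∈ Q ⊓ 𝐂[y], z • β = c} := fun ⟨z, hz, e⟩ => h.bn.smul_ne (h.bn.QH hz.1) e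
  rw [← h.bn.ncard_orb inf_le_left, ← Set.ncard_insert_of_notMem hn (finite_orbit _ β)]
  congr 1
  ext γ
  refine ⟨fun e => ?_, ?_⟩
  · by_cases n1 : γ = α
    · exact Or.inl n1
    · exact Or.inr (h.bn.exists_cent h.yD n1 e)
  · rintro (rfl | ⟨z, hz, rfl⟩)
    · exact h.yD.1
    · exact h.bn.fix_of_cent h.XD (cent_zpowers y ▸ hz.2) (mem_zpowers y)

theorem four_le_c : 4 ≤ 𝐨((Q ⊓ 𝐂[y] : Subgroup G)) := by
  have c := (h.card_pow (H2.pCoreOf_le 2 Q) h.bn.norm_core).1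
  obtain ⟨k, hk⟩ := exists_card_eq_pow Nat.prime_two
    ((H2.isPGroup_pCoreOf 2 Q).to_le (inf_le_left : pCoreOf 2 Q ⊓ 𝐂[y] ≤ _))
  have lt := H1.card_lt_of_lt (h.bn.A_le_core.lt_of_ne h.bn.core_ne.symm)
  rw [c, h.cardA, hk] at lt
  refine le_trans ?_ (card_le_of_le (inf_le_inf_right _ (H2.pCoreOf_le 2 Q)))
  rw [hk]
  have := lt_of_pow_lt_pow_left₀ p (by positivity) lt
  exact Nat.pow_le_pow_right two_pos ((Nat.pow_lt_pow_iff_right one_lt_two (n := 1)).1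
    (by rwa [pow_one]) : 1 < k) (n := 2) (i := 2)

theorem two_lt_c : 2 < 𝐨((Q ⊓ 𝐂[y] : Subgroup G)) := lt_of_lt_of_le (by norm_num) h.four_le_c

theorem smul_F {g : G} (hg : g ∈ 𝐂[y]) {γ : Ω} (e : y • γ = γ) : y • g • γ = g • γ := by
  rw [← mul_smul, mem_cent1.1 hg, mul_smul, e]

theorem cardS {x : G} (hx : x ∈ St2 G α β ⊓ 𝐂(Av G α)) (x1 : x ≠ 1) :
    𝐨(pCoreOf 2 Q) = 4 ^ p := by
  rw [(h.wc x hx x1).2.1, h.cardA, ← pow_mul, mul_comm, pow_mul]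
  rfl

theorem not_four {x : G} (hx : x ∈ St2 G α β ⊓ 𝐂(Av G α)) (x1 : x ≠ 1) :
    𝐨((Q ⊓ 𝐂[y] : Subgroup G)) ≠ 4 := fun e => by
  have h1 : Q ⊓ 𝐂[x] = Q := H1.eq_of_le_of_card_le inf_le_left (by
    rw [(h.wc x hx x1).1, h.cardS hx x1, h.cardQ.1, e])
  refine x1 (h.mc.eq_one_of_fix_all fun γ => ?_)
  by_cases n1 : γ = α
  · rw [n1]
    exact hx.1.1
  obtain ⟨z, hz, rfl⟩ := h.tr γ n1
  rw [← mul_smul, mem_cent1.1 (h1.ge hz).2, mul_smul, hx.1.2]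

theorem fix5 {x : G} (hx : x ∈ St2 G α β ⊓ 𝐂(Av G α)) (x1 : x ≠ 1) :
    {γ : Ω | y • γ = γ ∧ x • γ = γ}.ncard = 5 := by
  have c1 : 𝐨((pCoreOf 2 Q ⊓ 𝐂[y] : Subgroup G)) = 4 := by
    have := (h.card_pow (H2.pCoreOf_le 2 Q)
      (h.norm.trans (H2.normalizer_le_normalizer_pCoreOf 2 Q))).1
    rw [h.cardS hx x1] at this
    exact (Nat.pow_left_injective h.hp.ne_zero this).symm
  have hl : pCoreOf 2 Q ⊓ 𝐂[y] ≤ Q := inf_le_left.trans (H2.pCoreOf_le 2 Q)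
  have hn : α ∉ {c | ∃ z ∈ pCoreOf 2 Q ⊓ 𝐂[y], z • β = c} := fun ⟨z, hz, e⟩ =>
    h.bn.smul_ne (h.bn.QH (hl hz)) e
  rw [show 5 = 4 + 1 from rfl, ← c1, ← h.bn.ncard_orb hl,
    ← Set.ncard_insert_of_notMem hn (finite_orbit _ β)]
  congr 1
  ext γ
  refine ⟨fun ⟨e1, e2⟩ => ?_, ?_⟩
  · by_cases n1 : γ = α
    · exact Or.inl n1
    obtain ⟨z, hz, e⟩ := h.bn.exists_cent h.yD n1 e1
    obtain ⟨w, hw, e'⟩ := h.bn.exists_cent hx.1 n1 e2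
    obtain rfl := h.bn.eq_of_smul hz.1 hw.1 (e.trans e'.symm)
    exact Or.inr ⟨z, ⟨(h.wc x hx x1).1 ▸ hw, hz.2⟩, e⟩
  · rintro (rfl | ⟨z, hz, rfl⟩)
    · exact ⟨h.yD.1, hx.1.1⟩
    · refine ⟨h.smul_F hz.2 h.yD.2, ?_⟩
      rw [← mul_smul, mem_cent1.1 ((h.wc x hx x1).1.ge hz.1).2, mul_smul, hx.1.2]

theorem mem_X {r : G} (hr : r ∈ 𝐂[y]) (hf : ∀ γ : Ω, y • γ = γ → r • γ = γ) : r ∈ zpowers y := by
  have h1 : r ∈ St2 G α β ⊓ 𝐂[y] := ⟨⟨hf α h.yD.1, hf β h.yD.2⟩, hr⟩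
  rw [h.DN_eq] at h1
  obtain ⟨x, hx, w, hw, rfl⟩ := (mem_sup_of_norm ((cent_comm.1
    (inf_le_right.trans (cent_zpowers y).ge)).trans (cent_le_norm _))).1 h1
  by_cases x1 : x = 1
  · rwa [x1, one_mul]
  have := h.mc.finite
  have h2 := Set.ncard_le_ncard (s := {γ : Ω | y • γ = γ})
    (t := {γ : Ω | y • γ = γ ∧ x • γ = γ}) (fun γ e => ⟨e, by
    have := hf γ e
    rwa [mul_smul, (zpowers_le (H := stabilizer G γ)).2 e hw] at this⟩) (Set.toFinite _)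
  rw [h.ncard_F, h.fix5 hx.1 x1] at h2
  have := h.four_le_c
  exact (h.not_four hx.1 x1 (by omega)).elim

theorem sol_N : Group.IsSolvable 𝐂[y] := by
  have hz := P1.zstar (G := 𝐂[y]) (t := ⟨a, h.ay⟩) (by
    rw [← orderOf_coe]; exact h.ai.orderOf_eq) fun g e => by
      by_contra n1
      exact h.nr ⟨a, h.ay, _, (g * ⟨a, h.ay⟩ * g⁻¹).2, h.ai, h.ai.conj g,
        fun e' => n1 (Subtype.ext e'.symm), congrArg Subtype.val e⟩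
  have sH : Group.IsSolvable (stabilizer G α) := by
    rw [← h.bn.sd.sup, sup_comm]
    exact H2.isSolvable_sup_of_le_normalizer h.bn.sd.norm
      (feit_thompson _ (h.bn.se.odd_St2 h.ne)) (isSolvable_of_isNilpotent h.bn.nil)
  have hn : 𝐂[y] ⊓ stabilizer G α ≤ 𝐍(H7.SC.od 𝐂[y]) := inf_le_left.trans (H7.SC.le_norm_od _)
  refine H1.isSolvable_of_le (A := 𝐂[y] ⊓ stabilizer G α ⊔ H7.SC.od 𝐂[y]) (fun g hg => ?_)
    (H2.isSolvable_sup_of_le_normalizer hn (H1.isSolvable_of_le inf_le_right sH)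
      (feit_thompson _ (Nat.coprime_two_right.1 (H7.SC.od_cop _))))
  have h1 : a * (g * a * g⁻¹) ∈ H7.SC.od 𝐂[y] := ⟨_, hz ⟨g, hg⟩, by
    change a * g * a⁻¹ * g⁻¹ = _
    rw [h.ai.inv_eq]
    group⟩
  obtain ⟨v, hv, e⟩ := exists_conj_of_odd h.ai (h.ai.conj g)
    (odd_orderOf_of_mem (Nat.coprime_two_right.1 (H7.SC.od_cop _)) h1)
  have hv' := zpowers_le.2 h1 hv
  rw [← mul_inv_cancel_left v g]
  refine mul_mem (mem_sup_right hv') (mem_sup_left (mem_inf.2 ⟨mul_mem (inv_mem (H7.SC.od_le _ hv')) hg,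
    h.bn.se.cent1_le h.ai (h.mc.fix h.aA) (mem_cent1_iff_conj.2 ?_)⟩))
  calc _ = v⁻¹ * (g * a * g⁻¹) * v := by group
    _ = _ := by rw [← e]; group

end FC4

/-- The regular normal subgroup of `C(y) / ⟨y⟩`. -/
structure FR4 (α β : Ω) (Q : Subgroup G) (y a : G) (p : ℕ) (R : Subgroup G) (m : ℕ) : Prop
    extends FC4 α β Q y a p where
  yR : y ∈ R
  nR : R ⊲ 𝐂[y]
  der : ⁅R, R⁆ ≤ zpowers y
  pw : ∀ s ∈ R, s ^ p ∈ zpowers y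
  RH : R ⊓ stabilizer G α = zpowers y
  trR : ∀ γ : Ω, y • γ = γ → ∃ s ∈ R, s • α = γ
  m0 : 0 < m
  cm : 𝐨((Q ⊓ 𝐂[y] : Subgroup G)) + 1 = p ^ m
  cR : 𝐨(R) = p ^ (m + 1)

theorem FC4.exists_fr {α β : Ω} {Q : Subgroup G} {y a : G} {p : ℕ} (h : FC4 α β Q y a p) :
    ∃ R m, FR4 α β Q y a p R m := by
  have XN : zpowers y ≤ 𝐂[y] := zpowers_le.2 (self_mem_cent1 y)
  obtain ⟨R, -, hR⟩ := exists_chief_above (V := zpowers y) (H := 𝐂[y])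
    ((cent_zpowers y).ge.trans (cent_le_norm _)) ⟨le_rfl, le_norm_self _⟩
    (lt_of_le_of_ne XN fun e => h.ai.not_mem_of_odd (odd_of_le h.XD (h.bn.se.odd_St2 h.ne))
      (e ▸ h.ay))
  obtain ⟨s, hs, der, pw, m, m0, cm⟩ := chief_elem h.sol_N hR
  have tr : ∀ γ : Ω, y • γ = γ → ∃ s ∈ R, s • α = γ := by
    have : ∃ r ∈ R, r • α ≠ α := by
      by_contra! hn
      refine hR.lt.not_ge fun r hr => h.mem_X (hR.le hr) fun γ e => ?_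
      obtain ⟨n, hn', rfl⟩ := h.bn.se.exists_smul_Fx (h.mem_Fx h.yD.1) (h.mem_Fx e)
      exact le_stab_smul (hR.normU hn') hn hr
    obtain ⟨r, hr, n1⟩ := this
    obtain ⟨z, hz, e1⟩ := h.bn.exists_cent h.yD n1 (h.smul_F (hR.le hr) h.yD.1)
    intro γ e
    by_cases n2 : γ = α
    · exact ⟨1, one_mem _, by rw [n2, one_smul]⟩
    obtain ⟨w, hw, rfl⟩ := h.bn.exists_cent h.yD n2 e
    have hv := mul_mem hw (inv_mem hz)
    refine ⟨_, H1.conj_mem_of_le_normalizer hR.normU hv.2 hr, ?_⟩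
    rw [mul_smul, mul_smul, inv_mem (h.bn.QH hv.1), ← e1, mul_smul, inv_smul_smul]
  have RH : R ⊓ stabilizer G α = zpowers y := by
    refine le_antisymm (fun r hr => h.mem_X (hR.le hr.1) fun γ e => ?_)
      (le_inf hR.lt.le (h.XD.trans inf_le_left))
    obtain ⟨t, ht, rfl⟩ := tr γ e
    have := (h.XD (der (commutator_mem_commutator (inv_mem ht) hr.1))).1
    rw [← mul_smul, show r * t = t * (⁅t⁻¹, r⁆ * r) by group, mul_smul, mul_smul, hr.2, this]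
  have cF : 𝐨((Q ⊓ 𝐂[y] : Subgroup G)) + 1 = s ^ m := by
    rw [← cm, ← RH, inf_relIndex_left, ← ncard_orbit, ← h.ncard_F]
    congr 1
    ext γ
    refine ⟨tr γ, ?_⟩
    rintro ⟨r, hr, rfl⟩
    exact h.smul_F (hR.le hr) h.yD.1
  obtain rfl : p = s := (Nat.prime_dvd_prime_iff_eq h.hp hs).1
    (h.hp.dvd_of_dvd_pow (cF ▸ h.dvd_c))
  exact ⟨R, m, h, zpowers_le.1 hR.lt.le, ⟨hR.le, hR.normU⟩, der, pw, RH, tr, m0, cF, by
    rw [← H1.card_mul_relIndex hR.lt.le, cm, h.cX, pow_succ']⟩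

end Cfsg.Agent.P14
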