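/-
P21, endgame: assembly (port of `P14/E5`).
-/
import Cfsg.Agent.P21.E3
import Cfsg.Agent.P21.E4

set_option autoImplicit false
set_option linter.unusedSectionVars false

namespace Cfsg.Agent.P14

open Subgroup Cfsg Cfsg.Agent Cfsg.Agent.FT MulAction
open Cfsg.Agent.P6
open scoped commutatorElement

universe u

variable {G Ω : Type u} [Group G] [Finite G] [MulAction G Ω]

theorem exists_prime_new {c r : ℕ} (hc : 2 ≤ c) (ev : 2 ∣ c) (hr : r.Prime) :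
    ∃ l : ℕ, l.Prime ∧ l ∣ c ^ r - 1 ∧ ¬ l ∣ c - 1 := by
  by_contra hn
  push Not at hn
  obtain ⟨d, rfl⟩ : ∃ d, c = d + 1 := ⟨c - 1, by omega⟩
  obtain ⟨s, rfl⟩ : ∃ s, r = s + 1 := ⟨r - 1, by have := hr.pos; omega⟩
  have s1 : 1 ≤ s := by have := hr.two_le; omega
  have b : ∀ k, 1 + k * d ≤ (d + 1) ^ k := fun k => by
    induction k with
    | zero => simp
    | succ k ih => rw [pow_succ]; nlinarith [Nat.zero_le (k * d * d)]
  have lt : d * (s + 1) + 1 < (d + 1) ^ (s + 1) := by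
    have := b s
    have h1 : 1 ≤ d := by omega
    have : 1 ≤ s * d * d := Nat.mul_pos (Nat.mul_pos s1 h1) h1
    rw [pow_succ]
    nlinarith
  have dv : (d + 1) ^ (s + 1) - 1 ∣ d * (s + 1) := by
    rw [← Nat.factorization_prime_le_iff_dvd (by omega) (Nat.mul_ne_zero (by omega) (by omega))]
    intro l hl
    by_cases h1 : l ∣ (d + 1) ^ (s + 1) - 1
    · have := Fact.mk hl
      have h2 := hn l hl h1
      have l2 : l ≠ 2 := by rintro rfl; omega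
      have := padicValNat.pow_sub_pow (hl.odd_of_ne_two l2) (x := d + 1) (y := 1) (by omega) h2
        (fun e => hl.not_dvd_one ((Nat.dvd_add_right (by simpa using h2)).1 e)) (n := s + 1)
        (by omega)
      rw [one_pow, Nat.add_sub_cancel] at this
      rw [Nat.factorization_def _ hl, Nat.factorization_def _ hl, this,
        padicValNat.mul (by omega) (by omega)]
    · rw [Nat.factorization_eq_zero_of_not_dvd h1]
      exact Nat.zero_le _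
  have := Nat.le_of_dvd (Nat.mul_pos (by omega) (by omega)) dv
  omega

namespace Bp4

variable {α β : Ω} {Q : Subgroup G} (h : Bp4 α β Q)
include h

theorem mem_Fx {y a : G} (hy : y ∈ St2 G α β) (hp : (orderOf y).Prime) (ha : a ∈ Av G α)
    (a1 : a ≠ 1) (hc : a ∈ 𝐂[y]) {γ : Ω} (e : y • γ = γ) : γ ∈ Fx Ω 𝐂[y] := by
  rw [← cent_zpowers] at hc ⊢
  exact h.mc.L1 hp (Nat.card_zpowers y ▸ h.ne_two (zpowers_le.2 hy))
    (isPGroup_of_card_prime (Nat.card_zpowers y)) ha a1 hc (zpowers_le.2 e)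

theorem QC_two {y a : G} (hy : y ∈ St2 G α β) (hp : (orderOf y).Prime) (ha : a ∈ Av G α)
    (a1 : a ≠ 1) (hc : a ∈ 𝐂[y]) (hk : Rk2 𝐂[y]) : IsPGroup 2 (Q ⊓ 𝐂[y] : Subgroup G) ∧ ∃ e : ℕ,
      (e = 1 ∨ e = 2 ∧ ∃ n, Odd n ∧ 𝐨((Av G α ⊓ 𝐂[y] : Subgroup G)) = 2 ^ n) ∧
      𝐨((Q ⊓ 𝐂[y] : Subgroup G)) = 𝐨((Av G α ⊓ 𝐂[y] : Subgroup G)) ^ e := by
  have fa := h.mem_Fx hy hp ha a1 hc hy.1
  have fb := h.mem_Fx hy hp ha a1 hc hy.2
  obtain ⟨e0, he, c0, ⟨T, hT, pT, tr⟩, -⟩ := h.mc.bt _ (cent_zpowers y ▸ h.mc.cent_ne_top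
    (ne_bot_of_card_prime (Nat.card_zpowers y ▸ hp)) (zpowers_le.2 hy.1)) hk α fa β fb h.ne.symm
  have TQ := h.two_le pT (hT.trans inf_le_right)
  refine ⟨pT.to_le fun z hz => ?_, e0, he, ?_⟩
  · obtain ⟨s, hs, e⟩ := tr _ (smul_mem_Fx' hz.2 fb) (h.smul_ne (h.QH hz.1))
    exact h.eq_of_smul (TQ hs) hz.1 e ▸ hs
  rw [← h.ncard_orb inf_le_left, ← Nat.add_right_cancel_iff (n := 1), ← c0,
    ← Set.ncard_sdiff_singleton_add_one fa (h.se.finite_Fx _)]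
  congr 2
  ext γ
  refine ⟨?_, fun hγ => ?_⟩
  · rintro ⟨z, hz, rfl⟩
    exact ⟨smul_mem_Fx' hz.2 fb, h.smul_ne (h.QH hz.1)⟩
  · obtain ⟨s, hs, e⟩ := tr γ hγ.1 hγ.2
    exact ⟨s, ⟨TQ hs, (hT hs).1⟩, e⟩

theorem card_core {y a : G} (hy : y ∈ St2 G α β) (hp : (orderOf y).Prime) (ha : a ∈ Av G α)
    (a1 : a ≠ 1) (hc : a ∈ 𝐂[y]) (hk : Rk2 𝐂[y]) (yC : y ∉ 𝐂(Av G α)) :
    𝐨(pCoreOf 2 Q) = 𝐨(Av G α) ^ 2 ∧ ∃ n, Odd n ∧ 𝐨(Av G α) = 2 ^ n := by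
  obtain ⟨p2, e0, he, cq⟩ := h.QC_two hy hp ha a1 hc hk
  have prX : 𝐨(zpowers y).Prime := Nat.card_zpowers y ▸ hp
  have XD := zpowers_le.2 hy
  have cA : 𝐨(Av G α) = 𝐨((Av G α ⊓ 𝐂[y] : Subgroup G)) ^ 𝐨(zpowers y) := by
    have := H1.card_inf_mul_relIndex 𝐂(Av G α) (zpowers y)
    rw [inf_comm, (inf_eq_bot_or_le_of_card_prime prX _).resolve_right fun e =>
      yC (zpowers_le.1 e), card_bot, one_mul] at this
    rw [(h.mc.gl1 h.ne).card_eq_pow XD ha a1 (zpowers_le.2 (mem_cent1_comm.1 hc)), this,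
      cent_zpowers]
  obtain ⟨u, uy, hu, eu⟩ := h.se.exists_swap_Fx (h.mem_Fx hy hp ha a1 hc hy.1)
    (h.mem_Fx hy hp ha a1 hc hy.2) h.ne
  obtain ⟨K, hK, cK, hf⟩ := h.exists_K hu eu
  obtain ⟨F, -, -, -, cm⟩ := h.exists_F
  have ev : 2 ∣ 𝐨((Av G α ⊓ 𝐂[y] : Subgroup G)) := by
    rw [← (h.mc.inv ha a1).card_zpowers]
    exact FT.card_dvd_of_le (zpowers_le.2 ⟨ha, hc⟩)
  obtain ⟨l, hl, hd, ho⟩ := exists_prime_new (Nat.le_of_dvd Nat.card_pos ev) ev prX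
  obtain ⟨P, hP⟩ := exists_isSyl hl K
  have KD : K ≤ St2 G α β := fun k hk => ((hK k).1 hk).1
  have yK : y ∈ 𝐍(K) := mem_norm_of_conj_le (by
    rintro _ ⟨k, hk, rfl⟩
    obtain ⟨h1, h2⟩ := (hK k).1 hk
    refine (hK _).2 ⟨mul_mem (mul_mem hy h1) (inv_mem hy), ?_⟩
    have c1 := mem_cent1.1 uy
    have c2 := mem_cent1.1 (cent1_inv y ▸ uy)
    calc u * (y * k * y⁻¹) * u = u * y * k * (y⁻¹ * u) := by group
      _ = y * (u * k * u) * y⁻¹ := by rw [← c1, c2]; group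
      _ = _ := by rw [h2]; simp [mul_assoc])
  have cK' : IsMulCommutative K := ⟨⟨fun x y => Subtype.ext (cm u hu eu x ((hK x).1 x.2).1
    ((hK x).1 x.2).2 y ((hK y).1 y.2).1 ((hK y).1 y.2).2)⟩⟩
  have P1 : P ≠ ⊥ := hP.ne_bot hl (by rw [cK, cA]; exact hd)
  have fr : Frob P (zpowers y) := by
    refine ⟨P1, ne_bot_of_card_prime prX, zpowers_le.2
      (hP.norm_le_of_isNilpotent hl (L.isNilpotent_of_isMulCommutative K) yK),
      semiReg_of_card_prime prX (eq_bot_iff.2 fun k hk => ?_)⟩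
    by_contra k1
    obtain ⟨b, hb, bk⟩ := exists_cent_of_not_dvd hl (hP.pgrp.to_le (zpowers_le.2 hk.1))
      (S := sharp (Av G α ⊓ 𝐂[y])) (fun x hx s hs => ⟨H1.conj_mem_of_le_normalizer
        (zpowers_le.2 (inf_normalizer_le_normalizer_inf ⟨h.mc.norm_A α (KD (hP.le hk.1)).1,
          le_norm_self _ (cent_zpowers y ▸ hk.2)⟩)) hx hs.1, by simpa using hs.2⟩)
      (by rwa [ncard_sharp])
    exact hb.2 (semiReg_iff.1 hf.reg k (hP.le hk.1) k1 b (h.Ale hb.1.1)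
      (mem_cent.1 bk k (mem_zpowers k)))
  have pS := H2.isPGroup_pCoreOf 2 Q
  have SQ := H2.pCoreOf_le 2 Q
  have nS := inf_le_left.trans h.norm_core (a := St2 G α β)
  have := fr.wielandt_fix ((hP.le.trans KD).trans nS) (XD.trans nS) (by
    obtain ⟨k, hk⟩ := exists_card_eq_pow Nat.prime_two pS
    rw [hk]
    exact (Nat.coprime_two_left.2 (odd_of_le (sup_le (hP.le.trans KD) XD)
      (h.se.odd_St2 h.ne))).pow_left k)
    (isSolvable_of_isNilpotent (isNilpotent_of_isPGroup Nat.prime_two pS))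
  rw [cent_sup, ← inf_assoc, (hf.reg.mono SQ le_rfl).cent_eq_bot hP.le P1, bot_inf_eq, card_bot,
    one_pow, one_mul, mul_one, cent_zpowers, show pCoreOf 2 Q ⊓ 𝐂[y] = Q ⊓ 𝐂[y] from
      le_antisymm (inf_le_inf_right _ SQ) (le_inf (h.le_core p2 inf_le_left) inf_le_right), cq,
    ← pow_mul, mul_comm, pow_mul, ← cA] at this
  rcases he with rfl | ⟨rfl, n, hn, e⟩
  · exact (h.core_ne (H1.eq_of_le_of_card_le h.A_le_core (this.trans (pow_one _)).le).symm).elim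
  · exact ⟨this, n * 𝐨(zpowers y), hn.mul (prX.odd_of_ne_two (h.ne_two XD)), by
      rw [cA, e, pow_mul]⟩

end Bp4

/-- The endgame of chapter C. -/
theorem Ns4.ztg (h : Ns4 G Ω) : ZTG G := by
  have := h.two
  obtain ⟨α, β, hne⟩ := exists_pair_ne Ω
  obtain ⟨Q, b⟩ := h.exists_bq hne
  refine b.toBp4.zt fun X hX hp a ha a1 hc => ?_
  obtain ⟨y, hy, y1⟩ := (bot_or_exists_ne_one X).resolve_left (ne_bot_of_card_prime hp)
  obtain ⟨x, hx, px⟩ := exists_prime_pow_mem y1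
  have xX : x ∈ X := zpowers_le.2 hy hx
  have ax : a ∈ 𝐂[x] := cent_le_cent1 xX hc
  have x1 : x ≠ 1 := fun e => px.one_lt.ne' (by rw [e, orderOf_one])
  have cS : 𝐨(pCoreOf 2 Q) = 𝐨(Av G α) ^ 2 ∧ ∃ n, Odd n ∧ 𝐨(Av G α) = 2 ^ n := by
    by_cases xC : x ∈ 𝐂(Av G α)
    · exact (b.wc x ⟨hX xX, xC⟩ x1).2
    · exact b.toBp4.card_core (hX xX) px ha a1 ax (b.rk2 (hX xX) px ha a1 ax) xC
  refine x1 (mem_bot.1 (b.toBp4.V_eq_bot cS.1 cS.2 (fun d hd d1 => ?_) ha a1 ▸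
    ⟨hX xX, mem_cent1_comm.1 ax⟩))
  obtain ⟨w, hw, pw⟩ := exists_prime_pow_mem d1
  have wD : w ∈ St2 G α β := zpowers_le.2 hd hw
  have le : H7.SC.od Q ⊓ 𝐂[d] ≤ Q ⊓ 𝐂[w] := inf_le_inf (Od_normal Q).1
    ((cent_zpowers d).ge.trans (cent_le_cent1 hw))
  by_cases hn : ∀ a ∈ Av G α, a ≠ 1 → a ∉ 𝐂(zpowers w)
  · rw [eq_bot_iff, ← b.toBp4.QC_eq_bot pw (Nat.card_zpowers w ▸ b.toBp4.ne_two (zpowers_le.2 wD))
      (isPGroup_of_card_prime (Nat.card_zpowers w)) (zpowers_le.2 wD) hn, cent_zpowers]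
    exact le
  push Not at hn
  obtain ⟨c, hc, c1, cw⟩ := hn
  rw [cent_zpowers] at cw
  exact eq_bot_iff.2 fun z hz => eq_one_of_two_odd (b.toBp4.QC_two wD pw hc c1 cw
    (b.rk2 wD pw hc c1 cw)).1 (odd_Od Q) (le hz) hz.1

end Cfsg.Agent.P14
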