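/-
P21, chapter C: from step (D) to the endgame.
-/
import Cfsg.Agent.P21.D0
import Cfsg.Agent.P21.DK
import Cfsg.Agent.P21.E5

set_option autoImplicit false
set_option linter.unusedSectionVars false

namespace Cfsg.Agent.P14.C

open Subgroup Cfsg Cfsg.Agent Cfsg.Agent.FT MulAction
open Cfsg.Agent.P6 (St2 Od Inv)

universe u

variable {G : Type u} [Group G] [Finite G] [ICl G] {Ω : Type u} [MulAction G Ω]

namespace Md

variable {𝒜 : Set G} (h : Md 𝒜 Ω) (all : ∀ t : G, Inv t → In t)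
include all

omit h in
theorem Fx_eq_of_all (N : Subgroup G) : P6.Fx Ω N = Fx Ω N := by
  ext γ
  exact ⟨fun ⟨a, h1, h2, h3⟩ => ⟨a, h1, all a h2, h3⟩, fun ⟨a, h1, h2, h3⟩ => ⟨a, h1, h2, h3⟩⟩

omit h in
theorem Av_eq_of_all (α : Ω) : P6.Av G α = Ac G α := by
  unfold P6.Av Ac
  congr 1
  ext a
  exact ⟨fun ha => ⟨all a ha.1, ha.2⟩, fun ha => ⟨ha.1, ha.2⟩⟩

include h

theorem ns4_of_all (odd : ∀ α : Ω, Odd (𝐂(Ac G α).relIndex (stabilizer G α)))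
    (nab : ∃ P : Subgroup G, IsPGroup 2 P ∧ ¬ IsMulCommutative P) : Ns4 G Ω where
  uniq ha := h.uniq (all _ ha)
  ex ha := h.ex (all _ ha)
  simple := h.amb.sim
  two := h.two
  comm a b α ha hb := h.comm a b α (all _ ha) (all _ hb)
  four α := Av_eq_of_all all α ▸ le_trans (by decide) (h.eight α)
  L1 {r} hr h2 {X} hX {α a} ha a1 hc {δ} hδ := by
    rw [Av_eq_of_all all] at ha
    exact Fx_eq_of_all (Ω := Ω) all _ ▸ h.l1 r hr h2 X hX ⟨α, a, hc, h.inn ha a1, h.fix ha⟩ δ hδ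
  L2 {r} hr h2 {X} hX {δ ε ζ} hδ hε hζ n1 n2 n3 := by
    obtain ⟨a, hc, ia, e⟩ := h.l1 r hr h2 X hX (Set.nonempty_iff_ne_empty.2 fun e =>
      n3 (h.l2 all r hr h2 X hX e δ ε ζ hδ hε hζ n1 n2)) δ hδ
    exact ⟨a, Av_eq_of_all all δ ▸ h.mem ia e, ia.ne, hc⟩
  odd α := Av_eq_of_all all α ▸ odd α
  cb P hP x hx ho hc := h.ga.odd P hP x hx ho fun a ha aP =>
    mem_cent1.2 (hc a aP (h.ga.inv a ha).sq).symm
  nab := nab
  bt N hN hk γ hγ δ hδ hne := by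
    obtain ⟨a, ha, b, hb, ia, ib, hk⟩ := hk
    rw [Fx_eq_of_all all] at hγ hδ ⊢
    rw [Av_eq_of_all all]
    obtain ⟨L, n, e, bt⟩ := h.toPin0.ih N hN ⟨a, ha, b, hb, all a ia, all b ib, hk⟩
      ⟨δ, hδ, γ, hγ, hne⟩
    obtain ⟨T, t⟩ := bt.pt γ hγ
    have c := h.card_inf bt hγ
    exact ⟨e, bt.ty.imp And.left fun k => ⟨k.1, n, k.2.1, c⟩, c ▸ bt.card,
      ⟨T, le_inf (t.syl.le.trans bt.normal.1) t.le, t.syl.pgrp, fun ε hε k => t.tr δ hδ hne ε hε k⟩,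
      L, fun t ht it => bt.mem t ht (all t it), fun x hx ε hε ζ hζ η hη n1 n2 n3 e1 e2 e3 θ hθ =>
        bt.od_fix h.se hθ (bt.fix3 x hx ε hε ζ hζ η hη n1 n2 n3 e1 e2 e3)⟩

theorem kn_of_all (odd : ∀ α : Ω, Odd (𝐂(Ac G α).relIndex (stabilizer G α))) : P21.Kn G := by
  by_cases nab : ∃ P : Subgroup G, IsPGroup 2 P ∧ ¬ IsMulCommutative P
  · exact P21.kn_of_ztg (h.ns4_of_all all odd nab).ztg
  · exact Or.inl fun P hP => by_contra fun k => nab ⟨P, hP, k⟩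

end Md

end Cfsg.Agent.P14.C
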