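/-
P21, chapter C, step (D): the odd core of a point stabilizer is trivial in the Suzuki case.
-/
import Cfsg.Agent.P21.D0
import Cfsg.Agent.H9.FixCount
import Cfsg.Agent.H2.Four1

set_option autoImplicit false
set_option linter.unusedSectionVars false

namespace Cfsg.Agent.P14.C

open Subgroup Cfsg Cfsg.Agent Cfsg.Agent.FT MulAction
open Cfsg.Agent.P6 (St2 Od Inv)

universe u

theorem do_arith {n s j x : ℕ} (hn : Odd n) (n3 : 3 ≤ n) (hs : s.Prime) (s2 : s ≠ 2) (j0 : j ≠ 0)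
    (hx : x + 1 = ((2 ^ n) ^ 2 + 1) * (1 + (2 ^ n - 1) * (2 ^ n) ^ 2)) (h1 : s ^ j ∣ x)
    (h2 : 2 ^ n - 1 ∣ s ^ j - 1) : False := by
  obtain ⟨m, hm, m0⟩ : ∃ m, 2 ^ n = 3 * m + 2 ∧ 0 < m := by
    obtain ⟨k, rfl⟩ := hn
    have a1 : 2 ^ (2 * k + 1) % 3 = 2 := by rw [pow_succ, pow_mul, Nat.mul_mod, Nat.pow_mod]; simp
    have a2 := Nat.pow_le_pow_right two_pos n3
    clear hx h2
    generalize 2 ^ (2 * k + 1) = q at a1 a2
    exact ⟨q / 3, by omega, by omega⟩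
  have e : x = (2 ^ n) ^ 3 * ((3 * m + 1) * (3 * m + 2) + 1) := by
    rw [hm, show 3 * m + 2 - 1 = 3 * m + 1 from rfl] at hx
    rw [hm]
    exact Nat.add_right_cancel (hx.trans (by ring))
  obtain ⟨d, hd⟩ := (((Nat.coprime_primes hs Nat.prime_two).2 s2).pow j (n * 3)).dvd_of_dvd_mul_left
    (by rwa [e, ← pow_mul] at h1)
  rw [hm, show 3 * m + 2 - 1 = 3 * m + 1 from rfl] at h2
  obtain ⟨c, hc⟩ := h2
  have a1 : 1 < s ^ j := Nat.one_lt_pow j0 hs.one_lt
  have a2 : s ^ j = (3 * m + 1) * c + 1 := by omega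
  have c0 : 0 < c := Nat.pos_of_ne_zero fun k => by rw [k] at a2; omega
  have d0 : 0 < d := Nat.pos_of_ne_zero fun k => by rw [k] at hd; omega
  have a3 : 3 * m + 1 ∣ d - 1 := (Nat.dvd_add_right (dvd_mul_right (3 * m + 1) (c * d))).1
    ⟨3 * m + 2, by
      rw [a2, add_mul ((3 * m + 1) * c), one_mul, mul_assoc (3 * m + 1) c] at hd
      omega⟩
  have d1 : d = 1 := by
    by_contra k
    have b1 := Nat.le_of_dvd (by omega) a3
    have b2 : 3 * m + 2 ≤ s ^ j := by rw [a2]; nlinarith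
    have b3 := Nat.mul_le_mul b2 (show 3 * m + 2 ≤ d by omega)
    nlinarith
  rw [d1, mul_one] at hd
  obtain rfl : 3 = s := (Nat.prime_dvd_prime_iff_eq Nat.prime_three hs).1
    (Nat.prime_three.dvd_of_dvd_pow (n := j) ⟨3 * m * m + 3 * m + 1, by rw [← hd]; ring⟩)
  rcases j with _ | _ | j
  · exact j0 rfl
  · rw [zero_add, pow_one] at hd
    nlinarith
  · have : 9 * (m * m + m) + 3 = 9 * 3 ^ j := by
      calc _ = (3 * m + 1) * (3 * m + 2) + 1 := by ring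
        _ = _ := by rw [hd]; ring
    omega

variable {G : Type u} [Group G] [Finite G] [ICl G] {Ω : Type u} [MulAction G Ω] {𝒜 : Set G}

theorem Md.od_bot (h : Md 𝒜 Ω) {α β : Ω} (hne : α ≠ β) {n : ℕ} (hn : Odd n) (n3 : 3 ≤ n)
    (cΩ : Nat.card Ω = ((2 ^ n) ^ 2 + 1) * (1 + (2 ^ n - 1) * (2 ^ n) ^ 2)) {E : Subgroup G}
    (hE : E ≤ St2 G α β)
    (orb : ∀ γ, γ ≠ α → γ ≠ β → 2 ^ n - 1 ∣ (stabilizer G γ).relIndex E) :
    Od (stabilizer G α) = ⊥ := by
  by_contra h0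
  have := h.finite
  obtain ⟨s, hs, M0⟩ := H2.Four.ex_pCore (feit_thompson _ (P6.odd_Od (stabilizer G α))) h0
  have hW := P6.Od_normal (stabilizer G α)
  have pM := H2.isPGroup_pCoreOf s (Od (stabilizer G α))
  have MW := H2.pCoreOf_le s (Od (stabilizer G α))
  have nM := hW.2.trans (H2.normalizer_le_normalizer_pCoreOf s (Od (stabilizer G α)))
  generalize pCoreOf s (Od (stabilizer G α)) = M at M0 pM MW nM
  have MH := MW.trans hW.1
  have s2 : s ≠ 2 := fun k => Nat.not_even_iff_odd.2 (P6.odd_of_le MW (P6.odd_Od _))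
    (even_iff_two_dvd.2 (k ▸ prime_dvd_card_of_isPGroup hs pM M0))
  obtain ⟨i, hi⟩ := exists_card_eq_pow hs pM
  obtain ⟨j, -, hj⟩ := (Nat.dvd_prime_pow hs).1 (hi ▸ relIndex_dvd_card' (stabilizer G β) M)
  refine do_arith (j := j) hn n3 hs s2 (fun j0 => M0 (eq_bot_iff.2 fun x hx =>
    h.toPin0.eq_one_of_fix fun γ => ?_)) ((h.relIndex_stab hne).trans cΩ) ?_ ?_
  · by_cases e : α = γ
    · exact e ▸ MH hx
    obtain ⟨g, hg, rfl⟩ := h.tr2 α β γ hne e
    exact P6.le_stab_smul (nM hg) (relIndex_eq_one.1 (by rw [hj, j0, pow_zero])) hx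
  · have e : (stabilizer G β).relIndex M = (St2 G α β).relIndex M := by
      rw [← inf_relIndex_right, ← inf_relIndex_right (St2 G α β), St2,
        inf_comm (stabilizer G α), inf_assoc, inf_eq_right.2 MH]
    rw [← hj, e, ← H2.relIndex_sup_left_of_le_normalizer (inf_le_left.trans nM),
      ← relIndex_mul_relIndex _ _ _ le_sup_left (sup_le inf_le_left MH)]
    exact dvd_mul_right _ _
  · rw [← hj, ← P6.ncard_orbit, ← Set.ncard_sdiff_singleton_of_mem
      (show β ∈ {c | ∃ y ∈ M, y • β = c} from ⟨1, one_mem M, one_smul G β⟩)]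
    refine H9.dvd_ncard_of_invariant' E _ ?_ ?_
    · rintro g hg _ ⟨⟨y, hy, rfl⟩, k⟩
      refine ⟨⟨_, cjm (nM (hE hg).1) hy, ?_⟩, fun e => k (smul_left_cancel g
        ((e : g • y • β = β).trans ((hE hg).2 : g • β = β).symm))⟩
      rw [mul_smul, mul_smul, inv_smul_eq_iff.2 ((hE hg).2 : g • β = β).symm]
    · rintro _ ⟨⟨y, hy, rfl⟩, k⟩
      exact orb _ (fun e => hne (smul_left_cancel y ((MH hy : y • α = α).trans e.symm))) k

end Cfsg.Agent.P14.C
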