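/-
P21, chapter ODD: interface.  `M` plays the part of `H / O(H)`, `R = C(A)`.
-/
import Cfsg.Agent.P21.CI

set_option autoImplicit false
set_option linter.unusedSectionVars false

namespace Cfsg.Agent.P21

open Subgroup Cfsg Cfsg.Agent Cfsg.Agent.FT

universe u

/-- `A` consists of all involutions and `1`, `K` is abelian and regular on `A^#`. -/
structure Ox {M : Type u} [Group M] (𝒜 : Set M) (A K : Subgroup M) : Prop where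
  ci : CI M 𝒜
  mem : ∀ x, x ∈ A ↔ x * x = 1
  cls : ∀ a ∈ A, a ≠ 1 → a ∈ 𝒜
  two : IsPGroup 2 𝐂(A)
  comm : K ≤ 𝐂(K)
  tr : ∀ a ∈ A, a ≠ 1 → ∀ b ∈ A, b ≠ 1 → ∃ k ∈ K, k * a * k⁻¹ = b
  reg : ∀ k ∈ K, ∀ a ∈ A, a ≠ 1 → k * a = a * k → k = 1
  four : 4 ≤ 𝐨(A)

/-- Squares in `A`. -/
def O1Stmt : Prop := ∀ (M : Type u) [Group M] [Finite M] (𝒜 : Set M) (A K : Subgroup M),
  Ox 𝒜 A K → ∀ y : M, y * y ∈ A → y ∈ 𝐂(A)

/-- `R > A`: the squaring map is a bijection `R / A → A`. -/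
def O2Stmt : Prop := ∀ (M : Type u) [Group M] [Finite M] (𝒜 : Set M) (A K : Subgroup M),
  Ox 𝒜 A K → ¬ 𝐂(A) ≤ A → ∀ t : M, t * t ∈ 𝐂(A) → t ∉ 𝐂(A) → ¬ 𝐂(A) ≤ 𝐂(𝐂(A)) ∧
  (∀ x ∈ 𝐂(A), x * x ∈ A) ∧ ∀ x ∈ 𝐂(A), ∀ y ∈ 𝐂(A), x * x = y * y → x⁻¹ * y ∈ A

/-- The end. -/
def O3Stmt : Prop := ∀ (M : Type u) [Group M] [Finite M] (𝒜 : Set M) (A K : Subgroup M),
  Ox 𝒜 A K → ¬ 𝐂(A) ≤ 𝐂(𝐂(A)) → (∀ x ∈ 𝐂(A), x * x ∈ A) →
  (∀ x ∈ 𝐂(A), ∀ y ∈ 𝐂(A), x * x = y * y → x⁻¹ * y ∈ A) → ∀ t : M, t * t ∈ 𝐂(A) → t ∈ 𝐂(A)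

/-- The theorem. -/
def OddStmt : Prop := ∀ (M : Type u) [Group M] [Finite M] (𝒜 : Set M) (A K : Subgroup M),
  Ox 𝒜 A K → Odd 𝐂(A).index

theorem Ox.normal {M : Type u} [Group M] {𝒜 : Set M} {A K : Subgroup M} (h : Ox 𝒜 A K) :
    A.Normal := ⟨fun a ha g => (h.mem _).2 (by rw [conj_mul, (h.mem a).1 ha]; group)⟩

theorem Ox.sq {M : Type u} [Group M] {𝒜 : Set M} {A K : Subgroup M} (h : Ox 𝒜 A K) {a : M}
    (ha : a ∈ A) : a * a = 1 := (h.mem a).1 ha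

theorem Ox.cc {M : Type u} [Group M] {𝒜 : Set M} {A K : Subgroup M} (h : Ox 𝒜 A K) :
    A ≤ 𝐂(A) := fun _ ha _ hb => L.commute_of_sq_eq_one (fun _ e => h.sq e) hb ha

theorem Ox.exists_ne {M : Type u} [Group M] [Finite M] {𝒜 : Set M} {A K : Subgroup M}
    (h : Ox 𝒜 A K) : ∃ a ∈ A, a ≠ 1 := (bot_or_exists_ne_one A).resolve_left fun e => by
  have := h.four
  rw [e, card_bot] at this
  omega

theorem Ox.odd {M : Type u} [Group M] [Finite M] {𝒜 : Set M} {A K : Subgroup M}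
    (h : Ox 𝒜 A K) : Odd 𝐨(K) := Nat.not_even_iff_odd.1 fun e => by
  obtain ⟨k, hk, ho⟩ := exists_mem_orderOf_eq_prime Nat.prime_two (even_iff_two_dvd.1 e)
  obtain ⟨a, ha, a1⟩ := h.exists_ne
  have := h.reg k hk a ha a1 (h.cc ha k ((h.mem k).2 (by rw [← pow_two, ← ho, pow_orderOf_eq_one])))
  rw [this, orderOf_one] at ho
  omega

theorem odd_of (h1 : O1Stmt.{u}) (h2 : O2Stmt.{u}) (h3 : O3Stmt.{u}) : OddStmt.{u} := by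
  intro M _ _ 𝒜 A K h
  have key : ∀ t : M, t * t ∈ 𝐂(A) → t ∈ 𝐂(A) := fun t ht => by
    by_cases e : 𝐂(A) ≤ A
    · exact h1 M 𝒜 A K h t (e ht)
    by_contra ht'
    obtain ⟨a, b, c⟩ := h2 M 𝒜 A K h e t ht ht'
    exact ht' (h3 M 𝒜 A K h a b c t ht)
  have := h.normal
  refine Nat.not_even_iff_odd.1 fun k => ?_
  have : Fact (Nat.Prime 2) := ⟨Nat.prime_two⟩
  obtain ⟨x, hx⟩ := exists_prime_orderOf_dvd_card' (G := M ⧸ 𝐂(A)) 2 (even_iff_two_dvd.1 k)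
  obtain ⟨t, rfl⟩ := QuotientGroup.mk_surjective x
  have e := pow_orderOf_eq_one (t : M ⧸ 𝐂(A))
  rw [hx, pow_two, ← QuotientGroup.mk_mul, QuotientGroup.eq_one_iff] at e
  rw [(QuotientGroup.eq_one_iff t).2 (key t e), orderOf_one] at hx
  omega

end Cfsg.Agent.P21
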