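/-
P21, chapter ODD: the application to a point stabilizer.
-/
import Cfsg.Agent.P21.ODefs
import Cfsg.Agent.P21.D0
import Cfsg.Agent.P6.End2

set_option autoImplicit false
set_option linter.unusedSectionVars false

open Subgroup Cfsg Cfsg.Agent Cfsg.Agent.FT MulAction
open scoped commutatorElement

universe u

namespace Cfsg.Agent.P21.OW

open Cfsg.Agent.P6 (Inv Od Qt pr)
open Cfsg.Agent.P7 (br)

variable {G : Type u} [Group G] [Finite G]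

theorem odd_rel (O : OddStmt.{u}) {𝒜 : Set G} (ci : CI G 𝒜) {H A K : Subgroup G} (hA : A ≤ H)
    (mem : ∀ x ∈ H, x ∈ A ↔ x * x = 1) (cls : ∀ a ∈ A, a ≠ 1 → a ∈ 𝒜) (hK : K ≤ H)
    (comm : K ≤ 𝐂(K)) (tr : ∀ a ∈ A, a ≠ 1 → ∀ b ∈ A, b ≠ 1 → ∃ k ∈ K, k * a * k⁻¹ = b)
    (reg : ∀ k ∈ K, ∀ a ∈ A, a ≠ 1 → k * a = a * k → k = 1) (four : 4 ≤ 𝐨(A)) :
    Odd (𝐂(A).relIndex H) := by
  have sq : ∀ a ∈ A, a * a = 1 := fun a ha => (mem a (hA ha)).1 ha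
  have pg : IsPGroup 2 A := fun a => ⟨1, Subtype.ext (by simpa [pow_two] using sq a a.2)⟩
  have nA : H ≤ 𝐍(A) := fun g hg => mem_norm_of_conj_le (by
    rintro _ ⟨a, ha, rfl⟩
    exact (mem _ (mul_mem (mul_mem hg (hA ha)) (inv_mem hg))).2 (by
      show g * a * g⁻¹ * (g * a * g⁻¹) = 1
      rw [conj_mul, sq a ha]; group))
  have one : ∀ a ∈ A, a ∈ Od H → a = 1 := fun a ha ho =>
    P7.eq_one_of_two_odd pg (P6.odd_Od _) ha ho
  have oc : Od H ≤ 𝐂(A) := by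
    rw [← commutator_eq_bot_iff_le_centralizer]
    exact eq_bot_iff.2 fun x hx => one x (comm_le_right_iff.2 ((P7.Od_le _).trans nA) hx)
      (comm_le_left_iff.2 (hA.trans (P7.le_norm_Od _)) hx)
  have npc : HasNPC 2 (H ⊓ 𝐂(A)) := npc_of_odd fun P hC hP σ hσ ho =>
    ci.ga.odd P hP σ hσ.2 ho fun a ha aP => cent_le_cent1
      ((mem a (hC aP).1).2 (ci.ga.inv a ha).sq) hσ.1.2
  have oo : Od (H ⊓ 𝐂(A)) ≤ Od H := P6.le_Od ⟨(P7.Od_le _).trans inf_le_left,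
    (H1.le_normalizer_inf (le_norm_self H) (nA.trans P14.norm_cent)).trans
      (P6.norm_le_norm_Od _)⟩ (P6.odd_Od _)
  have bc := P7.br_cent hA pg
  have ne : ∀ a (ha : a ∈ A), pr H ⟨a, hA ha⟩ ≠ 1 → a ≠ 1 := fun a ha h1 e =>
    h1 (P6.pr_eq_one.2 (by rw [show ((⟨a, hA ha⟩ : H) : G) = 1 from e]; exact one_mem _))
  have key : Ox (ab 𝒜 H) (br H A) (br H K) := by
    refine ⟨ci.qt H, fun x => ⟨?_, fun e => ?_⟩, ?_, ?_, ?_, ?_, ?_, ?_⟩
    · rintro ⟨⟨a, aH⟩, ha, rfl⟩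
      rw [← map_mul, show (⟨a, aH⟩ * ⟨a, aH⟩ : H) = 1 from Subtype.ext (sq a ha), map_one]
    · by_cases x1 : x = 1
      · exact x1 ▸ one_mem _
      obtain ⟨a, aH, ia, rfl⟩ := P6.exists_inv_lift ⟨x1, e⟩
      exact H1.qmk_mem_bar ((mem a aH).2 ia.sq)
    · rintro _ ⟨⟨a, _⟩, ha, rfl⟩ h1
      exact ⟨_, cls a ha (ne a ha h1), rfl⟩
    · obtain ⟨T, hT⟩ := exists_isSyl Nat.prime_two (H ⊓ 𝐂(A))
      rw [bc, ← (npc.sdProd Nat.prime_two hT).sup]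
      refine (H1.isPGroup_bar hT.pgrp).to_le ?_
      rw [← H1.bar_sup_self (P7.Od_le H) (hT.le.trans inf_le_left)]
      exact H1.bar_mono (sup_le (oo.trans le_sup_right) le_sup_left)
    · exact (H1.bar_le_centralizer_iff hK hK).2
        ((commutator_eq_bot_iff_le_centralizer.2 comm).le.trans bot_le)
    · rintro _ ⟨⟨a, _⟩, ha, rfl⟩ a1 _ ⟨⟨b, _⟩, hb, rfl⟩ b1
      obtain ⟨k, hk, e⟩ := tr a ha (ne a ha a1) b hb (ne b hb b1)
      refine ⟨_, H1.qmk_mem_bar (y := ⟨k, hK hk⟩) hk, ?_⟩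
      rw [← map_inv, ← map_mul, ← map_mul]
      exact congrArg _ (Subtype.ext e)
    · rintro _ ⟨⟨k, _⟩, hk, rfl⟩ _ ⟨⟨a, _⟩, ha, rfl⟩ a1 e
      have := one _ (P14.cmr (nA (hK hk)) ha) ((P6.pr_comm_iff (hK hk) (hA ha)).1 e)
      exact P6.pr_eq_one.2 (by
        rw [show ((⟨k, hK hk⟩ : H) : G) = 1 from
          reg k hk a ha (ne a ha a1) (commutatorElement_eq_one_iff_mul_comm.1 this)]
        exact one_mem _)
    · rwa [br, card_bar_of_disj hA (eq_bot_iff.2 fun x hx => one x hx.2 hx.1)]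
  have := O _ _ _ _ key
  rwa [bc, ← relIndex_top_right, ← H1.bar_top, br, H1.relIndex_bar (P7.Od_le H) inf_le_left le_rfl,
    sup_eq_left.2 (le_inf (P7.Od_le H) oc), sup_eq_left.2 (P7.Od_le H), inf_relIndex_left] at this

end Cfsg.Agent.P21.OW

namespace Cfsg.Agent.P14.C.Md

open Cfsg.Agent.P6 (St2 Od Inv)

variable {G : Type u} [Group G] [Finite G] [ICl G] {Ω : Type u} [MulAction G Ω] {𝒜 : Set G}
  (h : Md 𝒜 Ω) (all : ∀ t : G, Inv t → In t)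
include h all

theorem odd_St2 {α β : Ω} (hne : α ≠ β) : Odd 𝐨(St2 G α β) := Nat.not_even_iff_odd.1 fun e => by
  obtain ⟨t, ht, ho⟩ := exists_mem_orderOf_eq_prime Nat.prime_two (even_iff_two_dvd.1 e)
  exact hne (h.uniq (all t ⟨fun e => by simp [e] at ho, by
    rw [← pow_two, ← ho, pow_orderOf_eq_one]⟩) ht.1 ht.2)

theorem W_cent {α β : Ω} (hne : α ≠ β) {u : G} (hu : In u) (eu : u • α = β) :
    St2 G α β ⊓ 𝐂(Ac G α) ≤ 𝐂[u] := by
  refine le_of_forall_isSyl_le fun r hr X hX => ?_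
  by_cases X1 : X = ⊥
  · exact X1 ▸ bot_le
  have r2 : r ≠ 2 := by
    rintro rfl
    exact (Nat.not_even_iff_odd.2 (P6.odd_of_le (hX.le.trans inf_le_left) (h.odd_St2 all hne)))
      (even_iff_two_dvd.2 (prime_dvd_card_of_isPGroup hr hX.pgrp X1))
  have hA : Ac G α ≤ 𝐂(X) := cent_comm.1 (hX.le.trans inf_le_right)
  obtain ⟨a, ha, a1⟩ := h.exists_A α
  have ia := h.inn ha a1
  obtain ⟨v, hv, vi, ev⟩ := h.se.exists_swap_Fx (h.mem_Fx hA) (h.l1 r hr r2 X hX.pgrp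
    ⟨α, h.mem_Fx hA⟩ β (hX.le.trans (inf_le_left.trans inf_le_right))) hne
  have hB : Ac G β ≤ 𝐂(X) := by
    rw [← ev, h.A_smul]; exact conj_le_of_mem hA hv
  have hb : u * a * u ∈ Ac G β := h.mem (ia.conj_inv hu) (by
    rw [mul_smul, mul_smul, hu.smul_eq eu, h.fix ha, eu])
  obtain ⟨v', vi', e1, e2, e3⟩ := h.se.exists_swap ia (ia.conj_inv hu) (h.fix ha) (h.fix hb) hne
  rw [← h.se.swap_unique ia (h.fix ha) hne vi' e2 hu eu e1]
  exact mem_cent_iff_cent1.1 (e3 _ (hA ha) (hB hb))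

/-- The elements of `D` inverted by `u` commute. -/
theorem K_comm {α β : Ω} (hne : α ≠ β) {u : G} (hu : In u) (eu : u • α = β) {k l : G}
    (hk : k ∈ St2 G α β) (e : u * k * u = k⁻¹) (hl : l ∈ St2 G α β) (e' : u * l * u = l⁻¹) :
    k * l = l * k := by
  have od := h.odd_St2 all hne
  obtain ⟨a, ha, a1⟩ := h.exists_A α
  have g : P6.GL1 (Ac G α) (St2 G α β) := ⟨h.elem α, fun e => a1 (mem_bot.1 (e ▸ ha)),
    inf_le_left.trans (h.norm_A α), od, fun _ ha a1 _ hb b1 =>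
      h.toPin0.exists_conj_D (h.inn ha a1) (h.inn hb b1) (h.fix ha) (h.fix hb) hne⟩
  obtain ⟨F, hn, hW, hc, -, hs, hm, -⟩ := g.exists_F
  have nW : St2 G α β ≤ 𝐍(St2 G α β ⊓ 𝐂(Ac G α)) :=
    H1.le_normalizer_inf (le_norm_self _) (inf_le_left.trans (h.norm_C α))
  have key : ∀ Y : Subgroup G, Y ≤ 𝐍(F) → Y ≤ 𝐍(St2 G α β ⊓ 𝐂(Ac G α)) →
      ∀ d ∈ ⁅Y, Y⁆, d ∈ St2 G α β → d ∈ F := fun Y h1 h2 d hd hD =>
    hs d hD fun f hf => (P6.der_cycMod hc hW (hn.1.trans nW) h1 h2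
      (commutator_mem_commutator hd hf)).2
  have uD := J_mem_norm hu eu
  have uW : u ∈ 𝐍(St2 G α β ⊓ 𝐂(Ac G α)) :=
    cent_le_norm _ (mem_cent_iff_cent1.2 (h.W_cent all hne hu eu))
  have uF : u ∈ 𝐍(F) := mem_norm_of_conj_le (hm _ ⟨conj_le_of_mem_norm hn.1 uD, by
      rw [← conj_eq_of_mem_norm uD]; exact conj_le_norm_iff.2 hn.2⟩ (by
    rw [← conj_comm]
    exact (conj_le_of_mem_norm (hc.der_le (hn.1.trans nW) hW) uW).trans inf_le_right))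
  have mem : ∀ k ∈ St2 G α β, u * k * u = k⁻¹ → k ∈ F ⊓ 𝐂(St2 G α β ⊓ 𝐂(Ac G α)) := by
    intro k hk e
    refine ⟨?_, ?_⟩
    · refine P6.mem_of_sq_mem (P6.odd_orderOf_of_mem od hk) ?_
      refine key (St2 G α β ⊔ zpowers u) (sup_le hn.2 (zpowers_le.2 uF))
        (sup_le nW (zpowers_le.2 uW)) _ ?_ (mul_mem hk hk)
      have := commutator_mem_commutator (mem_sup_left hk : k ∈ St2 G α β ⊔ zpowers u)
        (mem_sup_right (mem_zpowers u) : u ∈ St2 G α β ⊔ zpowers u)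
      rwa [commutatorElement_def, hu.inv_eq, ← e, show k * u * (u * k * u) * u = k * k by
        simp [mul_assoc, hu.mul_cancel_left, hu.sq]] at this
    · obtain ⟨i1, i2⟩ := SE.inv_mul_K hu eu hk (P6.odd_orderOf_of_mem od hk) e
      rw [← hu.mul_cancel_left k]
      exact mul_mem (mem_cent_iff_cent1.2 (h.W_cent all hne hu eu))
        (mem_cent_iff_cent1.2 (h.W_cent all hne i1 i2))
  exact P6.comm_of_cycMod hc hW (hn.1.trans nW) (mem k hk e) (mem l hl e')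

theorem odd (O : P21.OddStmt.{u}) (α : Ω) : Odd (𝐂(Ac G α).relIndex (stabilizer G α)) := by
  have := h.two
  obtain ⟨β, hne⟩ := exists_ne α
  replace hne := hne.symm
  obtain ⟨u, hu, eu⟩ := h.toPin0.exists_J hne
  have hc := fun k l => h.K_comm all hne hu eu (k := k) (l := l)
  let K : Subgroup G :=
    { carrier := {k | k ∈ St2 G α β ∧ u * k * u = k⁻¹}
      mul_mem' := fun {k l} hk hl => ⟨mul_mem hk.1 hl.1, by
        rw [hc k l hk.1 hk.2 hl.1 hl.2, mul_inv_rev, ← hk.2, ← hl.2, hc l k hl.1 hl.2 hk.1 hk.2]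
        simp [mul_assoc, hu.mul_cancel_left]⟩
      one_mem' := ⟨one_mem _, by simp [hu.sq]⟩
      inv_mem' := fun {k} hk => ⟨inv_mem hk.1, by
        rw [inv_inv, ← hk.2]; simp [mul_assoc, hu.mul_cancel_left, hu.sq]⟩ }
  refine P21.OW.odd_rel O h.ci (K := K) (h.A_le α) (fun x hx => ⟨h.sq, fun e => ?_⟩)
    (fun a ha a1 => h.sub a (h.inn ha a1)) (fun k hk => hk.1.1)
    (fun k hk => mem_cent.2 fun l hl => hc l k hl.1 hl.2 hk.1 hk.2) (fun a ha a1 b hb b1 => ?_)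
    (fun k hk a ha a1 e => h.se.K_eq_one hu eu hne (h.inn ha a1) (h.fix ha) hk.1
      (P6.odd_orderOf_of_mem (h.odd_St2 all hne) hk.1) hk.2 e) ((by norm_num : 4 ≤ 8).trans (h.eight α))
  · by_cases x1 : x = 1
    · exact x1 ▸ one_mem _
    · exact h.mem (all x ⟨x1, e⟩) hx
  · obtain ⟨k, hk, -, e1, e2, -⟩ := h.se.exists_K hu eu hne (h.inn ha a1) (h.inn hb b1) (h.fix ha)
      (h.fix hb)
    exact ⟨k, ⟨hk, e1⟩, e2⟩

end Cfsg.Agent.P14.C.Md
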