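/-
P21, chapter ODD: the structure of `R = C(A)` when `R > A`.
-/
import Cfsg.Agent.P21.ODefs
import Cfsg.Agent.P2.TwoGroup

set_option autoImplicit false
set_option linter.unusedSectionVars false
set_option linter.style.haveILetI false

namespace Cfsg.Agent.P21

open Subgroup Cfsg Cfsg.Agent Cfsg.Agent.FT Cfsg.Agent.P14
open scoped commutatorElement

universe u

namespace O2

variable {M : Type u} [Group M] [Finite M] {𝒜 : Set M} {A K : Subgroup M}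

theorem fix_of_odd {y r : M} (ho : Odd (orderOf y)) (two : Two (r⁻¹ * (y * r * y⁻¹)))
    (c : Commute (y * y) (r⁻¹ * (y * r * y⁻¹))) : r⁻¹ * (y * r * y⁻¹) = 1 := by
  have c1 : Commute y (r⁻¹ * (y * r * y⁻¹)) := by
    obtain ⟨m, hm⟩ := ho
    have e : y = (y * y) ^ (m + 1) := by
      rw [← pow_two, ← pow_mul, show 2 * (m + 1) = orderOf y + 1 by omega, pow_succ,
        pow_orderOf_eq_one, one_mul]
    have := c.pow_left (m + 1)
    rwa [← e] at this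
  have h1 := cj_pow' (x := r) (by group) c1 (orderOf y)
  rw [pow_orderOf_eq_one, one_mul, inv_one, mul_one, left_eq_mul] at h1
  obtain ⟨k, hk⟩ := two
  exact eq_one_of hk (ho.of_dvd_nat (orderOf_dvd_of_pow_eq_one h1))

variable (h : Ox 𝒜 A K)
include h

theorem nR : 𝐂(A).Normal := by
  haveI := h.normal
  infer_instance

theorem le_of_two {P : Subgroup M} [P.Normal] (hP : IsPGroup 2 P) : P ≤ 𝐂(A) := by
  haveI := h.normal
  haveI : Fact (Nat.Prime 2) := ⟨Nat.prime_two⟩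
  have hA : IsPGroup 2 A := h.two.to_le h.cc
  have h1 : IsPGroup 2 ↥(P ⊔ A) := hP.to_sup_of_normal_right hA
  obtain ⟨a, ha, a1⟩ := h.exists_ne
  have h2 := inf_center_ne_bot (N := A) (K := P ⊔ A) h1.isNilpotent
    ⟨le_sup_right, by rw [normalizer_eq_top]; exact le_top⟩ fun e => a1 (mem_bot.1 (e ▸ ha))
  obtain ⟨b, hb, b1⟩ := (bot_or_exists_ne_one _).resolve_left h2
  intro x hx s hs
  by_cases s1 : s = 1
  · rw [s1, one_mul, mul_one]
  obtain ⟨k, -, rfl⟩ := h.tr b hb.1 b1 s hs s1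
  have := hb.2 _ (mem_sup_left (Normal.conj_mem' ‹_› x hx k))
  calc k * b * k⁻¹ * x = k * (b * (k⁻¹ * x * k)) * k⁻¹ := by group
    _ = _ := by rw [← this]; group

theorem exists_inv {t : M} (ht : t * t ∈ 𝐂(A)) (ht' : t ∉ 𝐂(A)) :
    ∃ s y : M, s * s ∈ 𝐂(A) ∧ Odd (orderOf y) ∧ y ∉ 𝐂(A) ∧ s * y * s⁻¹ = y⁻¹ := by
  haveI := nR h
  have hk : IsPGroup 2 (QuotientGroup.mk' 𝐂(A)).ker := by rw [QuotientGroup.ker_mk']; exact h.two
  obtain ⟨x, xp, x2, e, -⟩ := L.exists_inverted_of_not_mem_pCore (t := (t : M ⧸ 𝐂(A)))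
    (by rw [← QuotientGroup.mk_mul, QuotientGroup.eq_one_iff]; exact ht)
    fun e => ht' (le_of_two h ((L.isPGroup_pCore 2).comap_of_ker_isPGroup _ hk) e)
  obtain ⟨y0, rfl⟩ := QuotientGroup.mk_surjective x
  obtain ⟨n, hn⟩ := exists_odd_pow y0
  have xo := xp.odd_of_ne_two x2
  have h1 : y0 ^ 2 ^ n ∉ 𝐂(A) := fun e => by
    have := eq_one_of (x := (y0 : M ⧸ 𝐂(A))) (k := n)
      (by rw [← QuotientGroup.mk_pow, QuotientGroup.eq_one_iff]; exact e) xo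
    rw [this, orderOf_one] at xp
    exact Nat.not_prime_one xp
  have h2 : ((t * y0 ^ 2 ^ n * t⁻¹ : M) : M ⧸ 𝐂(A)) = ((y0 ^ 2 ^ n)⁻¹ : M) := by
    rw [QuotientGroup.mk_mul, QuotientGroup.mk_mul, QuotientGroup.mk_inv, QuotientGroup.mk_inv,
      QuotientGroup.mk_pow, ← conj_pow, e, inv_pow]
  have h3 : (y0 ^ 2 ^ n) ^ orderOf (y0 : M ⧸ 𝐂(A)) = 1 := by
    refine P6.eq_one_of_odd_of_mem h.two ?_ (hn.of_dvd_nat (orderOf_pow_dvd _))
    rw [← QuotientGroup.eq_one_iff, QuotientGroup.mk_pow, QuotientGroup.mk_pow, ← pow_mul,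
      mul_comm, pow_mul, pow_orderOf_eq_one, one_pow]
  generalize y0 ^ 2 ^ n = y at hn h1 h2 h3
  generalize orderOf (y0 : M ⧸ 𝐂(A)) = p at xp h3 xo
  haveI := Fact.mk xp
  have hm : ∀ g, g ∈ 𝐂(A) ⊔ zpowers y ↔ (g : M ⧸ 𝐂(A)) ∈ zpowers (y : M ⧸ 𝐂(A)) := fun g => by
    conv_lhs => rw [sup_comm, ← QuotientGroup.ker_mk' 𝐂(A), ← comap_map_eq, mem_comap,
      MonoidHom.map_zpowers]
    rfl
  obtain ⟨g, hg, hN⟩ := H1.frattini_argument (p := p) (G := 𝐂(A) ⊔ zpowers y) (P := zpowers y)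
    le_sup_right (H2.isPGroup_zpowers_of_pow_eq_one (k := 1) (by rwa [pow_one]))
    (fun hd => by
      have := hd.trans (BG13.relIndex_dvd_card_of_sup (T := 𝐂(A)) (N := zpowers y)
        (by rw [normalizer_eq_top]; exact le_top) rfl)
      obtain ⟨k, hk⟩ := exists_card_eq_pow Nat.prime_two h.two
      rw [hk] at this
      exact xo.not_two_dvd_nat
        (((Nat.prime_dvd_prime_iff_eq xp Nat.prime_two).1 (xp.dvd_of_dvd_pow this)) ▸ dvd_rfl))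
    (x := t) (mem_norm_of_conj_le fun x hx => by
      obtain ⟨z, hz, rfl⟩ := mem_conj'.1 hx
      obtain ⟨m, hz⟩ := (hm z).1 hz
      refine (hm _).2 ⟨-m, ?_⟩
      simp only [QuotientGroup.mk_mul, QuotientGroup.mk_inv] at h2 hz ⊢
      rw [← hz, ← conj_zpow, h2, inv_zpow, zpow_neg])
  rw [sup_comm] at hg
  obtain ⟨a, ha, r, hr, rfl⟩ := (H1.mem_sup_iff_of_le_normalizer
    (by rw [normalizer_eq_top]; exact le_top)).1 hg
  have h4 : r * t ∈ 𝐍(zpowers y) := by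
    simpa [mul_assoc] using mul_mem (inv_mem (le_normalizer ha)) hN
  have r1 := (QuotientGroup.eq_one_iff r).2 hr
  refine ⟨r * t, y, ?_, hn, h1, mul_eq_one_iff_eq_inv.1 (P7.eq_one_of_two_odd h.two
    (U := zpowers y) (by rwa [Nat.card_zpowers]) ?_
    (mul_mem (cjm h4 (mem_zpowers y)) (mem_zpowers y)))⟩
  · rw [← QuotientGroup.eq_one_iff] at ht ⊢
    simpa [r1] using ht
  · rw [← QuotientGroup.eq_one_iff]
    simp only [QuotientGroup.mk_mul, QuotientGroup.mk_inv, r1, one_mul] at h2 ⊢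
    rw [h2, inv_mul_cancel]

theorem lift {t r y : M} (ht : t * t ∈ 𝐂(A)) (hr : r ∈ 𝐂(A)) (c1 : Commute r (t * t))
    (c2 : Commute y (t * t)) :
    t⁻¹ * (r⁻¹ * (y * r * y⁻¹) * t * (r⁻¹ * (y * r * y⁻¹))⁻¹) ∈ A := by
  haveI := nR h
  have hw := mul_mem (inv_mem hr) (Normal.conj_mem ‹_› r hr y)
  have hP : IsPGroup 2 ↥(zpowers t ⊔ 𝐂(A)) := by
    obtain ⟨k, hk⟩ := pow_two_pow h.two ht
    exact (two_zp (k := k + 1) (by rwa [pow_succ', pow_mul, pow_two])).to_sup_of_normal_right h.two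
  have ht1 : t ∈ zpowers t ⊔ 𝐂(A) := mem_sup_left (mem_zpowers t)
  have ht2 := mul_mem (mul_mem (mem_sup_right hw) ht1) (inv_mem (mem_sup_right hw))
  obtain ⟨H, _, _, f, hf, hc, hp, hI, -⟩ := h.ci
  obtain ⟨t, rfl⟩ := hf t
  obtain ⟨r, rfl⟩ := hf r
  obtain ⟨y, rfl⟩ := hf y
  have z : ∀ x : H, Commute (f x) (f t * f t) → ∃ z, (∀ g, g * z = z * g) ∧
      x * (t * t) * x⁻¹ = z * (t * t) := fun x e => ⟨x * (t * t) * x⁻¹ * (t * t)⁻¹,
    mem_center_iff.1 (hc (by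
      rw [MonoidHom.mem_ker]
      simp only [map_mul, map_inv]
      rw [e.eq]; group)), by group⟩
  obtain ⟨z1, d1, e1⟩ := z r c1
  obtain ⟨z2, d2, e2⟩ := z y c2
  have e3 : y⁻¹ * (t * t) * y = z2⁻¹ * (t * t) := by
    calc _ = z2⁻¹ * ((z2 * y⁻¹) * (t * t) * y) := by group
      _ = z2⁻¹ * (y⁻¹ * (z2 * (t * t)) * y) := by rw [← d2]; group
      _ = _ := by rw [← e2]; group
  have e4 : r⁻¹ * (y * r * y⁻¹) * (t * t) * (r⁻¹ * (y * r * y⁻¹))⁻¹ = t * t := by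
    calc _ = r⁻¹ * y * (r * (y⁻¹ * (t * t) * y) * r⁻¹) * y⁻¹ * r := by group
      _ = r⁻¹ * y * ((r * z2⁻¹) * (t * t) * r⁻¹) * y⁻¹ * r := by rw [e3]; group
      _ = r⁻¹ * y * (z2⁻¹ * (r * (t * t) * r⁻¹)) * y⁻¹ * r := by
        rw [(Commute.inv_right (d2 r)).eq]; group
      _ = r⁻¹ * (y * z2⁻¹ * z1 * y⁻¹) * (y * (t * t) * y⁻¹) * r := by rw [e1]; group
      _ = r⁻¹ * (z2⁻¹ * z1 * z2) * (t * t) * r := by
        rw [e2, (Commute.inv_right (d2 y)).eq, mul_assoc z2⁻¹ y, d1 y]; group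
      _ = r⁻¹ * (z1 * (t * t)) * r := by rw [mul_assoc z2⁻¹, d2 z1]; group
      _ = _ := by rw [← e1]; group
  have := hI.sq (hP.comap_of_ker_isPGroup f hp) (x := t)
    (y := r⁻¹ * (y * r * y⁻¹) * t * (r⁻¹ * (y * r * y⁻¹))⁻¹) ht1
    (by simpa only [mem_comap, map_mul, map_inv] using ht2) (by rw [conj_mul, e4])
  refine (h.mem _).2 ?_
  simpa only [map_mul, map_inv, map_one] using congrArg f this

/-- An element of odd order whose square fixes `r⁻¹ r^y` modulo `A` fixes `r` modulo `A`. -/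
theorem fix_mod {r y : M} (hr : r ∈ 𝐂(A)) (ho : Odd (orderOf y))
    (e : ⁅y * y, r⁻¹ * (y * r * y⁻¹)⁆ ∈ A) : r⁻¹ * (y * r * y⁻¹) ∈ A := by
  haveI := nR h
  haveI := h.normal
  have hw := mul_mem (inv_mem hr) (Normal.conj_mem ‹_› r hr y)
  rw [← QuotientGroup.eq_one_iff] at e ⊢
  refine fix_of_odd (y := (y : M ⧸ A)) (r := (r : M ⧸ A))
    (ho.of_dvd_nat (orderOf_map_dvd (QuotientGroup.mk' A) y))
    ((Two.of_mem h.two hw).map (QuotientGroup.mk' A)) (commutatorElement_eq_one_iff_commute.1 e)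

theorem fix_X {t r y : M} (ht : t * t ∈ 𝐂(A)) (ho : Odd (orderOf y)) (e : t * y * t⁻¹ = y⁻¹)
    (hr : r ∈ 𝐂(A)) (c1 : Commute r (t * t)) : r⁻¹ * (y * r * y⁻¹) ∈ A := by
  haveI := nR h
  haveI := h.normal
  have c2 : Commute y (t * t) := by
    have : t * t * y * (t * t)⁻¹ = y := by
      calc _ = t * (t * y * t⁻¹) * t⁻¹ := by group
        _ = (t * y * t⁻¹)⁻¹ := by conv_lhs => rw [e]
                                  group
        _ = _ := by rw [e, inv_inv]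
    exact (mul_inv_eq_iff_eq_mul.1 this).symm
  have h1 := lift h ht hr c1 c2
  have h2 := lift h ht (Normal.conj_mem ‹_› r hr y) ((c2.mul_left c1).mul_left c2.inv_left) c2
  refine fix_mod h hr ho ?_
  rw [show (y * r * y⁻¹)⁻¹ * (y * (y * r * y⁻¹) * y⁻¹) = y * (r⁻¹ * (y * r * y⁻¹)) * y⁻¹ by group]
    at h2
  generalize r⁻¹ * (y * r * y⁻¹) = w at h1 h2
  rw [← QuotientGroup.eq_one_iff] at h1 h2 ⊢
  have e' := congrArg (fun x : M => (x : M ⧸ A)) e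
  simp only [QuotientGroup.mk_mul, QuotientGroup.mk_inv, commutatorElement_def] at h1 h2 e' ⊢
  generalize (t : M ⧸ A) = t at h1 h2 e'
  generalize (y : M ⧸ A) = y at h2 e'
  generalize (w : M ⧸ A) = w at h1 h2
  have d1 : Commute w t := mul_inv_eq_iff_eq_mul.1 (inv_mul_eq_one.1 h1).symm
  have d2 : Commute (y * w * y⁻¹) t := mul_inv_eq_iff_eq_mul.1 (inv_mul_eq_one.1 h2).symm
  have d3 : Commute w (y⁻¹ * t * y) := by
    calc w * (y⁻¹ * t * y) = y⁻¹ * (y * w * y⁻¹ * t) * y := by group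
      _ = _ := by rw [d2.eq]; group
  have d4 : y * y = t⁻¹ * (y⁻¹ * t * y) := by rw [← e']; group
  rw [d4, ← (d1.inv_right.mul_right d3).eq]
  group

theorem not_fix (hR : ¬ 𝐂(A) ≤ A) {y : M} (hy : y ∉ 𝐂(A)) :
    ¬ ∀ r ∈ 𝐂(A), r⁻¹ * (y * r * y⁻¹) ∈ A := fun e => hy fun a ha => by
  haveI := nR h
  obtain ⟨r, hr, r1, r2⟩ : ∃ r ∈ 𝐂(A), r ∉ A ∧ r * r ∈ A := by
    obtain ⟨x, hx, x1⟩ := SetLike.not_le_iff_exists.1 hR
    obtain ⟨k, hk⟩ := pow_two_pow h.two hx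
    have hk' : x ^ 2 ^ k ∈ A := hk ▸ one_mem A
    clear hk
    induction k generalizing x with
    | zero => exact absurd (by simpa using hk') x1
    | succ k ih =>
      by_cases x2 : x * x ∈ A
      · exact ⟨x, hx, x1, x2⟩
      · exact ih _ (mul_mem hx hx) x2 (by rwa [← pow_two, ← pow_mul, ← pow_succ'])
  by_cases a1 : a = 1
  · rw [a1, one_mul, mul_one]
  obtain ⟨k, -, rfl⟩ := h.tr _ r2 (fun e => r1 ((h.mem r).2 e)) a ha a1
  rw [← conj_mul]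
  have hs := Normal.conj_mem ‹_› r hr k
  generalize k * r * k⁻¹ = s at hs
  have h1 := e s hs
  have h2 : y * (s * s) * y⁻¹ = s * s := by
    calc _ = s * (s⁻¹ * (y * s * y⁻¹) * s) * (s⁻¹ * (y * s * y⁻¹)) := by group
      _ = s * s * (s⁻¹ * (y * s * y⁻¹) * (s⁻¹ * (y * s * y⁻¹))) := by rw [hs _ h1]; group
      _ = _ := by rw [h.sq h1, mul_one]
  exact (mul_inv_eq_iff_eq_mul.1 h2).symm

theorem sq_mem (nab : ¬ 𝐂(A) ≤ 𝐂(𝐂(A))) : ∀ x ∈ 𝐂(A), x * x ∈ A := by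
  haveI := nR h
  haveI := h.normal
  obtain ⟨n, hn⟩ := exists_card_eq_pow Nat.prime_two (h.two.to_le h.cc)
  have h4 := h.four
  have n0 : n ≠ 0 := by rintro rfl; omega
  haveI : Fact (Nat.Prime 2) := ⟨Nat.prime_two⟩
  have := Fintype.ofFinite (GaloisField 2 n)
  have hF : Fintype.card (GaloisField 2 n) = 𝐨(A) := by
    rw [hn, ← Nat.card_eq_fintype_card, GaloisField.card 2 n n0]
  obtain ⟨s, hs, s1⟩ := h.exists_ne
  obtain ⟨φ, k, hk, -⟩ := P2.exists_secField (GaloisField 2 n) (M := A) (N := ⊥) (K := K)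
    (by rw [relIndex_bot_left, hF]) (by rw [normalizer_eq_top]; exact le_top)
    (norm_bot (G := M) ▸ le_top)
    (fun x hx y hy => mem_bot.mpr (commutatorElement_eq_one_iff_mul_comm.mpr (h.cc hy x hx)))
    (norm_bot (G := M) ▸ le_top) (le_centralizer_iff_isMulCommutative.1 h.comm) (e := s) hs s1
    (fun x hx x1 => by
      obtain ⟨k, hk, e⟩ := h.tr s hs s1 x hx x1
      exact ⟨k, hk, by rw [e]; simp⟩)
    (fun k hk e => h.reg k hk s hs s1 (mul_inv_eq_iff_eq_mul.mp (inv_mul_eq_one.mp (mem_bot.mp e))))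
  have hS : P2.Suz 𝐂(A) K A φ k := ⟨h.two, by rw [normalizer_eq_top]; exact le_top,
    fun x hx x1 => by
      by_contra e
      obtain ⟨z, hz, ho⟩ := exists_mem_orderOf_eq_prime Nat.prime_two
        (prime_dvd_card_of_isPGroup Nat.prime_two (h.two.to_le inf_le_left) e)
      refine x1 (h.reg x hx z ((h.mem z).2 (by rw [← pow_two, ← ho, pow_orderOf_eq_one]))
        (fun e => ?_) (mem_cent1.1 hz.2))
      rw [e, orderOf_one] at ho
      omega,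
    fun x => ⟨fun hx => ⟨h.cc hx, h.sq hx⟩, fun hx => (h.mem x).2 hx.2⟩,
    fun x hx z hz => (hx z hz).symm, hk, by omega⟩
  exact hS.sq_mem fun e => nab (le_centralizer_iff_isMulCommutative.2 e)

/-- The elements of `R` with square in `B`. -/
theorem count {x0 : M} (x1 : x0 * x0 ∈ A) (x2 : x0 * x0 ≠ 1) {B : Subgroup M} (hB : B ≤ A) :
    {x | x ∈ 𝐂(A) ∧ x * x ∈ B}.ncard + {x | x ∈ 𝐂(A) ∧ x * x = x0 * x0}.ncard =
      𝐨(A) + 𝐨(B) * {x | x ∈ 𝐂(A) ∧ x * x = x0 * x0}.ncard := by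
  classical
  haveI := nR h
  haveI := Fintype.ofFinite M
  set N := {x | x ∈ 𝐂(A) ∧ x * x = x0 * x0}.ncard with hN
  have h1 : ∀ a ∈ A, a ≠ 1 → {x | x ∈ 𝐂(A) ∧ x * x = a}.ncard = N := fun a ha a1 => by
    obtain ⟨k, -, rfl⟩ := h.tr _ x1 x2 a ha a1
    rw [hN, ← Set.ncard_image_of_injective {x | x ∈ 𝐂(A) ∧ x * x = x0 * x0}
      (MulAut.conj k).injective]
    congr 1
    ext x
    constructor
    · rintro ⟨hx, e⟩
      exact ⟨k⁻¹ * x * k, ⟨Normal.conj_mem' ‹_› x hx k, by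
        rw [show k⁻¹ * x * k * (k⁻¹ * x * k) = k⁻¹ * (x * x) * k by group, e]; group⟩, by
        simp [mul_assoc]⟩
    · rintro ⟨z, ⟨hz, e⟩, rfl⟩
      exact ⟨Normal.conj_mem ‹_› z hz k, by rw [MulAut.conj_apply, conj_mul, e]⟩
  have h2 : {x | x ∈ 𝐂(A) ∧ x * x = 1}.ncard = 𝐨(A) := by
    rw [← Nat.card_coe_set_eq]
    exact Nat.card_congr (Equiv.subtypeEquivRight fun x =>
      ⟨fun hx => (h.mem x).2 hx.2, fun hx => ⟨h.cc hx, h.sq hx⟩⟩)
  have h3 := Finset.card_eq_sum_card_fiberwise (f := fun x : M => x * x)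
    (s := {x | x ∈ 𝐂(A) ∧ x * x ∈ B}.toFinset) (t := (B : Set M).toFinset)
    (fun x hx => by simpa using (by simpa using hx : x ∈ 𝐂(A) ∧ x * x ∈ B).2)
  have h4 : ∀ a ∈ (B : Set M).toFinset, (Finset.filter (fun x => x * x = a)
      {x | x ∈ 𝐂(A) ∧ x * x ∈ B}.toFinset).card = {x | x ∈ 𝐂(A) ∧ x * x = a}.ncard :=
    fun a ha => by
    rw [← Set.ncard_coe_finset]
    congr 1
    ext x
    simp only [Finset.coe_filter, Set.mem_toFinset, Set.mem_ofPred_eq, SetLike.mem_coe] at ha ⊢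
    exact ⟨fun e => ⟨e.1.1, e.2⟩, fun e => ⟨⟨e.1, e.2 ▸ ha⟩, e.2⟩⟩
  have o : (1 : M) ∈ (B : Set M).toFinset := by simp
  rw [Finset.sum_congr rfl h4, ← Finset.add_sum_erase _ _ o, h2, Finset.sum_congr rfl
    fun a ha => h1 a (hB (by simpa using Finset.mem_of_mem_erase ha)) (Finset.ne_of_mem_erase ha),
    Finset.sum_const, smul_eq_mul] at h3
  have h5 : 𝐨(B) = ((B : Set M).toFinset.erase 1).card + 1 := by
    rw [Finset.card_erase_add_one o, Set.toFinset_card, Nat.card_eq_fintype_card]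
    rfl
  rw [Set.ncard_eq_toFinset_card', h3, h5]
  ring

theorem bound (sq : ∀ x ∈ 𝐂(A), x * x ∈ A) {c y : M} (hc : c ∈ 𝐂(A)) (ho : Odd (orderOf y))
    (cy : Commute y c) (fx : ∀ r ∈ 𝐂(A), Commute r c → r⁻¹ * (y * r * y⁻¹) ∈ A) :
    𝐨(𝐂(A)) * 𝐨((A ⊓ 𝐂[y] : Subgroup M)) ≤
      {x | x ∈ 𝐂(A) ∧ x * x ∈ A ⊓ 𝐂[y]}.ncard * 𝐨(A) := by
  haveI := nR h
  haveI := h.normal
  have cm : ∀ r ∈ 𝐂(A), ⁅r, c⁆ ∈ A := fun r hr => P2.comm_mem_of_sq_mem sq hr hc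
  have mul : ∀ a ∈ 𝐂(A), ∀ b ∈ 𝐂(A), ⁅a * b, c⁆ = ⁅a, c⁆ * ⁅b, c⁆ := fun a ha b hb => by
    rw [P2.comm_mul_left, ← ha _ (cm b hb), mul_inv_cancel_right, h.cc (cm a ha) _ (cm b hb)]
  let φ : 𝐂(A) →* M := MonoidHom.mk' (fun r => ⁅(r : M), c⁆) fun a b => mul a a.2 b b.2
  have h1 : ((A ⊓ 𝐂[y]).comap φ).index ≤ (A ⊓ 𝐂[y]).relIndex A := by
    rw [index_comap]
    exact relIndex_le_of_le_right (by rintro _ ⟨r, rfl⟩; exact cm r r.2)
      (Nat.pos_iff_ne_zero.1 (Nat.pos_of_ne_zero index_ne_zero_of_finite))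
  have h2 : 𝐨((A ⊓ 𝐂[y]).comap φ) ≤ {x | x ∈ 𝐂(A) ∧ x * x ∈ A ⊓ 𝐂[y]}.ncard := by
    rw [← Nat.card_coe_set_eq]
    refine Nat.card_le_card_of_injective (fun r => ⟨r.1.1, r.1.2, sq _ r.1.2, ?_⟩)
      fun a b e => Subtype.ext (Subtype.ext (Subtype.mk.inj e))
    obtain ⟨⟨r, hr⟩, -, e⟩ := r
    replace e : y * ⁅r, c⁆ = ⁅r, c⁆ * y := mem_cent1.1 e
    have hr' := Normal.conj_mem ‹_› r hr y
    have hw := mul_mem (inv_mem hr) hr'
    have e1 : ⁅y * r * y⁻¹, c⁆ = ⁅r, c⁆ := by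
      have := P2.conj_comm y r c
      rwa [cy.eq, mul_inv_cancel_right, e, mul_inv_cancel_right] at this
    have e2 : ⁅r⁻¹ * (y * r * y⁻¹), c⁆ = 1 := by
      rw [mul _ (inv_mem hr) _ hr', e1, ← mul _ (inv_mem hr) _ hr, inv_mul_cancel,
        commutatorElement_one_left]
    have e3 := fx _ hw (commutatorElement_eq_one_iff_commute.1 e2)
    have e4 := fix_mod h hr ho (by
      generalize r⁻¹ * (y * r * y⁻¹) = w at e3
      rw [show ⁅y * y, w⁆ = w * (w⁻¹ * (y * w * y⁻¹) * (y * (w⁻¹ * (y * w * y⁻¹)) * y⁻¹)) * w⁻¹ by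
        rw [commutatorElement_def]; group]
      exact Normal.conj_mem ‹_› _ (mul_mem e3 (Normal.conj_mem ‹_› _ e3 y)) w)
    refine mem_cent1.2 (mul_inv_eq_iff_eq_mul.1 ?_)
    calc y * (r * r) * y⁻¹ = r * (r⁻¹ * (y * r * y⁻¹) * r) * (r⁻¹ * (y * r * y⁻¹)) := by group
      _ = r * r * (r⁻¹ * (y * r * y⁻¹) * (r⁻¹ * (y * r * y⁻¹))) := by rw [hr _ e4]; group
      _ = _ := by rw [h.sq e4, mul_one]
  rw [← card_mul_index ((A ⊓ 𝐂[y]).comap φ), ← H1.card_mul_relIndex (inf_le_left : A ⊓ 𝐂[y] ≤ A),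
    mul_assoc, mul_comm (index _)]
  gcongr

theorem inj (sq : ∀ x ∈ 𝐂(A), x * x ∈ A) {c y : M} (hc : c ∈ 𝐂(A)) (ho : Odd (orderOf y))
    (hy : y ∉ 𝐂(A)) (cy : Commute y c)
    (fx : ∀ r ∈ 𝐂(A), Commute r c → r⁻¹ * (y * r * y⁻¹) ∈ A) {x z : M} (hx : x ∈ 𝐂(A))
    (hz : z ∈ 𝐂(A)) (e : x * x = z * z) : x⁻¹ * z ∈ A := by
  by_cases x2 : x * x = 1
  · exact mul_mem (inv_mem ((h.mem x).2 x2)) ((h.mem z).2 (e ▸ x2))
  have h1 := count h (sq x hx) x2 le_rfl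
  have h2 := count h (sq x hx) x2 (inf_le_left : A ⊓ 𝐂[y] ≤ A)
  have h3 := bound h sq hc ho cy fx
  have h4 : {x | x ∈ 𝐂(A) ∧ x * x ∈ A}.ncard = 𝐨(𝐂(A)) := by
    rw [← Nat.card_coe_set_eq]
    exact Nat.card_congr (Equiv.subtypeEquivRight fun x => ⟨fun hx => hx.1, fun hx => ⟨hx, sq x hx⟩⟩)
  have h5 : 𝐨((A ⊓ 𝐂[y] : Subgroup M)) < 𝐨(A) := by
    refine lt_of_le_of_ne (card_le_of_le inf_le_left) fun e => hy fun a ha => ?_
    have := eq_of_le_of_card_ge (inf_le_left : A ⊓ 𝐂[y] ≤ A) e.ge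
    exact (mem_cent1.1 (this.ge ha).2).symm
  have h6 : {w | w ∈ 𝐂(A) ∧ w * w = x * x}.ncard ≤ 𝐨(A) := by
    rw [h4] at h1
    by_contra hn
    nlinarith
  have h7 : (x * ·) '' (A : Set M) = {w | w ∈ 𝐂(A) ∧ w * w = x * x} := by
    refine Set.eq_of_subset_of_ncard_le ?_ ?_
    · rintro _ ⟨a, ha, rfl⟩
      refine ⟨mul_mem hx (h.cc ha), ?_⟩
      calc x * a * (x * a) = x * (a * x) * a := by group
        _ = x * x * (a * a) := by rw [hx a ha]; group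
        _ = _ := by rw [h.sq ha, mul_one]
    · rwa [Set.ncard_image_of_injective _ (mul_right_injective x), ← Nat.card_coe_set_eq]
  obtain ⟨a, ha, rfl⟩ := h7.ge (⟨hz, e.symm⟩ : z ∈ {w | w ∈ 𝐂(A) ∧ w * w = x * x})
  simpa using ha

end O2

theorem o2Stmt : O2Stmt.{u} := by
  intro M _ _ 𝒜 A K h hR t ht ht'
  obtain ⟨s, y, hs, ho, hy, e⟩ := O2.exists_inv h ht ht'
  have fx := fun r hr c => O2.fix_X h (r := r) hs ho e hr c
  have nab : ¬ 𝐂(A) ≤ 𝐂(𝐂(A)) := fun n => O2.not_fix h hR hy fun r hr => fx r hr (n hs r hr)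
  have sq := O2.sq_mem h nab
  refine ⟨nab, sq, fun x hx z hz => O2.inj h sq hs ho hy ?_ fx hx hz⟩
  have : s * s * y * (s * s)⁻¹ = y := by
    calc _ = s * (s * y * s⁻¹) * s⁻¹ := by group
      _ = (s * y * s⁻¹)⁻¹ := by conv_lhs => rw [e]
                                group
      _ = _ := by rw [e, inv_inv]
  exact (mul_inv_eq_iff_eq_mul.1 this).symm

end Cfsg.Agent.P21
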