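/-
P21, chapter C: the normalizer of `A` induces a group of odd order, the base case.
-/
import Cfsg.Agent.P21.ODefs

set_option autoImplicit false
set_option linter.unusedSectionVars false
set_option linter.style.haveILetI false

namespace Cfsg.Agent.P21.OddB

open Subgroup Cfsg Cfsg.Agent Cfsg.Agent.FT
open Cfsg.Agent.P14 (cjm cmr cml)
open scoped commutatorElement

universe u

variable {G : Type u} [Group G] [Finite G]

theorem card_hom_le (Q : Type u) [Group Q] [Finite Q] :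
    Finite (Q →* ℂˣ) ∧ Nat.card (Q →* ℂˣ) ≤ Nat.card Q := by
  haveI : Finite (Abelianization Q) := Finite.of_surjective _ (QuotientGroup.mk_surjective)
  have e : Nat.card (Q →* ℂˣ) = Nat.card (Abelianization Q) := by
    rw [Nat.card_congr (Abelianization.lift (G := Q) (A := ℂˣ)),
      CommGroup.card_monoidHom_of_hasEnoughRootsOfUnity]
  exact ⟨Nat.finite_of_card_ne_zero (e ▸ Nat.card_pos.ne'),
    e ▸ Nat.card_le_card_of_surjective _ QuotientGroup.mk_surjective⟩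

theorem exists_sq {E : Subgroup G} (k : ℕ) : ∀ x : G, x ∉ E → x ^ 2 ^ k ∈ E →
    ∃ t ∈ zpowers x, t ∉ E ∧ t * t ∈ E := by
  induction k with
  | zero => exact fun x h1 h2 => absurd (by simpa using h2) h1
  | succ k ih =>
    intro x h1 h2
    by_cases e : x * x ∈ E
    · exact ⟨x, mem_zpowers x, h1, e⟩
    obtain ⟨t, ht, e'⟩ := ih (x * x) e (by rwa [← pow_two, ← pow_mul, ← pow_succ'])
    exact ⟨t, zpowers_le.2 (mul_mem (mem_zpowers x) (mem_zpowers x)) ht, e'⟩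

theorem mem_zp {x y : G} (h : x * x = 1) (hy : y ∈ zpowers x) : y = 1 ∨ y = x := by
  by_cases e : x = 1
  · rw [e, zpowers_one_eq_bot] at hy
    exact Or.inl hy
  · exact (P6.Inv.mem_zpowers_iff ⟨e, h⟩).1 hy

/-- `H` is a complement to `z` in `E`, and contains `Y`. -/
structure Hy (E Y : Subgroup G) (z : G) (H : Subgroup G) : Prop where
  le : H ≤ E
  ge : Y ≤ H
  nm : z ∉ H
  or : ∀ x ∈ E, x ∈ H ∨ z * x ∈ H

theorem exists_hy {E W : Subgroup G} (el : IsElementaryAbelian 2 E) (hW : W ≤ E) {z : G}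
    (hz : z ∉ W) : ∃ H, Hy E W z H := by
  obtain ⟨H, ⟨h1, h2, h3⟩, hm⟩ := P6.exists_max_card
    (P := fun H : Subgroup G => H ≤ E ∧ W ≤ H ∧ z ∉ H) ⟨W, hW, le_rfl, hz⟩
  refine ⟨H, h1, h2, h3, fun x hx => or_iff_not_imp_left.2 fun e => ?_⟩
  have xx : x * x = 1 := by rw [← pow_two]; exact el.2 x hx
  have : z ∈ H ⊔ zpowers x := by
    by_contra k
    have := hm _ ⟨sup_le h1 (zpowers_le.2 hx), h2.trans le_sup_left, k⟩
    exact e ((H1.eq_of_le_of_card_le le_sup_left this).ge (mem_sup_right (mem_zpowers x)))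
  obtain ⟨a, ha, b, hb, rfl⟩ := (mem_sup_of_norm ((zpowers_le.2 hx).trans
    ((isMulComm_iff_le_cent.1 el.1).trans ((cent_anti h1).trans (cent_le_norm H))))).1 this
  rcases mem_zp xx hb with rfl | rfl
  · exact absurd (by simpa using ha) h3
  · rwa [mul_assoc, xx, mul_one]

theorem Hy.mul {E Y H : Subgroup G} {z : G} (h : Hy E Y z H) (el : IsElementaryAbelian 2 E)
    (hz : z ∈ E) {x y : G} (hx : x ∈ E) (hy : y ∈ E) (h1 : x ∉ H) (h2 : y ∉ H) : x * y ∈ H := by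
  have := mul_mem ((h.or x hx).resolve_left h1) ((h.or y hy).resolve_left h2)
  rwa [mul_assoc, ← mul_assoc x, isMulComm_iff_le_cent.1 el.1 hz x hx, ← mul_assoc, ← mul_assoc,
    ← pow_two, el.2 z hz, one_mul] at this

/-- The complements to `z` that contain `Y` are determined by characters of `V`. -/
theorem ncard_hy {E V Y : Subgroup G} {z : G} (el : IsElementaryAbelian 2 E) (hV : V ≤ E)
    (hz : z ∈ E) (dec : ∀ x ∈ E, ∃ v ∈ V, ∃ y ∈ Y, v * y = x ∨ v * y = z * x) :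
    {H | Hy E Y z H}.ncard ≤ 𝐨(V) := by
  classical
  obtain ⟨_, h1⟩ := card_hom_le V
  refine le_trans (Nat.card_le_card_of_injective (fun H : {H | Hy E Y z H} =>
    (MonoidHom.mk' (fun v : V => if (v : G) ∈ H.1 then (1 : ℂˣ) else -1) fun a b => ?_))
    fun H H' e => ?_) h1
  · by_cases ha : (a : G) ∈ H.1 <;> by_cases hb : (b : G) ∈ H.1
    · simp [ha, hb, mul_mem ha hb]
    · simp [ha, hb, H.1.mul_mem_cancel_left ha]
    · simp [ha, hb, H.1.mul_mem_cancel_right hb]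
    · simp [ha, hb, H.2.mul el hz (hV a.2) (hV b.2) ha hb]
  have key : ∀ H H' : Subgroup G, Hy E Y z H → Hy E Y z H' → (∀ v ∈ V, v ∈ H ↔ v ∈ H') →
      H ≤ H' := fun H H' h h' e x hx => by
    obtain ⟨v, hv, y, hy, k | k⟩ := dec x (h.le hx)
    · rw [← k] at hx ⊢
      exact mul_mem ((e v hv).1 ((H.mul_mem_cancel_right (h.ge hy)).1 hx)) (h'.ge hy)
    · refine (h'.or x (h.le hx)).resolve_right fun k' => h.nm ?_
      rw [← k] at k'
      have := mul_mem ((e v hv).2 ((H'.mul_mem_cancel_right (h'.ge hy)).1 k')) (h.ge hy)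
      rwa [k, H.mul_mem_cancel_right hx] at this
  have e' : ∀ v ∈ V, v ∈ H.1 ↔ v ∈ H'.1 := fun v hv => by
    have := DFunLike.congr_fun e ⟨v, hv⟩
    have n1 : (1 : ℂˣ) ≠ -1 := fun k => by
      have := congrArg Units.val k
      norm_num at this
    by_cases a : v ∈ H.1 <;> by_cases b : v ∈ H'.1
    · exact iff_of_true a b
    · exact absurd ((if_pos a).symm.trans (this.trans (if_neg b))) n1
    · exact absurd ((if_pos b).symm.trans (this.symm.trans (if_neg a))) n1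
    · exact iff_of_false a b
  exact Subtype.ext (le_antisymm (key _ _ H.2 H'.2 e') (key _ _ H'.2 H.2 fun v hv => (e' v hv).symm))

/-- The class of groups of the theorem: `A = E Z / Z`. -/
structure Kl (M Z E K : Subgroup G) : Prop where
  el : IsElementaryAbelian 2 E
  EM : E ≤ M
  nE : M ≤ 𝐍(E)
  cZ : M ≤ 𝐂(Z)
  KM : K ≤ M
  odd : Odd 𝐨(K)
  tr : ∀ a ∈ E, a ∉ Z → ∀ b ∈ E, b ∉ Z → ∃ k ∈ K, (k * a * k⁻¹)⁻¹ * b ∈ Z
  fr : ∀ k ∈ K, ∀ a ∈ E, a ∉ Z → ⁅k, a⁆ ∈ Z → k = 1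
  om : ∀ x ∈ M, x * x ∈ Z → ∀ a ∈ E, ⁅x, a⁆ ∈ Z
  sq : ∀ P ≤ M, IsPGroup 2 P → ∀ x ∈ P, ∀ y ∈ P, x * x = y * y → x⁻¹ * y ∈ E

namespace Kl

variable {M Z E K : Subgroup G} (h : Kl M Z E K)
include h

theorem mono {N : Subgroup G} (h1 : N ≤ M) (h2 : E ≤ N) (h3 : K ≤ N) : Kl N Z E K :=
  ⟨h.el, h2, h1.trans h.nE, h1.trans h.cZ, h3, h.odd, h.tr, h.fr,
    fun x hx => h.om x (h1 hx), fun P hP => h.sq P (hP.trans h1)⟩

theorem pg : IsPGroup 2 E := elemAb_isPGroup h.el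

theorem cc : E ≤ 𝐂(E) := isMulComm_iff_le_cent.1 h.el.1

theorem cm {a b : G} (ha : a ∈ E) (hb : b ∈ E) : a * b = b * a := h.cc hb a ha

theorem ss {a : G} (ha : a ∈ E) : a * a = 1 := by rw [← pow_two]; exact h.el.2 a ha

theorem cjz {g z : G} (hg : g ∈ M) (hz : z ∈ Z) (a : G) :
    g * (a * z) * g⁻¹ = g * a * g⁻¹ * z := by
  rw [mul_assoc (g * a), ← h.cZ (inv_mem hg) z hz]; group

theorem cj_not {g a : G} (hg : g ∈ M) (ha : a ∉ Z) : g * a * g⁻¹ ∉ Z := fun k => ha (by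
  have := h.cjz (inv_mem hg) k 1
  rw [show a = g * a * g⁻¹ by simpa [mul_assoc] using this]
  exact k)

theorem exV {t b : G} (ht : t ∈ M) (hb : b ∈ E) (nc : ⁅t, b⁆ ∉ Z) : ∃ V ≤ E, K ≤ 𝐍(V) ∧
    (∀ v ∈ V, v ∈ Z → v = 1) ∧ ∀ a ∈ E, ∃ v ∈ V, ∃ z ∈ Z, v * z = a := by
  have cop : 𝐨(K).Coprime 𝐨(E) := (P7.cop_two_odd h.pg h.odd).symm
  have a1 := h.KM.trans h.nE
  have d4 := H1.centralizer_inf_commutator_eq_bot h.el.1 a1 cop
  have d5 := H1.commutator_sup_centralizer a1 cop (Or.inr (H1.isSolvable_of_isPGroup h.pg))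
  have v1 : ⁅E, K⁆ ≤ E := comm_le_left_iff.2 a1
  refine ⟨⁅E, K⁆, v1, H1.le_normalizer_commutator_self,
    fun v hv e => d4.le ⟨cent_comm.1 (h.KM.trans h.cZ) e, hv⟩, fun a ha => ?_⟩
  obtain ⟨v, hv, c, hc, e⟩ := (mem_sup_of_norm (inf_le_left.trans (h.cc.trans
    ((cent_anti v1).trans (cent_le_norm _))))).1 (d5.ge ha)
  refine ⟨v, hv, c, ?_, e⟩
  by_contra k
  have key : ∀ x ∈ E, x ∉ Z → c⁻¹ * x ∈ Z := fun x hx hx' => by
    obtain ⟨y, hy, e'⟩ := h.tr c hc.1 k x hx hx'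
    rwa [hc.2 y hy, mul_inv_cancel_right] at e'
  have b1 : b ∉ Z := fun e' => nc (by
    rw [commutatorElement_eq_one_iff_mul_comm.2 (h.cZ ht b e').symm]; exact one_mem _)
  have := mul_mem (inv_mem (key b hb b1)) (key _ (cjm (h.nE ht) hb) (h.cj_not ht b1))
  rw [mul_inv_rev, inv_inv, mul_assoc, mul_inv_cancel_left,
    h.cm (inv_mem hb) (cjm (h.nE ht) hb)] at this
  exact nc this

theorem exZ (e : G) : ∃ Z0 : Subgroup G, ∀ z, z ∈ Z0 ↔ z ∈ Z ∧ ∃ g ∈ M, g * e * g⁻¹ = e * z :=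
  ⟨{ carrier := {z | z ∈ Z ∧ ∃ g ∈ M, g * e * g⁻¹ = e * z}
     one_mem' := ⟨one_mem _, 1, one_mem _, by simp⟩
     mul_mem' := fun {a b} ⟨ha, g, hg, e1⟩ ⟨hb, k, hk, e2⟩ => ⟨mul_mem ha hb, g * k, mul_mem hg hk, by
       rw [← mul_assoc e, ← e1, ← h.cjz hg hb, ← e2]; group⟩
     inv_mem' := fun {a} ⟨ha, g, hg, e1⟩ => ⟨inv_mem ha, g⁻¹, inv_mem hg, by
       rw [eq_mul_inv_iff_mul_eq, ← h.cjz (inv_mem hg) ha, ← e1]; group⟩ }, fun _ => Iff.rfl⟩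

theorem exW {t : G} (ht : t ∈ M) :
    ∃ W : Subgroup G, ∀ w, w ∈ W ↔ ∃ b ∈ E, t⁻¹ * b * t * b = w := by
  have c : ∀ b ∈ E, t⁻¹ * b * t ∈ E := fun b hb => by simpa using cjm (h.nE (inv_mem ht)) hb
  exact ⟨{ carrier := {w | ∃ b ∈ E, t⁻¹ * b * t * b = w}
           one_mem' := ⟨1, one_mem _, by simp⟩
           mul_mem' := by
             rintro _ _ ⟨a, ha, rfl⟩ ⟨b, hb, rfl⟩
             refine ⟨a * b, mul_mem ha hb, ?_⟩
             rw [mul_assoc (t⁻¹ * a * t) a, ← mul_assoc a, h.cm ha (c b hb)]; group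
           inv_mem' := by
             rintro _ ⟨a, ha, rfl⟩
             exact ⟨a, ha, eq_inv_of_mul_eq_one_left (h.ss (mul_mem (c a ha) ha))⟩ },
    fun _ => Iff.rfl⟩

theorem exN (t : G) : ∃ N : Subgroup G, ∀ n, n ∈ N ↔ n ∈ M ∧ t⁻¹ * (n * t * n⁻¹) ∈ E :=
  ⟨{ carrier := {n | n ∈ M ∧ t⁻¹ * (n * t * n⁻¹) ∈ E}
     one_mem' := ⟨one_mem _, by simp⟩
     mul_mem' := fun {a b} ⟨ha, e1⟩ ⟨hb, e2⟩ => ⟨mul_mem ha hb, by
       convert mul_mem e1 (cjm (h.nE ha) e2) using 1; group⟩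
     inv_mem' := fun {a} ⟨ha, e1⟩ => ⟨inv_mem ha, by
       convert cjm (h.nE (inv_mem ha)) (inv_mem e1) using 1; group⟩ }, fun _ => Iff.rfl⟩

theorem index_eq {e : G} (he : e ∈ E) (he' : e ∉ Z) {Z0 : Subgroup G}
    (h0 : ∀ z, z ∈ Z0 ↔ z ∈ Z ∧ ∃ g ∈ M, g * e * g⁻¹ = e * z) :
    𝐂[e].relIndex M = 𝐨(K) * 𝐨(Z0) := by
  rw [← P6.ncard_class, ← Nat.card_prod, ← Nat.card_range_of_injective
    (f := fun p : K × Z0 => (p.1 : G) * e * (p.1 : G)⁻¹ * p.2), Nat.card_coe_set_eq]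
  · congr 1
    ext c
    constructor
    · rintro ⟨y, hy, rfl⟩
      obtain ⟨k, hk, e1⟩ := h.tr e he he' _ (cjm (h.nE hy) he) (h.cj_not hy he')
      refine ⟨(⟨k, hk⟩, ⟨_, (h0 _).2 ⟨e1, k⁻¹ * y, mul_mem (inv_mem (h.KM hk)) hy, ?_⟩⟩),
        mul_inv_cancel_left _ _⟩
      have := h.cjz (inv_mem (h.KM hk)) e1 (k * e * k⁻¹)
      rw [mul_inv_cancel_left] at this
      rw [show k⁻¹ * y * e * (k⁻¹ * y)⁻¹ = k⁻¹ * (y * e * y⁻¹) * k⁻¹⁻¹ by group, this]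
      group
    · rintro ⟨⟨⟨k, hk⟩, z, hz⟩, rfl⟩
      obtain ⟨z1, g, hg, e1⟩ := (h0 z).1 hz
      refine ⟨k * g, mul_mem (h.KM hk) hg, ?_⟩
      simp only
      rw [← h.cjz (h.KM hk) z1, ← e1]; group
  · rintro ⟨⟨k, hk⟩, z, hz⟩ ⟨⟨k', hk'⟩, z', hz'⟩ e1
    simp only at e1
    have z1 := mul_mem ((h0 z').1 hz').1 (inv_mem ((h0 z).1 hz).1)
    have e2 : k'⁻¹ * k = 1 := h.fr _ (mul_mem (inv_mem hk') hk) e he he' (by
      have := h.cjz (inv_mem (h.KM hk')) z1 (k' * e * k'⁻¹)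
      rw [← mul_assoc (k' * e * k'⁻¹), ← e1, mul_inv_cancel_right] at this
      rw [commutatorElement_def, show k'⁻¹ * k * e * (k'⁻¹ * k)⁻¹ = k'⁻¹ * (k * e * k⁻¹) * k'⁻¹⁻¹ by
        group, this]
      convert cjm (cent_le_norm Z (h.cZ (h.EM he))) z1 using 1
      group)
    obtain rfl := inv_mul_eq_one.1 e2
    obtain rfl := mul_left_cancel e1
    rfl

/-- The number of the squares in the coset `t E`. -/
theorem card_dvd {t v ζ : G} (ht : t ∈ M) (t2 : Two t) (hv : v ∈ E) (hv' : v ∉ Z) (hζ : ζ ∈ Z)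
    (e : t * t = v * ζ) {Z0 W : Subgroup G}
    (h0 : ∀ z, z ∈ Z0 ↔ z ∈ Z ∧ ∃ g ∈ M, g * v * g⁻¹ = v * z)
    (hW : ∀ w, w ∈ W ↔ ∃ b ∈ E, t⁻¹ * b * t * b = w)
    (cj : ∀ w ∈ W, ∃ y ∈ M, y * v * y⁻¹ = v * w) : 𝐨(W) ∣ 𝐨(Z0) := by
  obtain ⟨N, hN⟩ := h.exN t
  have NM : N ≤ M := fun n hn => ((hN n).1 hn).1
  have sq : ∀ b, t * b * (t * b) = v * (t⁻¹ * b * t * b) * ζ ∨ b ∉ E := fun b => by
    refine or_iff_not_imp_right.2 fun hb => ?_
    have hb := h.EM (not_not.1 hb)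
    rw [mul_assoc v, ← h.cZ (mul_mem (mul_mem (mul_mem (inv_mem ht) hb) ht) hb) ζ hζ, ← mul_assoc v,
      ← e]
    group
  have ce : ∀ g ∈ M, ∀ x y, x * x = y * ζ → g * x * g⁻¹ * (g * x * g⁻¹) = g * y * g⁻¹ * ζ :=
    fun g hg x y k => by rw [conj_mul, k, h.cjz hg hζ]
  have tv : ∀ x ∈ M, x * x = v * ζ → x ∈ M ⊓ 𝐂[v] := fun x hx k => ⟨hx, mem_cent1.2 (by
    rw [eq_mul_inv_of_mul_eq k.symm, mul_assoc, h.cZ hx _ (inv_mem hζ)]; group)⟩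
  obtain ⟨S, hS, tS⟩ := exists_isSyl_ge Nat.prime_two t2.zp (zpowers_le.2 (tv t ht e))
  have tS := tS (mem_zpowers t)
  have SM : S ≤ M := hS.le.trans inf_le_left
  have SN : S ≤ N ⊓ 𝐂[v] := fun s hs => ⟨(hN s).2 ⟨SM hs, h.sq S SM hS.pgrp t tS _
    (mul_mem (mul_mem hs tS) (inv_mem hs)) (by
      rw [ce s (SM hs) t v e, mem_cent1_iff_conj.1 (hS.le hs).2, e])⟩, (hS.le hs).2⟩
  have i1 : 𝐂[v].relIndex N = 𝐨(W) := by
    rw [← P6.ncard_class, ← Nat.card_range_of_injective (f := fun w : W => v * (w : G))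
      fun a b k => Subtype.ext (mul_left_cancel k), Nat.card_coe_set_eq]
    congr 1
    ext c
    constructor
    · rintro ⟨n, hn, rfl⟩
      have a1 := ((hN n).1 hn).2
      have a2 := (sq _).resolve_right (not_not.2 a1)
      rw [mul_inv_cancel_left, ce n (NM hn) t v e] at a2
      exact ⟨⟨_, (hW _).2 ⟨_, a1, rfl⟩⟩, (mul_right_cancel a2).symm⟩
    · rintro ⟨⟨w, hw⟩, rfl⟩
      obtain ⟨y, hy, e1⟩ := cj w hw
      obtain ⟨b, hb, rfl⟩ := (hW w).1 hw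
      have a1 := ce y⁻¹ (inv_mem hy) _ _ ((sq b).resolve_right (not_not.2 hb))
      rw [← e1, show y⁻¹ * (y * v * y⁻¹) * y⁻¹⁻¹ = v by group] at a1
      have a2 : t * b ∈ M := mul_mem ht (h.EM hb)
      have a3 := tv _ (mul_mem (mul_mem (inv_mem hy) a2) (inv_mem (inv_mem hy))) a1
      have a4 : Two (t * b) := Two.of_mem (isPGroup_sup t2.zp h.pg (zpowers_le.2 (h.nE ht)))
        (mul_mem_sup (mem_zpowers t) hb)
      obtain ⟨c, hc, k⟩ := hS.exists_conj_le Nat.prime_two (a4.conj y⁻¹).zp (zpowers_le.2 a3)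
      have a5 := h.sq S SM hS.pgrp t tS _ (k (conj_mem_conj (mem_zpowers _) c)) (by
        rw [ce c hc.1 _ _ a1, mem_cent1_iff_conj.1 hc.2, e])
      have a6 : y * c⁻¹ ∈ M := mul_mem hy (inv_mem hc.1)
      refine ⟨y * c⁻¹, (hN _).2 ⟨a6, ?_⟩, ?_⟩
      · convert mul_mem hb (inv_mem (cjm (h.nE a6) a5)) using 1
        group
      · show _ = v * _
        rw [← e1, mul_assoc y, ← mem_cent1.1 (inv_mem hc.2)]
        group
  have i2 := h.index_eq hv hv' h0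
  have i3 := relIndex_mul_relIndex S (M ⊓ 𝐂[v]) M hS.le inf_le_left
  have i4 := relIndex_mul_relIndex S (N ⊓ 𝐂[v]) N SN inf_le_left
  have i5 := relIndex_mul_relIndex S N M (SN.trans inf_le_left) NM
  rw [inf_relIndex_left, i2] at i3
  rw [inf_relIndex_left, i1] at i4
  have WE : W ≤ E := fun w hw => by
    obtain ⟨b, hb, rfl⟩ := (hW w).1 hw
    exact mul_mem (by simpa using cjm (h.nE (inv_mem ht)) hb) hb
  have c1 := P7.cop_two_odd (h.pg.to_le WE) h.odd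
  obtain ⟨n, hn⟩ := exists_card_eq_pow Nat.prime_two (h.pg.to_le WE)
  have c2 : 𝐨(W).Coprime (S.relIndex (M ⊓ 𝐂[v])) := hn ▸ (Nat.Coprime.pow_left n
    ((Nat.Prime.coprime_iff_not_dvd Nat.prime_two).2 hS.ndvd))
  refine c1.dvd_of_dvd_mul_left (c2.dvd_of_dvd_mul_left ?_)
  rw [i3, ← i5, ← i4]
  exact (dvd_mul_left _ _).mul_right _

omit h in
theorem hy_conj {E0 Y H : Subgroup G} {z g : G} (k : Hy E0 Y z H) (h1 : g ∈ 𝐍(E0))
    (h2 : g ∈ 𝐂(Y)) (h3 : g * z = z * g) : Hy E0 Y z (H ^ᵍ g) := by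
  have e : g⁻¹ * z * g = z := by rw [mul_assoc, ← h3, inv_mul_cancel_left]
  refine ⟨(conj_mono k.le g).trans (conj_eq_of_mem_norm h1).le,
    (conj_eq_of_mem_norm (cent_le_norm Y h2)).ge.trans (conj_mono k.ge g),
    fun c => k.nm (e ▸ mem_conj.1 c), fun x hx => (k.or (g⁻¹ * x * g) (by
      simpa using cjm (inv_mem h1) hx)).imp mem_conj.2 fun c => mem_conj.2 ?_⟩
  rw [← e] at c
  convert c using 1
  group

/-- An element whose square lies in `E Z` centralizes `E Z / Z`. -/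
theorem step (ih : ∀ N < M, E ≤ N → K ≤ N → ∀ t ∈ N, Two t → (∃ a ∈ E, ∃ z ∈ Z, t * t = a * z) →
      ∀ b ∈ E, ⁅t, b⁆ ∈ Z) {t : G} (ht : t ∈ M) (t2 : Two t) (tt : ∃ a ∈ E, ∃ z ∈ Z, t * t = a * z)
    {b : G} (hb : b ∈ E) : ⁅t, b⁆ ∈ Z := by
  by_contra nc
  obtain ⟨V, VE, KV, dj, dec⟩ := h.exV ht hb nc
  obtain ⟨v, hv, ζ, hζ, e⟩ : ∃ v ∈ V, ∃ ζ ∈ Z, t * t = v * ζ := by
    obtain ⟨a, ha, z, hz, e⟩ := tt
    obtain ⟨v, hv, c, hc, rfl⟩ := dec a ha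
    exact ⟨v, hv, c * z, mul_mem hc hz, by rw [e, mul_assoc]⟩
  have v' : v ∉ Z := fun k => nc (h.om t ht (e ▸ mul_mem k hζ) b hb)
  have trV : ∀ w ∈ V, w ≠ 1 → ∃ k ∈ K, k * v * k⁻¹ = w := fun w hw w1 => by
    obtain ⟨k, hk, e'⟩ := h.tr v (VE hv) v' w (VE hw) fun c => w1 (dj w hw c)
    exact ⟨k, hk, inv_mul_eq_one.1 (dj _ (mul_mem (inv_mem (cjm (KV hk) hv)) hw) e')⟩
  obtain ⟨Z0, h0⟩ := h.exZ v
  obtain ⟨W, hW⟩ := h.exW ht
  have ZZ : Z0 ≤ Z := fun z hz => ((h0 z).1 hz).1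
  have ZE : Z0 ≤ E := fun z hz => by
    obtain ⟨-, g, hg, e'⟩ := (h0 z).1 hz
    exact (E.mul_mem_cancel_left (VE hv)).1 (e' ▸ cjm (h.nE hg) (VE hv))
  have E0 : V ⊔ Z0 ≤ E := sup_le VE ZE
  have el0 := elemAb_of_le E0 h.el
  have m0 : ∀ x ∈ V ⊔ Z0, ∃ w ∈ V, ∃ z ∈ Z0, w * z = x := fun x hx =>
    (mem_sup_of_norm (ZE.trans (h.cc.trans ((cent_anti VE).trans (cent_le_norm V))))).1 hx
  have cV : ∀ g ∈ M, ∀ w ∈ V, g * w * g⁻¹ ∈ V ⊔ Z0 := fun g hg w hw => by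
    by_cases w1 : w = 1
    · simp [w1]
    obtain ⟨k, hk, rfl⟩ := trV w hw w1
    obtain ⟨w', hw', z, hz, e'⟩ := dec _ (cjm (h.nE hg) (VE hw))
    obtain ⟨k', hk', rfl⟩ := trV w' hw' fun c => h.cj_not hg (h.cj_not (h.KM hk) v') (by
      rwa [← e', c, one_mul])
    rw [← e']
    refine mul_mem_sup hw' ((h0 z).2 ⟨hz, k'⁻¹ * g * k,
      mul_mem (mul_mem (inv_mem (h.KM hk')) hg) (h.KM hk), ?_⟩)
    rw [← h.cjz (h.KM hk') hz] at e'
    rw [show v * z = k'⁻¹ * (k' * (v * z) * k'⁻¹) * k' by group, e']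
    group
  have n0 : M ≤ 𝐍((V ⊔ Z0 : Subgroup G)) := fun g hg => mem_norm_of_conj_le fun x hx => by
    obtain ⟨y, hy, rfl⟩ := mem_conj'.1 hx
    obtain ⟨w, hw, z, hz, rfl⟩ := m0 y hy
    rw [h.cjz hg (ZZ hz)]
    exact mul_mem (cV g hg w hw) (mem_sup_right hz)
  have W0 : W ≤ V ⊔ Z0 := fun x hx => by
    obtain ⟨c, hc, rfl⟩ := (hW x).1 hx
    obtain ⟨w, hw, z, hz, rfl⟩ := dec c hc
    have a1 := h.cjz (inv_mem ht) hz w
    have a2 : z * z = 1 := h.ss ((E.mul_mem_cancel_left (VE hw)).1 hc)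
    rw [inv_inv] at a1
    rw [a1, mul_assoc, ← mul_assoc z, h.cZ (h.EM (VE hw)) z hz, mul_assoc w, a2, mul_one]
    exact mul_mem (by simpa using cV _ (inv_mem ht) w hw) (mem_sup_left hw)
  have WZ : ∀ c ∈ E, ∀ z ∈ Z, v⁻¹ * z ≠ t⁻¹ * c * t * c := by
    intro c hc z hz e'
    refine nc ?_
    have a1 := h.om (t * c) (mul_mem ht (h.EM hc)) (by
      rw [show t * c * (t * c) = t * t * (t⁻¹ * c * t * c) by group, ← e', e,
        mul_assoc, ← mul_assoc ζ, h.cZ (inv_mem (h.EM (VE hv))) ζ hζ, mul_assoc,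
        mul_inv_cancel_left]
      exact mul_mem hζ hz) b hb
    rwa [commutatorElement_def, mul_assoc t c b, h.cm hc hb,
      show t * (b * c) * (t * c)⁻¹ = t * b * t⁻¹ by group] at a1
  have dv := h.card_dvd ht t2 (VE hv) v' hζ e h0 hW fun x hx => by
    obtain ⟨w, hw, z, hz, e'⟩ := m0 x (W0 hx)
    obtain ⟨c, hc, rfl⟩ := (hW x).1 hx
    obtain ⟨k, hk, e1⟩ := trV (v * w) (mul_mem hv hw) fun k => WZ c hc z (ZZ hz) (by
      rw [← e', eq_inv_of_mul_eq_one_right k])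
    obtain ⟨-, g, hg, e2⟩ := (h0 z).1 hz
    refine ⟨k * g, mul_mem (h.KM hk) hg, ?_⟩
    rw [← e', ← mul_assoc v, ← e1, ← h.cjz (h.KM hk) (ZZ hz), ← e2]
    group
  obtain ⟨z, hz, hz'⟩ := SetLike.not_le_iff_exists.1 fun k : Z0 ≤ W => nc (by
    have a1 := (H1.eq_of_le_of_card_le k (Nat.le_of_dvd Nat.card_pos dv)).ge
      ((hW _).2 ⟨_, cjm (h.nE ht) hb, rfl⟩)
    have := ZZ a1
    rw [show t⁻¹ * (t * b * t⁻¹) * t * (t * b * t⁻¹) = b * (t * b * t⁻¹) by group,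
      h.cm hb (cjm (h.nE ht) hb)] at this
    rwa [commutatorElement_def, inv_eq_of_mul_eq_one_right (h.ss hb)])
  obtain ⟨H, hH⟩ := exists_hy el0 W0 hz'
  have hH' : Hy (V ⊔ Z0) (H ⊓ Z0) z H := ⟨hH.le, inf_le_left, hH.nm, hH.or⟩
  have tH : t ∈ 𝐍(H) := inv_mem_iff.1 (mem_norm_of_conj_le fun x hx => by
    obtain ⟨y, hy, rfl⟩ := mem_conj'.1 hx
    simpa using mul_mem (hH.ge ((hW _).2 ⟨y, E0 (hH.le hy), rfl⟩)) (inv_mem hy))
  have YZ : ∀ y ∈ Z0, y ∈ H ⊓ Z0 ∨ z * y ∈ H ⊓ Z0 := fun y hy =>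
    (hH.or y (mem_sup_right hy)).imp (⟨·, hy⟩) (⟨·, mul_mem hz hy⟩)
  have Y0 : H ⊓ Z0 ≤ Z0 := inf_le_right
  have zY : z ∉ H ⊓ Z0 := fun c => hH.nm c.1
  generalize H ⊓ Z0 = Y at hH' YZ Y0 zY
  have d0 : ∀ x ∈ V ⊔ Z0, ∃ w ∈ V, ∃ y ∈ Y, w * y = x ∨ w * y = z * x := fun x hx => by
    obtain ⟨w, hw, y, hy, rfl⟩ := m0 x hx
    rcases YZ y hy with c | c
    · exact ⟨w, hw, y, c, Or.inl rfl⟩
    · exact ⟨w, hw, _, c, Or.inr (by rw [← mul_assoc, h.cm (VE hw) (ZE hz), mul_assoc])⟩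
  have cnt := ncard_hy el0 le_sup_left (mem_sup_right hz) d0
  have h00 : Hy (V ⊔ Z0) Y z (V ⊔ Y) := ⟨sup_le_sup_left Y0 V, le_sup_right, fun c => by
    obtain ⟨w, hw, y, hy, e'⟩ := (mem_sup_of_norm ((Y0.trans ZE).trans (h.cc.trans
      ((cent_anti VE).trans (cent_le_norm V))))).1 c
    have := dj w hw ((Z.mul_mem_cancel_right (ZZ (Y0 hy))).1 (e' ▸ ZZ hz))
    rw [this, one_mul] at e'
    exact zY (e' ▸ hy), fun x hx => by
    obtain ⟨w, hw, y, hy, c | c⟩ := d0 x hx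
    exacts [Or.inl (c ▸ mul_mem_sup hw hy), Or.inr (c ▸ mul_mem_sup hw hy)]⟩
  have cj : ∀ g ∈ M, ∀ U, Hy (V ⊔ Z0) Y z U → Hy (V ⊔ Z0) Y z (U ^ᵍ g) := fun g hg U k =>
    hy_conj k (n0 hg) (cent_anti (Y0.trans ZZ) (h.cZ hg)) (h.cZ hg z (ZZ hz)).symm
  have K0 : K ≤ 𝐍((V ⊔ Y : Subgroup G)) := H1.le_normalizer_sup KV
    ((h.KM.trans (h.cZ.trans (cent_anti (Y0.trans ZZ)))).trans (cent_le_norm Y))
  obtain ⟨-, g, hg, eg⟩ := (h0 z).1 hz
  have g0 : g ∉ 𝐍((V ⊔ Y : Subgroup G)) := fun c => h00.nm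
    (((V ⊔ Y).mul_mem_cancel_left (mem_sup_left hv)).1 (eg ▸ cjm c (mem_sup_left hv)))
  have h1 := cj g hg _ h00
  have n1 : ¬ V ≤ (V ⊔ Y) ^ᵍ g := fun c => g0 (conj_eq_self_iff.1
    (H1.eq_of_le_of_card_le (sup_le c h1.ge) (card_conj _ g).le).symm)
  have fr : ∀ k ∈ K, k ∈ 𝐍((V ⊔ Y) ^ᵍ g) → k = 1 := fun k hk hn => by
    by_contra k1
    refine n1 ?_
    refine (H1.commutator_sup_centralizer (zpowers_le.2 (KV hk)) (P7.cop_two_odd (h.pg.to_le VE)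
      (P6.odd_of_le (zpowers_le.2 hk) h.odd)).symm (Or.inl (P6.Inv.solv k))).ge.trans
      (sup_le (commutator_le.2 fun x hx y hy => ?_) fun x hx => ?_)
    · have y1 := (zpowers_le.2 hn) hy
      by_cases c : x ∈ (V ⊔ Y) ^ᵍ g
      · exact cml y1 c
      rw [commutatorElement_def, mul_assoc, mul_assoc, ← mul_assoc y]
      exact h1.mul el0 (mem_sup_right hz) (mem_sup_left hx)
        (mem_sup_left (cjm (KV ((zpowers_le.2 hk) hy)) (inv_mem hx)))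
        c fun c' => c (inv_mem_iff.1 ((mem_normalizer_iff.1 y1 _).2 c'))
    · by_cases c : x ∈ Z
      · rw [dj x hx.1 c]; exact one_mem _
      refine absurd (h.fr k hk x (VE hx.1) c ?_) k1
      rw [commutatorElement_eq_one_iff_mul_comm.2 (hx.2 k (mem_zpowers k))]
      exact one_mem _
  have inj : Function.Injective fun k : K => ((V ⊔ Y) ^ᵍ g) ^ᵍ (k : G) := fun a c k =>
    Subtype.ext (inv_mul_eq_one.1 (fr _ (mul_mem (inv_mem c.2) a.2) (by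
      simp only at k
      rw [← conj_eq_self_iff, ← conj_conj, k, conj_conj_inv]))).symm
  have sub : insert (V ⊔ Y) (Set.range fun k : K => ((V ⊔ Y) ^ᵍ g) ^ᵍ (k : G)) ⊆
      {U | Hy (V ⊔ Z0) Y z U} := by
    rintro _ (rfl | ⟨k, rfl⟩)
    exacts [h00, cj k (h.KM k.2) _ h1]
  have cV' : 𝐨(V) ≤ 𝐨(K) + 1 := by
    rw [← SetLike.coe_sort_coe, Nat.card_coe_set_eq]
    refine (Set.ncard_le_ncard (t := insert 1 (Set.range fun k : K => (k : G) * v * (k : G)⁻¹))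
      (fun w hw => or_iff_not_imp_left.2 fun w1 => ?_)).trans ((Set.ncard_insert_le _ _).trans
        (Nat.succ_le_succ (Nat.card_coe_set_eq _ ▸ Finite.card_range_le _)))
    obtain ⟨k, hk, e'⟩ := trV w hw w1
    exact ⟨⟨k, hk⟩, e'⟩
  have all := Set.eq_of_subset_of_ncard_le sub (by
    rw [Set.ncard_insert_of_notMem, ← Nat.card_coe_set_eq (Set.range _),
      Nat.card_range_of_injective inj]
    · exact cnt.trans cV'
    rintro ⟨k, e'⟩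
    refine n1 ((le_sup_left (b := Y)).trans (le_of_eq ?_))
    rw [← conj_conj_inv ((V ⊔ Y) ^ᵍ g) k, show _ ^ᵍ (k : G) = _ from e',
      conj_eq_of_mem_norm (inv_mem (K0 k.2))])
  obtain ⟨u, hu, eu⟩ : ∃ u ∈ M, (V ⊔ Y) ^ᵍ u = H := by
    rcases all.ge hH' with c | ⟨k, c⟩
    · exact ⟨1, one_mem _, by rw [conj_one, c]⟩
    · exact ⟨k * g, mul_mem (h.KM k.2) hg, by rw [← conj_conj]; exact c⟩
  rw [← eu, norm_conj] at tH
  obtain ⟨s, hs, rfl⟩ := mem_conj'.1 tH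
  have sM : s ∈ M := by simpa [mul_assoc] using cjm (le_normalizer (inv_mem hu)) ht
  have := ih (M ⊓ 𝐍((V ⊔ Y : Subgroup G))) (inf_lt_left.2 fun c => g0 (c hg))
    (le_inf h.EM (h.cc.trans ((cent_anti (h00.le.trans E0)).trans (cent_le_norm _))))
    (le_inf h.KM K0) s ⟨sM, hs⟩ (by simpa [mul_assoc] using t2.conj u⁻¹)
    ⟨_, cjm (h.nE (inv_mem hu)) (VE hv), ζ, hζ, by
      rw [← h.cjz (inv_mem hu) hζ, ← e]; group⟩ _ (cjm (h.nE (inv_mem hu)) hb)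
  refine nc ?_
  convert cjm (cent_le_norm Z (h.cZ hu)) this using 1
  simp only [commutatorElement_def]
  group

omit h in
theorem main (n : ℕ) : ∀ M : Subgroup G, 𝐨(M) = n → Kl M Z E K → ∀ t ∈ M, Two t →
    (∃ a ∈ E, ∃ z ∈ Z, t * t = a * z) → ∀ b ∈ E, ⁅t, b⁆ ∈ Z := by
  induction n using Nat.strong_induction_on with
  | _ n ih => exact fun M hn h t ht t2 tt b hb => h.step (fun N hN h1 h2 =>
      ih _ (hn ▸ H1.card_lt_of_lt hN) N rfl (h.mono hN.le h1 h2)) ht t2 tt hb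

end Kl

end Cfsg.Agent.P21.OddB

namespace Cfsg.Agent.P21

open Subgroup Cfsg Cfsg.Agent Cfsg.Agent.FT
open scoped commutatorElement

universe u

theorem o1Stmt : O1Stmt.{u} := by
  intro M _ _ 𝒜 A K h y hy
  obtain ⟨H, _, _, f, hf, hc, h2, i2, h𝒜⟩ := h.ci
  have pA : IsPGroup 2 (A.comap f) := (h.two.to_le h.cc).comap_of_ker_isPGroup f h2
  have fA : ∀ {x : H}, x * x ∈ f.ker → f x ∈ A := fun e => (h.mem _).2 (by rwa [← map_mul])
  have cm : ∀ {x y : H}, x * x = 1 → y * y = 1 → x * y = y * x := fun a b =>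
    i2.comm pA (fA (a ▸ one_mem _)) (fA (b ▸ one_mem _)) a b
  obtain ⟨B, hB⟩ : ∃ B : Subgroup H, ∀ x, x ∈ B ↔ x * x = 1 :=
    ⟨⟨⟨⟨{x | x * x = 1}, fun {a b} ha hb => by
      have := cm ha hb
      show a * b * (a * b) = 1
      rw [mul_assoc, ← mul_assoc b, ← this, mul_assoc, hb, mul_one, ha]⟩, mul_one 1⟩,
      fun {a} ha => by
        show a⁻¹ * a⁻¹ = 1
        rw [← mul_inv_rev, ha, inv_one]⟩, fun _ => Iff.rfl⟩
  have BA : ∀ {x : H}, x ∈ B → f x ∈ A := fun e => fA ((hB _).1 e ▸ one_mem _)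
  have AB : ∀ a ∈ A, ∃ b ∈ B, f b = a := fun a ha => by
    by_cases e : a = 1
    · exact ⟨1, one_mem _, by rw [map_one, e]⟩
    obtain ⟨-, b, hb, e'⟩ := (h𝒜 a).1 (h.cls a ha e)
    exact ⟨b, (hB b).2 hb, e'⟩
  have ri : f.ker.relIndex (K.comap f) = 𝐨(K) := by
    rw [relIndex_ker, map_comap_eq_self_of_surjective hf]
  obtain ⟨n, hn⟩ := exists_card_eq_pow Nat.prime_two h2
  obtain ⟨L, L1, L2, L3, L4⟩ := H1.exists_complement_of_coprime (ker_le_comap f K)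
    (by rw [normalizer_eq_top]; exact le_top) (by
      rw [ri, hn]; exact Nat.Coprime.pow_left n (Nat.coprime_two_left.2 h.odd))
  have cf : ∀ {x a : H}, ⁅x, a⁆ ∈ f.ker ↔ f x * f a = f a * f x := fun {x a} => by
    rw [MonoidHom.mem_ker, map_commutatorElement, commutatorElement_eq_one_iff_mul_comm]
  have kl : OddB.Kl ⊤ f.ker B L := ⟨⟨isMulComm_iff_le_cent.2 fun a ha b hb =>
      cm ((hB b).1 hb) ((hB a).1 ha), fun a ha => by rw [pow_two]; exact (hB a).1 ha⟩, le_top,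
    fun g _ => mem_norm_of_conj_le fun x hx => by
      obtain ⟨a, ha, rfl⟩ := mem_conj'.1 hx
      exact (hB _).2 (by rw [conj_mul, (hB a).1 ha]; group),
    fun g _ z hz => (mem_center_iff.1 (hc hz) g).symm, le_top, L4 ▸ ri ▸ h.odd,
    fun a ha a1 b hb b1 => by
      obtain ⟨k, hk, e⟩ := h.tr _ (BA ha) a1 _ (BA hb) b1
      obtain ⟨k, rfl⟩ := hf k
      obtain ⟨l, hl, z, hz, rfl⟩ := mem_sup_of_normal_right.1 (L2.ge hk)
      refine ⟨l, hl, ?_⟩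
      rw [map_mul, MonoidHom.mem_ker.1 hz, mul_one] at e
      simp [MonoidHom.mem_ker, ← e, mul_assoc],
    fun k hk a ha a1 e => mem_bot.1 (L3.le ⟨hk, h.reg _ (L1 hk) _ (BA ha) a1 (cf.1 e)⟩),
    fun x _ hx a ha => cf.2 (h.cc (BA ha) _ (fA hx)),
    fun P _ hP x hx y hy e => (hB _).2 (i2.sq hP hx hy e)⟩
  obtain ⟨t, rfl⟩ := hf y
  obtain ⟨b, hb, e⟩ := AB _ hy
  intro a ha
  obtain ⟨c, hc, rfl⟩ := AB a ha
  refine (cf.1 (OddB.Kl.main _ ⊤ rfl kl t (mem_top t) ?_ ⟨b, hb, b⁻¹ * (t * t), ?_, by group⟩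
    c hc)).symm
  · obtain ⟨k, hk⟩ := pA ⟨t * t, by rwa [mem_comap, map_mul]⟩
    exact ⟨k + 1, by rw [pow_succ', pow_mul, pow_two]; exact congrArg Subtype.val hk⟩
  · simp [MonoidHom.mem_ker, e]

end Cfsg.Agent.P21
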