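/-
P21, theorem ODD, the last case: `C(A) / A` is elementary abelian and squaring is a bijection
onto `A`.
-/
import Cfsg.Agent.P21.ODefs

set_option autoImplicit false
set_option linter.unusedSectionVars false

namespace Cfsg.Agent.P21.OddE

open Subgroup Cfsg Cfsg.Agent Cfsg.Agent.FT Cfsg.Agent.P6
open scoped commutatorElement

universe u

variable {M : Type u} [Group M] [Finite M]

/-- The class of `k w k⁻¹` modulo `A`. -/
def F (A : Subgroup M) [A.Normal] (k w : M) : M ⧸ A := QuotientGroup.mk' A (k * w * k⁻¹)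

/-- `g` maps every element of `C(A)` to a commuting element. -/
def Nz (A : Subgroup M) (g : M) : Prop := ∀ w ∈ 𝐂(A), Commute (g * w * g⁻¹) w

/-- The hypotheses. -/
structure Su (A K : Subgroup M) : Prop where
  cm : A ≤ 𝐂(A)
  el : ∀ a ∈ A, a * a = 1
  sq : ∀ x ∈ 𝐂(A), x * x ∈ A
  inj : ∀ x ∈ 𝐂(A), ∀ y ∈ 𝐂(A), x * x = y * y → x⁻¹ * y ∈ A
  inv : ∀ t : M, t * t = 1 → t ∈ A
  kc : K ≤ 𝐂(K)
  ko : Odd 𝐨(K)
  tr : ∀ a ∈ A, a ≠ 1 → ∀ b ∈ A, b ≠ 1 → ∃ k ∈ K, k * a * k⁻¹ = b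
  nab : ¬ 𝐂(A) ≤ 𝐂(𝐂(A))

variable {A K : Subgroup M} [nA : A.Normal]

local notation "π" => QuotientGroup.mk' A

theorem cR {x : M} (hx : x ∈ 𝐂(A)) (g : M) : g * x * g⁻¹ ∈ 𝐂(A) :=
  (inferInstance : (𝐂(A)).Normal).conj_mem x hx g

omit nA in
theorem cmA {a x : M} (ha : a ∈ A) (hx : x ∈ 𝐂(A)) : Commute a x := mem_cent.1 hx a ha

theorem pi_eq {x y : M} : π x = π y ↔ x⁻¹ * y ∈ A := QuotientGroup.eq

theorem pi_one {x : M} : π x = 1 ↔ x ∈ A := QuotientGroup.eq_one_iff x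

theorem cm_congr {x y z : M} (h : Commute x z) (e : π x = π y) (hz : z ∈ 𝐂(A)) : Commute y z := by
  simpa using h.mul_left (cmA (pi_eq.1 e) hz)

theorem F_cj (k l w : M) : F A k (l * w * l⁻¹) = F A (k * l) w := by
  unfold F; congr 1; group

theorem F_mem {w : M} (hw : w ∈ A) (k : M) : F A k w = 1 := pi_one.2 (nA.conj_mem w hw k)

theorem Nz.inv {g : M} (h : Nz A g) : Nz A g⁻¹ := fun w hw => by
  simpa [mul_assoc] using (h _ (cR hw g⁻¹)).symm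

theorem Nz.congr {g k : M} (h : Nz A g) (e : ∀ w ∈ 𝐂(A), F A g w = F A k w) : Nz A k :=
  fun w hw => cm_congr (h w hw) (e w hw) hw

theorem Nz.sum {k l m : M} (h : Nz A k) (h' : Nz A l)
    (e : ∀ w ∈ 𝐂(A), F A k w * F A l w = F A m w) : Nz A m :=
  fun w hw => cm_congr ((h w hw).mul_left (h' w hw)) ((map_mul _ _ _).trans (e w hw)) hw

namespace Su

variable (h : Su A K)
include h

theorem kk {k l : M} (hk : k ∈ K) (hl : l ∈ K) : k * l = l * k := mem_cent.1 (h.kc hl) k hk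

theorem pi_sq {x : M} (hx : x ∈ 𝐂(A)) : π x * π x = 1 := by
  rw [← map_mul]; exact pi_one.2 (h.sq x hx)

theorem pi_inv {x : M} (hx : x ∈ 𝐂(A)) : (π x)⁻¹ = π x := inv_eq_of_mul_eq_one_right (h.pi_sq hx)

theorem pi_cm {x y : M} (hx : x ∈ 𝐂(A)) (hy : y ∈ 𝐂(A)) : π x * π y = π y * π x := by
  rw [← map_mul, ← h.pi_inv (mul_mem hx hy), map_mul, mul_inv_rev, h.pi_inv hx, h.pi_inv hy]

theorem sq_eq {x y : M} (hx : x ∈ 𝐂(A)) (e : π x = π y) : x * x = y * y := by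
  have h1 := pi_eq.1 e
  calc x * x = x * x * (x⁻¹ * y * (x⁻¹ * y)) := by rw [h.el _ h1, mul_one]
    _ = x * (x * (x⁻¹ * y)) * (x⁻¹ * y) := by group
    _ = y * y := by rw [← (cmA h1 hx).eq]; group

theorem exK {x y : M} (hx : x ∈ 𝐂(A)) (xA : x ∉ A) (hy : y ∈ 𝐂(A)) (yA : y ∉ A) :
    ∃ k ∈ K, F A k x = π y := by
  obtain ⟨k, hk, e⟩ := h.tr _ (h.sq x hx) (mt (h.inv x) xA) _ (h.sq y hy) (mt (h.inv y) yA)
  exact ⟨k, hk, pi_eq.2 (h.inj _ (cR hx k) y hy (by rw [← e]; group))⟩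

theorem exR : ∃ x ∈ 𝐂(A), x ∉ A := SetLike.not_le_iff_exists.1 fun e =>
  h.nab (e.trans (cent_comm.1 le_rfl))

theorem onto {a : M} (ha : a ∈ A) : ∃ z ∈ 𝐂(A), z * z = a := by
  by_cases a1 : a = 1
  · exact ⟨1, one_mem _, by rw [a1, mul_one]⟩
  obtain ⟨x, hx, xA⟩ := h.exR
  obtain ⟨k, -, e⟩ := h.tr _ (h.sq x hx) (mt (h.inv x) xA) a ha a1
  exact ⟨_, cR hx k, by rw [← e]; group⟩

theorem cent_of_fix {g : M} (e : ∀ z ∈ 𝐂(A), F A g z = π z) : g ∈ 𝐂(A) :=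
  mem_cent.2 fun a ha => by
    obtain ⟨z, hz, rfl⟩ := h.onto ha
    exact (mul_inv_eq_iff_eq_mul.1
      ((conj_mul.symm.trans (h.sq_eq (cR hz g) (e z hz)) : g * (z * z) * g⁻¹ = z * z))).symm

theorem sw {k j w1 w : M} (hk : k ∈ K) (hj : j ∈ K) (e : F A j w1 = π w) :
    F A k w = π j * F A k w1 * (π j)⁻¹ := by
  have : F A k w = F A k (j * w1 * j⁻¹) := by
    unfold F at e ⊢
    rw [map_mul, map_mul, ← e, ← map_mul, ← map_mul]
  rw [this, F_cj, h.kk hk hj, ← F_cj, ← map_inv]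
  unfold F
  rw [← map_mul, ← map_mul]

theorem nz_of {k x : M} (hk : k ∈ K) (hx : x ∈ 𝐂(A)) (xA : x ∉ A)
    (c : Commute (k * x * k⁻¹) x) : Nz A k := fun w hw => by
  by_cases wA : w ∈ A
  · exact (cmA wA (cR hw k)).symm
  obtain ⟨j, hj, e⟩ := h.exK hx xA hw wA
  refine cm_congr (cm_congr (c.conj j).symm e (cR (cR hx k) j)).symm ?_ hw
  exact ((map_mul _ _ _).trans (by rw [map_mul, map_inv]; rfl)).trans (h.sw hk hj e).symm

theorem sum {k l : M} (hk : k ∈ K) (hl : l ∈ K) : (∀ w ∈ 𝐂(A), F A k w = F A l w) ∨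
    ∃ m ∈ K, ∀ w ∈ 𝐂(A), F A k w * F A l w = F A m w := by
  refine or_iff_not_imp_left.2 fun hn => ?_
  push Not at hn
  obtain ⟨w1, h1, ne⟩ := hn
  have wA : w1 ∉ A := fun e => ne (by rw [F_mem e, F_mem e])
  obtain ⟨m, hm, e⟩ := h.exK h1 wA (mul_mem (cR h1 k) (cR h1 l)) fun e => ne (mul_right_cancel
    (((map_mul _ _ _).symm.trans (pi_one.2 e)).trans (h.pi_sq (cR h1 l)).symm))
  refine ⟨m, hm, fun w hw => ?_⟩
  by_cases wA' : w ∈ A
  · rw [F_mem wA', F_mem wA', F_mem wA', mul_one]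
  obtain ⟨j, hj, e'⟩ := h.exK h1 wA hw wA'
  rw [h.sw hk hj e', h.sw hl hj e', h.sw hm hj e', e, map_mul, conj_mul]
  rfl

/-- Hua's identity. -/
theorem hua {a b : M} (ha : a ∈ K) (hb : b ∈ K) (na : Nz A a) (nb : Nz A b) :
    Nz A (a * a * b) := by
  have ab : b⁻¹ * (a * b) = a := by rw [h.kk ha hb]; group
  rcases h.sum (inv_mem hb) ha with e | ⟨c, hc, e1⟩
  · refine na.congr fun z hz => ?_
    have := e _ (cR hz (a * b))
    rwa [F_cj, F_cj, ab, ← mul_assoc] at this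
  have nc := nb.inv.sum na e1
  rcases h.sum (inv_mem ha) (inv_mem hc) with e | ⟨d, hd, e2⟩
  · obtain ⟨y, hy, yA⟩ := h.exR
    have k1 := e _ (cR hy (a * c))
    rw [F_cj, F_cj, inv_mul_cancel_left, h.kk ha hc, inv_mul_cancel_left, ← e1 y hy,
      mul_eq_right] at k1
    exact absurd (by simpa [mul_assoc] using nA.conj_mem _ (pi_one.1 k1) b) yA
  have nd := (na.inv.sum nc.inv e2).inv
  refine na.sum nd fun z hz => ?_
  have k1 := e2 _ (cR hz (a * c * d⁻¹ * b))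
  have k2 := e1 _ (cR hz (d⁻¹ * b))
  have k3 := e1 _ (cR hz (a * b))
  simp only [F_cj] at k1 k2 k3
  rw [show a⁻¹ * (a * c * d⁻¹ * b) = c * (d⁻¹ * b) by group,
    show c⁻¹ * (a * c * d⁻¹ * b) = a * (d⁻¹ * b) by rw [h.kk ha hc]; group,
    show d * (a * c * d⁻¹ * b) = c * (a * b) by
      rw [mul_assoc (a * c), ← mul_assoc d, h.kk hd (mul_mem ha hc), h.kk ha hc]; group,
    ← k2, ← k3, ab, mul_assoc, show F A (a * (d⁻¹ * b)) z * F A (a * (d⁻¹ * b)) z = 1 from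
      h.pi_sq (cR hz _), mul_one, h.kk (inv_mem hd) hb, inv_mul_cancel_left] at k1
  rw [k1, ← mul_assoc, show F A a z * F A a z = 1 from h.pi_sq (cR hz _), one_mul, mul_assoc]

theorem nz_mul {a b : M} (ha : a ∈ K) (hb : b ∈ K) (na : Nz A a) (nb : Nz A b) :
    Nz A (a * b) := by
  have pw : ∀ n : ℕ, Nz A (a ^ n) := fun n => by
    induction n using Nat.twoStepInduction with
    | zero => exact fun w _ => by simp
    | one => rwa [pow_one]
    | more n i _ =>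
      have := h.hua ha (pow_mem ha n) na i
      rwa [← pow_two, ← pow_add, add_comm] at this
  obtain ⟨j, hj⟩ := odd_orderOf_of_mem h.ko ha
  have := h.hua (pow_mem ha (j + 1)) hb (pw _) nb
  rwa [← pow_add, show j + 1 + (j + 1) = 2 * j + 1 + 1 by omega, ← hj, pow_succ,
    pow_orderOf_eq_one, one_mul] at this

/-- Commuting is transitive outside `A`. -/
theorem trans {x y z : M} (hx : x ∈ 𝐂(A)) (xA : x ∉ A) (hy : y ∈ 𝐂(A)) (yA : y ∉ A)
    (hz : z ∈ 𝐂(A)) (c1 : Commute y x) (c2 : Commute z x) : Commute z y := by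
  by_cases zA : z ∈ A
  · exact cmA zA hy
  obtain ⟨k, hk, e1⟩ := h.exK hx xA hy yA
  obtain ⟨l, hl, e2⟩ := h.exK hx xA hz zA
  have := h.nz_mul hl (inv_mem hk) (h.nz_of hl hx xA (cm_congr c2 e2.symm hx))
    (h.nz_of hk hx xA (cm_congr c1 e1.symm hx)).inv _ (cR hx k)
  rw [show l * k⁻¹ * (k * x * k⁻¹) * (l * k⁻¹)⁻¹ = l * x * l⁻¹ by group] at this
  exact cm_congr (cm_congr this.symm e1 (cR hx l)).symm e2 hy

/-- The elements that fix all centralizers. -/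
def N0 : Subgroup M where
  carrier := {g | Nz A g}
  one_mem' := fun w _ => by simp
  inv_mem' := Nz.inv
  mul_mem' := fun {g k} h1 h2 w hw => by
    by_cases wA : w ∈ A
    · exact (cmA wA (cR hw _)).symm
    rw [show g * k * w * (g * k)⁻¹ = g * (k * w * k⁻¹) * g⁻¹ by group]
    exact h.trans (cR hw k) (fun e => wA (by simpa [mul_assoc] using nA.conj_mem _ e k⁻¹)) hw wA
      (cR (cR hw k) g) (h2 w hw).symm (h1 _ (cR hw k))

theorem N0_normal : h.N0.Normal := ⟨fun g hg k w hw => by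
  have := (hg _ (cR hw k⁻¹)).conj k
  convert this using 1 <;> group⟩

theorem F_eq {g z : M} (hg : g ∈ 𝐂(A)) (hz : z ∈ 𝐂(A)) : F A g z = π z := by
  unfold F
  rw [map_mul, map_mul, h.pi_cm hg hz, map_inv, mul_inv_cancel_right]

theorem cent_of_nz {g x : M} (hg : Nz A g) (hx : x ∈ 𝐂(A)) (xA : x ∉ A) (e : F A g x = π x) :
    g ∈ 𝐂(A) := by
  have Fm : ∀ y z, F A g (y * z) = F A g y * F A g z := fun y z => by
    unfold F; rw [← map_mul, conj_mul]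
  have s1 : ∀ z ∈ 𝐂(A), ¬ Commute z x → F A g z = π z := fun z hz nc => by
    by_contra uA
    have hu := mul_mem (inv_mem hz) (cR hz g)
    have c1 : Commute (z⁻¹ * (g * z * g⁻¹)) z := (Commute.refl z).inv_left.mul_left (hg z hz)
    have c2 := (Commute.refl (x * z)).inv_left.mul_left (cm_congr (y := x * (g * z * g⁻¹))
      (hg _ (mul_mem hx hz)) ((Fm x z).trans (by rw [e, map_mul]; rfl)) (mul_mem hx hz))
    rw [show (x * z)⁻¹ * (x * (g * z * g⁻¹)) = z⁻¹ * (g * z * g⁻¹) by group] at c2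
    exact nc (h.trans hu (fun k => uA (pi_eq.2 k).symm) hz (fun k => nc (cmA k hx)) hx c1.symm
      (by simpa using (c2.mul_right c1.inv_right).symm)).symm
  obtain ⟨z0, h0, n0⟩ : ∃ z ∈ 𝐂(A), ¬ Commute z x := by
    by_contra hn
    push Not at hn
    refine h.nab fun y hy => mem_cent.2 fun z hz => ?_
    by_cases yA : y ∈ A
    · exact (cmA yA hz).symm
    exact h.trans hx xA hy yA hz (hn y hy) (hn z hz)
  refine h.cent_of_fix fun z hz => by_contra fun ne => ne ?_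
  have c : Commute z x := by_contra fun c => ne (s1 z hz c)
  have := s1 _ (mul_mem h0 hz) fun k => n0 (by simpa using k.mul_left c.inv_left)
  rwa [Fm, s1 z0 h0 n0, map_mul, mul_right_inj] at this

/-- The case of large centralizers. -/
theorem big {t x y : M} (tt : t * t ∈ 𝐂(A)) (hx : x ∈ 𝐂(A)) (xA : x ∉ A) (e : F A t x = π x)
    (hy : y ∈ 𝐂(A)) (yA : y ∉ A) (c : Commute y x) (ne : π y ≠ π x) : t ∈ 𝐂(A) := by
  refine h.cent_of_nz (show t ∈ h.N0 from by_contra fun tN => ?_) hx xA e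
  have := h.N0_normal
  obtain ⟨k, hk, e1⟩ := h.exK hx xA hy yA
  have kN : k ∈ h.N0 := h.nz_of hk hx xA (cm_congr c e1.symm hx)
  obtain ⟨k0, h0, hp⟩ := exists_prime_pow_mem (x := k) fun k1 => ne (by
    rw [← e1, k1]; unfold F; simp)
  have k0K := zpowers_le.2 hk h0
  have o0 := odd_orderOf_of_mem h.ko k0K
  have p2 : orderOf k0 ≠ 2 := fun k => by rw [k] at o0; exact absurd o0 (by decide)
  obtain ⟨P, hP, kP⟩ := exists_isSyl_ge hp (isPGroup_of_card_prime (X := zpowers k0)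
    (Nat.card_zpowers k0)) (zpowers_le.2 (zpowers_le.2 kN h0))
  have nN : ⊤ ≤ 𝐍(h.N0) := normal_iff_top_le.1 this
  obtain ⟨n, hn, g, hg, rfl⟩ := (mem_sup_of_norm (inf_le_left.trans nN)).1
    ((hP.frattini hp ⟨le_top, nN⟩).ge (mem_top t))
  obtain ⟨a, ha, ia⟩ : ∃ a ∈ 𝐍(P), Inv a := by
    by_contra hc
    push Not at hc
    refine tN (mul_mem hn (mem_of_sq_mem (odd_orderOf_of_mem (odd_of_no_inv hc) hg.2) ?_))
    have t2 : n * g * (n * g) ∈ h.N0 := fun w hw =>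
      cm_congr (Commute.refl w) (h.F_eq tt hw).symm hw
    have := mul_mem (inv_mem (mul_mem hn (this.conj_mem n hn g))) t2
    convert this using 1
    group
  have aA := h.inv a ia.sq
  have k1 : ⁅k0, a⁆ = 1 := eq_one_of_odd_of_mem (P := A) (fun z => ⟨1, Subtype.ext (by
      simpa [pow_two] using h.el z z.2)⟩)
    (P14.cmr (normal_iff_top_le.1 nA (mem_top k0)) aA) (odd_orderOf_of_mem
      (odd_of_isPGroup hp p2 hP.pgrp) (P14.cml ha (kP (mem_zpowers k0))))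
  have k2 : k0 ∈ 𝐂(A) := mem_cent.2 fun b hb => by
    by_cases b1 : b = 1
    · simp [b1]
    obtain ⟨j, hj, rfl⟩ := h.tr a aA ia.ne b hb b1
    calc j * a * j⁻¹ * k0 = j * (a * k0) * j⁻¹ := by
          rw [mul_assoc, h.kk (inv_mem hj) k0K]; group
      _ = k0 * j * a * j⁻¹ := by
          rw [← commutatorElement_eq_one_iff_mul_comm.1 k1, h.kk k0K hj]; group
      _ = _ := by group
  have k3 : orderOf k0 ∣ 2 ^ 2 := orderOf_dvd_of_pow_eq_one (by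
    rw [← h.el _ (h.sq k0 k2), pow_two, pow_mul, pow_two, pow_two])
  exact p2 ((Nat.prime_dvd_prime_iff_eq hp Nat.prime_two).1 (hp.dvd_of_dvd_pow k3))

/-- The case of small centralizers. -/
theorem small {t w0 : M} (h0 : w0 ∈ 𝐂(A)) (ne : F A t w0 ≠ π w0) {x : M}
    (ex : x = w0⁻¹ * (t * w0 * t⁻¹)) (e : F A t x = π x)
    (hc : ∀ y ∈ 𝐂(A), Commute y x → y ∈ A ∨ π y = π x) : False := by
  have hx : x ∈ 𝐂(A) := ex ▸ mul_mem (inv_mem h0) (cR h0 t)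
  have xA : x ∉ A := fun k => ne (pi_eq.2 (ex ▸ k)).symm
  have cA : ∀ w ∈ 𝐂(A), ⁅w, x⁆ ∈ A := fun w hw => pi_one.1 (by
    rw [map_commutatorElement, commutatorElement_eq_one_iff_mul_comm, h.pi_cm hw hx])
  have cmul : ∀ v ∈ 𝐂(A), ∀ w ∈ 𝐂(A), ⁅v * w, x⁆ = ⁅w, x⁆ * ⁅v, x⁆ := fun v hv w hw => by
    rw [show ⁅v * w, x⁆ = v * ⁅w, x⁆ * v⁻¹ * ⁅v, x⁆ by simp only [commutatorElement_def]; group,
      ← (cmA (cA w hw) hv).eq, mul_inv_cancel_right]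
  let P : Subgroup M :=
    { carrier := {w | w ∈ 𝐂(A) ∧ ⁅w, x⁆ ∈ 𝐂[t]}
      one_mem' := ⟨one_mem _, by simp⟩
      mul_mem' := fun {v w} a b => ⟨mul_mem a.1 b.1, by
        rw [cmul v a.1 w b.1]; exact mul_mem b.2 a.2⟩
      inv_mem' := fun {v} a => ⟨inv_mem a.1, by
        have := cmul _ (inv_mem a.1) v a.1
        rw [inv_mul_cancel, commutatorElement_one_left] at this
        rw [eq_inv_of_mul_eq_one_right this.symm]
        exact inv_mem a.2⟩ }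
  have mP : ∀ w ∈ 𝐂(A), Commute (w⁻¹ * (t * w * t⁻¹)) x → w ∈ P := fun w hw c => ⟨hw, by
    have a1 := cmA (pi_eq.1 e.symm) (cR hw t)
    rw [mem_cent1_comm, mem_cent1_iff_conj]
    calc t * ⁅w, x⁆ * t⁻¹ = t * w * t⁻¹ * x * (x⁻¹ * (t * x * t⁻¹) * (t * w * t⁻¹)⁻¹) *
          (t * x * t⁻¹)⁻¹ := by simp only [commutatorElement_def]; group
      _ = w * (w⁻¹ * (t * w * t⁻¹) * x) * (t * w * t⁻¹)⁻¹ * x⁻¹ := by
          rw [a1.inv_right.eq]; group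
      _ = _ := by rw [c.eq]; simp only [commutatorElement_def]; group⟩
  have mC : ∀ w, w ∈ 𝐂(A) ⊓ 𝐂[π t].comap π ↔ w ∈ 𝐂(A) ∧ F A t w = π w := fun w => by
    rw [mem_inf, mem_comap, mem_cent1_comm, mem_cent1_iff_conj, ← map_inv, ← map_mul, ← map_mul]
    rfl
  have lt : 𝐂(A) ⊓ 𝐂[π t].comap π < P := lt_of_le_of_ne (fun w hw => mP w hw.1
    (cmA (pi_eq.1 ((mC w).1 hw).2.symm) hx)) fun k =>
      ne ((mC w0).1 (k.ge (mP w0 h0 (ex ▸ Commute.refl x)))).2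
  choose! r r1 r2 using fun a => h.onto (a := a)
  have n4 : 𝐨(A) * 𝐨((A ⊓ 𝐂[t] : Subgroup M)) ≤ 𝐨((𝐂(A) ⊓ 𝐂[π t].comap π : Subgroup M)) := by
    rw [← Nat.card_prod]
    refine Nat.card_le_card_of_injective (fun z => ⟨r z.2 * z.1, mul_mem ((mC _).2
      ⟨r1 _ z.2.2.1, pi_eq.2 (h.inj _ (cR (r1 _ z.2.2.1) t) _ (r1 _ z.2.2.1) (by
        rw [conj_mul, r2 _ z.2.2.1]
        exact mem_cent1_iff_conj.1 (mem_cent1_comm.1 z.2.2.2)))⟩)
      ((mC _).2 ⟨h.cm z.1.2, (F_mem z.1.2 t).trans (pi_one.2 z.1.2).symm⟩)⟩) fun z z' k => ?_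
    have k1 : r z.2 * z.1 = r z'.2 * z'.1 := congrArg Subtype.val k
    have k2 : z.2 = z'.2 := Subtype.ext (by
      rw [← r2 _ z.2.2.1, ← r2 _ z'.2.2.1]
      refine h.sq_eq (r1 _ z.2.2.1) ?_
      have := congrArg π k1
      rwa [map_mul, map_mul, pi_one.2 z.1.2, pi_one.2 z'.1.2, mul_one, mul_one] at this)
    rw [k2, mul_right_inj] at k1
    exact Prod.ext (Subtype.ext k1) k2
  have n3 : 𝐨((𝐂(A) ⊓ 𝐂[π t].comap π : Subgroup M)) * 2 ≤ 𝐨(P) := by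
    rw [← H1.card_mul_relIndex lt.le]
    refine Nat.mul_le_mul_left _ ?_
    have a1 := mt relIndex_eq_one.1 lt.not_ge
    have a2 : (𝐂(A) ⊓ 𝐂[π t].comap π).relIndex P ≠ 0 := index_ne_zero_of_finite
    omega
  have n2 : 𝐂[x].relIndex P < 𝐨((A ⊓ 𝐂[t] : Subgroup M)) := by
    rw [← ncard_class, ← Set.ncard_image_of_injective _ (mul_left_injective x⁻¹)]
    refine Set.ncard_lt_ncard (t := ((A ⊓ 𝐂[t] : Subgroup M) : Set M)) ⟨?_, fun k => ?_⟩
    · rintro _ ⟨_, ⟨w, hw, rfl⟩, rfl⟩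
      exact ⟨cA w hw.1, hw.2⟩
    · obtain ⟨_, ⟨w, hw, rfl⟩, k1⟩ := k (inv_mem (show x * x ∈ A ⊓ 𝐂[t] from ⟨h.sq x hx,
        mem_cent1_comm.1 (mem_cent1_iff_conj.2 (conj_mul.symm.trans (h.sq_eq (cR hx t) e)))⟩))
      have k2 : w * x * w⁻¹ = x⁻¹ := mul_right_cancel (k1.trans (mul_inv_rev x x))
      exact xA (by simpa using h.inj w hw.1 _ (mul_mem hw.1 hx) (by
        calc w * w = w * x * w⁻¹ * (w * w * x) := by
              rw [k2, (cmA (h.sq w hw.1) hx).eq, inv_mul_cancel_left]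
          _ = _ := by group))
  have n1 : 𝐨((𝐂[x] ⊓ P : Subgroup M)) ≤ 𝐨(A) + 𝐨(A) := by
    refine (Set.ncard_le_ncard (t := A ∪ (x * ·) '' A) fun y hy => ?_).trans
      ((Set.ncard_union_le _ _).trans (by
        rw [Set.ncard_image_of_injective _ (mul_right_injective x)]; rfl))
    exact (hc y hy.2.1 (mem_cent1_iff_commute.1 (mem_cent1_comm.1 hy.1))).imp_right
      fun k => ⟨_, pi_eq.1 k.symm, by simp⟩
  have n0 := H1.card_mul_relIndex (inf_le_right : 𝐂[x] ⊓ P ≤ P)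
  rw [inf_relIndex_right] at n0
  have : 0 < 𝐨(A) := Nat.card_pos
  nlinarith

theorem mem_cent {t : M} (tt : t * t ∈ 𝐂(A)) : t ∈ 𝐂(A) := by
  by_contra hn
  obtain ⟨w0, h0, ne⟩ : ∃ w ∈ 𝐂(A), F A t w ≠ π w := by
    by_contra hc
    push Not at hc
    exact hn (h.cent_of_fix hc)
  have hx := mul_mem (inv_mem h0) (cR h0 t)
  have e : F A t (w0⁻¹ * (t * w0 * t⁻¹)) = π (w0⁻¹ * (t * w0 * t⁻¹)) := by
    rw [← h.pi_inv hx, ← map_inv, mul_inv_rev, inv_inv, map_mul, ← h.F_eq tt h0]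
    unfold F
    rw [← map_mul]
    congr 1
    group
  refine h.small h0 ne rfl e fun y hy c => by_contra fun k => ?_
  push Not at k
  exact hn (h.big tt hx (fun k => ne (pi_eq.2 k).symm) e hy k.1 c k.2)

end Su

theorem mem_cent (cm : A ≤ 𝐂(A)) (el : ∀ a ∈ A, a * a = 1) (sq : ∀ x ∈ 𝐂(A), x * x ∈ A)
    (inj : ∀ x ∈ 𝐂(A), ∀ y ∈ 𝐂(A), x * x = y * y → x⁻¹ * y ∈ A)
    (inv : ∀ t : M, t * t = 1 → t ∈ A) (kc : K ≤ 𝐂(K)) (ko : Odd 𝐨(K))
    (tr : ∀ a ∈ A, a ≠ 1 → ∀ b ∈ A, b ≠ 1 → ∃ k ∈ K, k * a * k⁻¹ = b)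
    (nab : ¬ 𝐂(A) ≤ 𝐂(𝐂(A))) {t : M} (tt : t * t ∈ 𝐂(A)) : t ∈ 𝐂(A) :=
  Su.mem_cent ⟨cm, el, sq, inj, inv, kc, ko, tr, nab⟩ tt

end Cfsg.Agent.P21.OddE

namespace Cfsg.Agent.P21

universe u

theorem o3Stmt : O3Stmt.{u} := fun _ _ _ _ _ _ h nab sq inj _ tt =>
  have := h.normal
  OddE.mem_cent h.cc (fun _ => h.sq) sq inj (fun t => (h.mem t).2) h.comm h.odd h.tr nab tt

end Cfsg.Agent.P21
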