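/-
P21, chapter ODD: the theorem.
-/
import Cfsg.Agent.P21.OddB
import Cfsg.Agent.P21.Odd2
import Cfsg.Agent.P21.OddE

namespace Cfsg.Agent.P21

universe u

theorem oddStmt : OddStmt.{u} := odd_of o1Stmt o2Stmt o3Stmt

end Cfsg.Agent.P21
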