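/-
P21: chapter C.
-/
import Cfsg.Agent.P21.CA
import Cfsg.Agent.P21.CB
import Cfsg.Agent.P21.D3
import Cfsg.Agent.P21.DJ
import Cfsg.Agent.P21.DN
import Cfsg.Agent.P21.DO
import Cfsg.Agent.P21.OW
import Cfsg.Agent.P21.Odd

set_option autoImplicit false

namespace Cfsg.Agent.P14.C

universe u

theorem doStmt : DOStmt.{u} := fun _ _ _ _ _ _ _ h _ _ hne _ hn n3 c _ hE o =>
  h.od_bot hne hn n3 c hE o

theorem djStmt : DJStmt.{u} := fun _ _ _ _ _ _ _ h _ _ hne _ hS od p2 dl _ ko kD kfix kc kA _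
  line blk => h.two_cent hne hS od p2 dl ko kD kfix kc kA line blk

theorem mdStmt : MdStmt.{u} := fun _ _ _ _ _ _ _ h =>
  h.kn_of_all (h.all_of doStmt djStmt) (h.odd (h.all_of doStmt djStmt) P21.oddStmt)

theorem c8Stmt : P21.C8Stmt.{u} := c8_of cb4 mdStmt

end Cfsg.Agent.P14.C
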