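/-
P21, chapter C: a Sylow subgroup of a two point stabilizer with exactly two fixed points.
-/
import Cfsg.Agent.P21.C5

set_option autoImplicit false
set_option linter.unusedSectionVars false

namespace Cfsg.Agent.P14.C

open Subgroup Cfsg Cfsg.Agent Cfsg.Agent.FT MulAction Cfsg.Agent.P6

universe u v

variable {G : Type u} [Group G] [Finite G] [ICl G] {Ω : Type v} [MulAction G Ω]

theorem Pin0.syl_two {𝒜 : Set G} (h : Pin0 𝒜 Ω) (hc : IComm G Ω) : ∃ l : ℕ, l.Prime ∧ l ≠ 2 ∧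
    (∀ (α : Ω) (A : Subgroup G), Pt (stabilizer G α) A → l ∣ 𝐨(A) - 1) ∧
    ∀ α β : Ω, α ≠ β → ∀ R : Subgroup G, IsSyl l R (St2 G α β) → ∀ γ : Ω, α ≠ γ →
      R ≤ stabilizer G γ → γ = β := by
  obtain ⟨n, h3, hA⟩ := h.exists_n
  obtain ⟨l, hl, l2, hd, ho⟩ := exists_prime_ndvd (n := n) (by omega)
  refine ⟨l, hl, l2, fun α A hP => hA α A hP ▸ hd, fun α β hne R hR γ h1 h2 => ?_⟩
  obtain ⟨A, hP⟩ := h.pt α
  exact h.syl_fix hP hl l2 hd ho (hA α A hP) (hc.nw hl l2) hne hR h1 h2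

end Cfsg.Agent.P14.C
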